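import Cfsg.Agent.OddHalf.D6.QThree.NIB.Hyp
import Cfsg.Agent.OddHalf.D6.QThree.NISolv

/-!
# ODD half, D6, `q = 3`: normal 2-subgroups of `C_X(t)` and the solvability of `C_X(t)` (helper135)

`exists_xyb`: a 2-element `n` of `C_X(t)` normalising `R = Q₁ Q₂` with `[n, a₁], [n, a₂] ∈ R` lies in `R B`.
`solvable`: `C_X(t)` is solvable, if the elements of `B` are 2-elements.
-/

set_option autoImplicit false

namespace Cfsg.Agent.OddHalf.D6.QThree.TS.Rad

open Subgroup Cfsg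
open Cfsg.Agent.OddHalf.D6.QThree.NISide
open Cfsg.Agent.OddHalf.D6.QThree.NIFacts
open Cfsg.Agent.OddHalf.D6.QThree.NIB (Bt)

variable {X : Type*} [Group X] {z t a₁ a₂ : X} {Q₁ Q₂ : Subgroup X}

/-- `y ∈ x ⟨z⟩` -/
def E (z x y : X) : Prop := y = x ∨ y = x * z

theorem E.refl (x : X) : E z x x := Or.inl rfl

theorem E.symm (zz : z * z = 1) {x y : X} (h : E z x y) : E z y x := by
  rcases h with rfl | rfl
  · exact Or.inl rfl
  · right; rw [mul_assoc, zz, mul_one]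

theorem E.trans (zz : z * z = 1) {x y w : X} (h : E z x y) (h' : E z y w) : E z x w := by
  rcases h with rfl | rfl
  · exact h'
  · rcases h' with rfl | rfl
    · exact Or.inr rfl
    · left; rw [mul_assoc, zz, mul_one]

theorem E.conj (zc : ∀ x : X, x * z = z * x) (g : X) {x y : X} (h : E z x y) : E z (g * x * g⁻¹) (g * y * g⁻¹) := by
  rcases h with rfl | rfl
  · exact Or.inl rfl
  · right
    calc g * (x * z) * g⁻¹ = g * x * (z * g⁻¹) := by group
      _ = g * x * (g⁻¹ * z) := by rw [zc g⁻¹]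
      _ = g * x * g⁻¹ * z := by group

theorem E.mul (zc : ∀ x : X, x * z = z * x) (zz : z * z = 1) {x y x' y' : X} (h : E z x y) (h' : E z x' y') :
    E z (x * x') (y * y') := by
  rcases h with rfl | rfl <;> rcases h' with rfl | rfl
  · exact Or.inl rfl
  · right; rw [mul_assoc]
  · right
    calc x * z * y' = x * (z * y') := by group
      _ = x * (y' * z) := by rw [zc y']
      _ = x * y' * z := by group
  · left
    calc x * z * (x' * z) = x * (z * x') * z := by group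
      _ = x * (x' * z) * z := by rw [zc x']
      _ = x * x' * (z * z) := by group
      _ = x * x' := by rw [zz, mul_one]

theorem E.comm (zc : ∀ x : X, x * z = z * x) {x y : X} (h : E z x y) : x * y = y * x := by
  rcases h with rfl | rfl
  · rfl
  · calc x * (x * z) = x * (z * x) := by rw [zc x]
      _ = x * z * x := by group

/-- conjugation by an element of `Q` -/
theorem E_of_mem (s : Side z t a₁ Q₁ Q₂) (zc : ∀ x : X, x * z = z * x) (zz : z * z = 1) {x y : X} (hx : x ∈ Q₁)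
    (hy : y ∈ Q₁) : E z x (y * x * y⁻¹) := by
  by_cases h : x * y = y * x
  · left; rw [← h, mul_inv_cancel_right]
  · exact Or.inr (s.comm_eq hx hy h zc zz)

/-- commuting elements outside `⟨z⟩` -/
theorem E_of_comm (s : Side z t a₁ Q₁ Q₂) (zc : ∀ x : X, x * z = z * x) (zz : z * z = 1) (z1 : z ≠ 1) {x y : X}
    (hx : x ∈ Q₁) (hy : y ∈ Q₁) (hx1 : x ≠ 1) (hxz : x ≠ z) (hy1 : y ≠ 1) (hyz : y ≠ z) (hxy : x * y = y * x) :
    E z x y := by
  by_contra hne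
  have hE : ¬ (x * y⁻¹ = 1 ∨ x * y⁻¹ = z) := by
    rintro (h | h)
    · exact hne (Or.inl (mul_inv_eq_one.1 h).symm)
    · apply hne
      right
      rw [mul_inv_eq_iff_eq_mul] at h
      rw [h, ← zc y, mul_assoc, zz, mul_one]
  push Not at hE
  have hxx := s.sq x hx hx1 hxz
  have hyy := s.sq y hy hy1 hyz
  have h1 := s.sq _ (Q₁.mul_mem hx (Q₁.inv_mem hy)) hE.1 hE.2
  have c : Commute x y := hxy
  have h2 : x * y⁻¹ * (x * y⁻¹) = (x * x) * (y * y)⁻¹ := by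
    calc x * y⁻¹ * (x * y⁻¹) = x * (y⁻¹ * x) * y⁻¹ := by group
      _ = x * (x * y⁻¹) * y⁻¹ := by rw [c.symm.inv_left.eq]
      _ = (x * x) * (y * y)⁻¹ := by group
  rw [h2, hxx, hyy, mul_inv_cancel] at h1
  exact z1 h1.symm

/-- the element `a₁` permutes the three classes cyclically -/
theorem exists_three (s : Side z t a₁ Q₁ Q₂) (zc : ∀ x : X, x * z = z * x) (zz : z * z = 1) (z1 : z ≠ 1) :
    ∃ p₀ p₁ p₂ : X, p₀ ∈ Q₁ ∧ p₁ ∈ Q₁ ∧ p₂ ∈ Q₁ ∧ p₀ ≠ 1 ∧ p₀ ≠ z ∧ a₁ * p₀ * a₁⁻¹ = p₁ ∧ a₁ * p₁ * a₁⁻¹ = p₂ ∧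
      E z p₀ (a₁ * p₂ * a₁⁻¹) ∧ ∀ w ∈ Q₁, w ≠ 1 → w ≠ z → E z p₀ w ∨ E z p₁ w ∨ E z p₂ w := by
  obtain ⟨p₀, h₀, h01, h0z⟩ := s.exists_ne
  set p₁ := a₁ * p₀ * a₁⁻¹ with hp₁
  have h₁ : p₁ ∈ Q₁ := s.aQ _ h₀
  have n01 := s.act p₀ h₀ h01 h0z
  rw [← hp₁] at n01
  have ne1 : ∀ {x y : X}, x * y ≠ y * x → x ≠ 1 := by
    rintro x y h rfl; exact h (by rw [one_mul, mul_one])
  have nez : ∀ {x y : X}, x * y ≠ y * x → x ≠ z := by
    rintro x y h rfl; exact h (zc y).symm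
  set p₂ := a₁ * p₁ * a₁⁻¹ with hp₂
  have h₂ : p₂ ∈ Q₁ := s.aQ _ h₁
  have n12 := s.act p₁ h₁ (ne1 n01.symm) (nez n01.symm)
  rw [← hp₂] at n12
  -- `p₂` does not commute with `p₀`
  have key : ∀ x y w : X, x ∈ Q₁ → y ∈ Q₁ → a₁ * x * a₁⁻¹ = y → a₁ * y * a₁⁻¹ = w → x * y ≠ y * x → ¬ E z x w := by
    intro x y w hx hy exy eyw hxy hE
    have h1 : x * y ≠ 1 := by
      intro h
      rw [mul_eq_one_iff_eq_inv] at h
      rw [h] at hxy
      exact hxy (by rw [mul_inv_cancel, inv_mul_cancel])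
    have h2 : x * y ≠ z := by
      intro h
      have h3 : x = z * y⁻¹ := by rw [← h, mul_inv_cancel_right]
      apply hxy
      rw [h3, ← zc y⁻¹]
      calc y⁻¹ * z * y = y⁻¹ * (z * y) := by group
        _ = y⁻¹ * (y * z) := by rw [zc y]
        _ = y * (y⁻¹ * z) := by group
    have h3 := s.act _ (Q₁.mul_mem hx hy) h1 h2
    apply h3
    have h4 : a₁ * (x * y) * a₁⁻¹ = y * w := by rw [← exy, ← eyw, ← exy]; group
    have h5 : E z (y * x) (y * w) := (E.refl y).mul zc zz hE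
    have h6 : E z (x * y) (y * x) := by
      right
      have := s.comm_eq hx hy hxy zc zz
      calc y * x = (y * x * y⁻¹) * y := by group
        _ = x * z * y := by rw [this]
        _ = x * (z * y) := by group
        _ = x * (y * z) := by rw [zc y]
        _ = x * y * z := by group
    rw [h4]
    exact (h6.trans zz h5).comm zc
  have e02 : ¬ E z p₀ p₂ := key p₀ p₁ p₂ h₀ h₁ rfl rfl n01
  have h21 : p₂ ≠ 1 := ne1 n12.symm
  have h2z : p₂ ≠ z := nez n12.symm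
  -- `w` is equivalent to one of them
  have hall : ∀ w ∈ Q₁, w ≠ 1 → w ≠ z → E z p₀ w ∨ E z p₁ w ∨ E z p₂ w := by
    intro w hw hw1 hwz
    by_contra hcon
    push Not at hcon
    obtain ⟨c0, c1, c2⟩ := hcon
    have d0 : p₀ * w ≠ w * p₀ := fun h => c0 (E_of_comm s zc zz z1 h₀ hw h01 h0z hw1 hwz h)
    have d1 : p₁ * w ≠ w * p₁ := fun h =>
      c1 (E_of_comm s zc zz z1 h₁ hw (ne1 n01.symm) (nez n01.symm) hw1 hwz h)
    have d2 : p₂ * w ≠ w * p₂ := fun h => c2 (E_of_comm s zc zz z1 h₂ hw h21 h2z hw1 hwz h)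
    have d02 : p₀ * p₂ ≠ p₂ * p₀ := fun h => e02 (E_of_comm s zc zz z1 h₀ h₂ h01 h0z h21 h2z h)
    -- `p₀ p₁` commutes with `w` and with `p₂`
    have hpr : ∀ v : X, v ∈ Q₁ → p₀ * v ≠ v * p₀ → p₁ * v ≠ v * p₁ → (p₀ * p₁) * v = v * (p₀ * p₁) := by
      intro v hv e0 e1
      have f0 := s.comm_eq h₀ hv e0 zc zz
      have f1 := s.comm_eq h₁ hv e1 zc zz
      have : v * (p₀ * p₁) * v⁻¹ = p₀ * p₁ := by
        calc v * (p₀ * p₁) * v⁻¹ = (v * p₀ * v⁻¹) * (v * p₁ * v⁻¹) := by group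
          _ = p₀ * z * (p₁ * z) := by rw [f0, f1]
          _ = p₀ * (z * p₁) * z := by group
          _ = p₀ * (p₁ * z) * z := by rw [zc p₁]
          _ = p₀ * p₁ * (z * z) := by group
          _ = p₀ * p₁ := by rw [zz, mul_one]
      rw [mul_inv_eq_iff_eq_mul] at this
      exact this.symm
    have g1 : p₀ * p₁ ≠ 1 := by
      intro h
      rw [mul_eq_one_iff_eq_inv] at h
      rw [h] at n01
      exact n01 (by rw [mul_inv_cancel, inv_mul_cancel])
    have g2 : p₀ * p₁ ≠ z := by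
      intro h
      have h3 : p₀ = z * p₁⁻¹ := by rw [← h, mul_inv_cancel_right]
      apply n01
      rw [h3, ← zc p₁⁻¹]
      calc p₁⁻¹ * z * p₁ = p₁⁻¹ * (z * p₁) := by group
        _ = p₁⁻¹ * (p₁ * z) := by rw [zc p₁]
        _ = p₁ * (p₁⁻¹ * z) := by group
    have hm := Q₁.mul_mem h₀ h₁
    have f1 := E_of_comm s zc zz z1 hm hw g1 g2 hw1 hwz (hpr w hw d0 d1)
    have f2 := E_of_comm s zc zz z1 hm h₂ g1 g2 h21 h2z (hpr p₂ h₂ d02 n12)
    exact c2 ((f2.symm zz).trans zz f1)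
  refine ⟨p₀, p₁, p₂, h₀, h₁, h₂, h01, h0z, rfl, rfl, ?_, hall⟩
  have h₃ : a₁ * p₂ * a₁⁻¹ ∈ Q₁ := s.aQ _ h₂
  have n23 := s.act p₂ h₂ h21 h2z
  rcases hall _ h₃ (ne1 n23.symm) (nez n23.symm) with e | e | e
  · exact e
  · exact absurd e (key p₁ p₂ _ h₁ h₂ rfl rfl n12)
  · exact absurd (e.comm zc) n23

/-- a 2-element `n` normalising `Q₁` and commuting with `a₁` modulo `R` acts trivially on `Q₁ / ⟨z⟩` -/
theorem trivial_mod (s : Side z t a₁ Q₁ Q₂) (zc : ∀ x : X, x * z = z * x) (zz : z * z = 1) (z1 : z ≠ 1)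
    (comm : ∀ x ∈ Q₁, ∀ y ∈ Q₂, x * y = y * x) {n : X} (hn : ∃ m : ℕ, n ^ 2 ^ m = 1)
    (hnQ : ∀ q ∈ Q₁, n * q * n⁻¹ ∈ Q₁) (ha : ∃ x ∈ Q₁, ∃ y ∈ Q₂, n * a₁ * n⁻¹ * a₁⁻¹ = x * y) :
    ∀ q ∈ Q₁, n * q * n⁻¹ = q ∨ n * q * n⁻¹ = q * z := by
  obtain ⟨p₀, p₁, p₂, h₀, h₁, h₂, h01, h0z, e1, e2, e3, hall⟩ := exists_three s zc zz z1
  obtain ⟨x, hx, y, hy, exy⟩ := ha
  -- `n` commutes with `a₁` on the classes
  have hna : ∀ q ∈ Q₁, E z (a₁ * (n * q * n⁻¹) * a₁⁻¹) (n * (a₁ * q * a₁⁻¹) * n⁻¹) := by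
    intro q hq
    have h1 := s.aQ _ (hnQ q hq)
    set w := a₁ * (n * q * n⁻¹) * a₁⁻¹ with hw
    have h2 : n * (a₁ * q * a₁⁻¹) * n⁻¹ = (n * a₁ * n⁻¹ * a₁⁻¹) * w * (n * a₁ * n⁻¹ * a₁⁻¹)⁻¹ := by
      rw [hw]; group
    rw [h2, exy]
    have h3 : x * y * w * (x * y)⁻¹ = x * w * x⁻¹ := by
      have c : y * w * y⁻¹ = w := by rw [← comm w h1 y hy, mul_inv_cancel_right]
      calc x * y * w * (x * y)⁻¹ = x * (y * w * y⁻¹) * x⁻¹ := by group
        _ = x * w * x⁻¹ := by rw [c]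
    rw [h3]
    exact E_of_mem s zc zz h1 hx
  have hn₀ := hnQ _ h₀
  have hn1 : n * p₀ * n⁻¹ ≠ 1 := fun h => h01 (conj_eq_one_iff.1 h)
  have hnz : n * p₀ * n⁻¹ ≠ z := by
    intro h
    apply h0z
    calc p₀ = n⁻¹ * (n * p₀ * n⁻¹) * n := by group
      _ = z := by rw [h, zc n⁻¹, inv_mul_cancel_right]
  have f1 := hna p₀ h₀
  rw [e1] at f1
  have f2 := hna p₁ h₁
  rw [e2] at f2
  have f3 := hna p₂ h₂
  -- the subgroup of the elements acting trivially on the classes of `p₀`, `p₁`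
  let H : Subgroup X :=
    { carrier := {g | E z p₀ (g * p₀ * g⁻¹) ∧ E z p₁ (g * p₁ * g⁻¹)}
      one_mem' := ⟨by left; group, by left; group⟩
      mul_mem' := by
        rintro g h ⟨g1, g2⟩ ⟨h1, h2⟩
        constructor
        · have := g1.trans zz (h1.conj zc g)
          have e : g * (h * p₀ * h⁻¹) * g⁻¹ = g * h * p₀ * (g * h)⁻¹ := by group
          rwa [e] at this
        · have := g2.trans zz (h2.conj zc g)
          have e : g * (h * p₁ * h⁻¹) * g⁻¹ = g * h * p₁ * (g * h)⁻¹ := by group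
          rwa [e] at this
      inv_mem' := by
        rintro g ⟨g1, g2⟩
        constructor
        · have := (g1.conj zc g⁻¹).symm zz
          have e : g⁻¹ * (g * p₀ * g⁻¹) * g⁻¹⁻¹ = p₀ := by group
          rwa [e] at this
        · have := (g2.conj zc g⁻¹).symm zz
          have e : g⁻¹ * (g * p₁ * g⁻¹) * g⁻¹⁻¹ = p₁ := by group
          rwa [e] at this }
  have hmem : ∀ g, g ∈ H ↔ (E z p₀ (g * p₀ * g⁻¹) ∧ E z p₁ (g * p₁ * g⁻¹)) := fun g => Iff.rfl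
  -- `n³ ∈ H` is enough
  have h3n : n ^ 3 ∈ H → n ∈ H := by
    intro h
    obtain ⟨m, hm⟩ := hn
    have h1 : orderOf n ∣ 2 ^ m := orderOf_dvd_of_pow_eq_one hm
    have h2 : Nat.Coprime 3 (orderOf n) := (Nat.Coprime.pow_right m (by norm_num)).coprime_dvd_right h1
    obtain ⟨e, he⟩ := exists_pow_eq_self_of_coprime h2
    rw [← he]
    exact H.pow_mem h e
  -- finish from `n ∈ H`
  have hfin : n ∈ H → ∀ q ∈ Q₁, n * q * n⁻¹ = q ∨ n * q * n⁻¹ = q * z := by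
    intro hnH
    let F : Subgroup X :=
      { carrier := {u | E z u (n * u * n⁻¹)}
        one_mem' := by left; group
        mul_mem' := by
          intro u v hu hv
          have := E.mul zc zz (show E z u (n * u * n⁻¹) from hu) (show E z v (n * v * n⁻¹) from hv)
          have e : n * u * n⁻¹ * (n * v * n⁻¹) = n * (u * v) * n⁻¹ := by group
          rw [e] at this
          exact this
        inv_mem' := by
          intro u hu
          rcases (show E z u (n * u * n⁻¹) from hu) with h | h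
          · left
            show n * u⁻¹ * n⁻¹ = u⁻¹
            calc n * u⁻¹ * n⁻¹ = (n * u * n⁻¹)⁻¹ := by group
              _ = u⁻¹ := by rw [h]
          · right
            show n * u⁻¹ * n⁻¹ = u⁻¹ * z
            calc n * u⁻¹ * n⁻¹ = (n * u * n⁻¹)⁻¹ := by group
              _ = z⁻¹ * u⁻¹ := by rw [h, mul_inv_rev]
              _ = z * u⁻¹ := by rw [inv_eq_of_mul_eq_one_right zz]
              _ = u⁻¹ * z := (zc u⁻¹).symm }
    have h1 : Q₁ ≤ F := by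
      refine s.gen zc zz z1 h₀ h01 h0z ((hmem n).1 hnH).1 ?_
      rw [e1]
      exact ((hmem n).1 hnH).2
    exact fun q hq => h1 hq
  apply hfin
  have c3 : ∀ u : X, n ^ 3 * u * (n ^ 3)⁻¹ = n * (n * (n * u * n⁻¹) * n⁻¹) * n⁻¹ := by
    intro u
    rw [pow_succ, pow_two]; group
  rcases hall _ hn₀ hn1 hnz with g0 | g0 | g0
  · refine (hmem n).2 ⟨g0, ?_⟩
    have := (g0.conj zc a₁).trans zz f1
    rwa [e1] at this
  · -- `p₀ → p₁ → p₂ → p₀`
    have g1 : E z p₂ (n * p₁ * n⁻¹) := by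
      have := (g0.conj zc a₁).trans zz f1
      rwa [e2] at this
    have g2 : E z p₀ (n * p₂ * n⁻¹) := e3.trans zz ((g1.conj zc a₁).trans zz f2)
    apply h3n
    rw [hmem, c3, c3]
    constructor
    · have k1 := g0.conj zc n
      have k2 := (g1.trans zz k1).conj zc n
      exact g2.trans zz k2
    · have k1 := g1.conj zc n
      have k2 := (g2.trans zz k1).conj zc n
      exact g0.trans zz k2
  · -- `p₀ → p₂ → p₁ → p₀`
    have g1 : E z p₀ (n * p₁ * n⁻¹) := by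
      have := (g0.conj zc a₁).trans zz f1
      exact e3.trans zz this
    have g2 : E z p₁ (n * p₂ * n⁻¹) := by
      have := (g1.conj zc a₁).trans zz f2
      rwa [e1] at this
    apply h3n
    rw [hmem, c3, c3]
    constructor
    · have k1 := g0.conj zc n
      have k2 := (g2.trans zz k1).conj zc n
      exact g1.trans zz k2
    · have k1 := g1.conj zc n
      have k2 := (g0.trans zz k1).conj zc n
      exact g2.trans zz k2

/-- **a 2-element of `C_X(t)` commuting with `a₁`, `a₂` modulo `R` lies in `R B`** -/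
theorem exists_xyb (s₁ : Side z t a₁ Q₁ Q₂) (s₂ : Side z t a₂ Q₂ Q₁) (zc : ∀ x : X, x * z = z * x)
    (zz : z * z = 1) (z1 : z ≠ 1) (comm : ∀ x ∈ Q₁, ∀ y ∈ Q₂, x * y = y * x) {n : X} (hnt : n * t = t * n)
    (hn : ∃ m : ℕ, n ^ 2 ^ m = 1)
    (hfs : ((∀ q ∈ Q₁, n * q * n⁻¹ ∈ Q₁) ∧ (∀ q ∈ Q₂, n * q * n⁻¹ ∈ Q₂)) ∨
      ((∀ q ∈ Q₁, n * q * n⁻¹ ∈ Q₂) ∧ (∀ q ∈ Q₂, n * q * n⁻¹ ∈ Q₁)))
    (h₁ : ∃ x ∈ Q₁, ∃ y ∈ Q₂, n * a₁ * n⁻¹ * a₁⁻¹ = x * y)
    (h₂ : ∃ x ∈ Q₁, ∃ y ∈ Q₂, n * a₂ * n⁻¹ * a₂⁻¹ = x * y) :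
    ∃ x ∈ Q₁, ∃ y ∈ Q₂, ∃ b, Bt t Q₁ Q₂ b ∧ n = x * y * b := by
  rcases hfs with ⟨hf₁, hf₂⟩ | ⟨hs₁, -⟩
  swap
  · -- no swap
    exfalso
    obtain ⟨x, hx, y, hy, e⟩ := h₁
    obtain ⟨q, hq, hq1, hqz⟩ := s₁.exists_ne
    have hact := s₁.act q hq hq1 hqz
    set u := n * q * n⁻¹ with hu
    have huQ : u ∈ Q₂ := hs₁ q hq
    have h3 : n * (a₁ * q * a₁⁻¹) * n⁻¹ = y * u * y⁻¹ := by
      have c1 : a₁ * u * a₁⁻¹ = u := by rw [s₁.aD u huQ, mul_inv_cancel_right]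
      have hyu : y * u * y⁻¹ ∈ Q₂ := Q₂.mul_mem (Q₂.mul_mem hy huQ) (Q₂.inv_mem hy)
      calc n * (a₁ * q * a₁⁻¹) * n⁻¹ = (n * a₁ * n⁻¹ * a₁⁻¹) * (a₁ * u * a₁⁻¹) * (n * a₁ * n⁻¹ * a₁⁻¹)⁻¹ := by
            rw [hu]; group
        _ = x * y * u * (x * y)⁻¹ := by rw [e, c1]
        _ = x * (y * u * y⁻¹) * x⁻¹ := by group
        _ = y * u * y⁻¹ := by rw [comm x hx _ hyu, mul_inv_cancel_right]
    have h4 : u * (y * u * y⁻¹) = (y * u * y⁻¹) * u := (E_of_mem s₂ zc zz huQ hy).comm zc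
    apply hact
    have h5 : n * (q * (a₁ * q * a₁⁻¹)) * n⁻¹ = n * ((a₁ * q * a₁⁻¹) * q) * n⁻¹ := by
      calc n * (q * (a₁ * q * a₁⁻¹)) * n⁻¹ = u * (n * (a₁ * q * a₁⁻¹) * n⁻¹) := by rw [hu]; group
        _ = (n * (a₁ * q * a₁⁻¹) * n⁻¹) * u := by rw [h3, h4]
        _ = n * ((a₁ * q * a₁⁻¹) * q) * n⁻¹ := by rw [hu]; group
    exact mul_left_cancel (mul_right_cancel h5)
  have g₁ := trivial_mod s₁ zc zz z1 comm hn hf₁ h₁
  have g₂ := trivial_mod s₂ zc zz z1 (fun x hx y hy => (comm y hy x hx).symm) hn hf₂ (by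
    obtain ⟨x, hx, y, hy, e⟩ := h₂
    exact ⟨y, hy, x, hx, by rw [e, comm x hx y hy]⟩)
  obtain ⟨r, hr, hr'⟩ := s₁.exists_inner zc zz z1 g₁
  obtain ⟨r₂, hr₂, hr₂'⟩ := s₂.exists_inner zc zz z1 g₂
  -- `b = n r r₂`
  have c12 : r * r₂ = r₂ * r := comm r hr r₂ hr₂
  set b := n * r * r₂ with hb
  have hbt : b * t = t * b := by
    have d1 : Commute n t := hnt
    have d2 : Commute r t := s₁.ct r hr
    have d3 : Commute r₂ t := s₂.ct r₂ hr₂
    exact (d1.mul_left d2).mul_left d3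
  have hb₁ : ∀ q ∈ Q₁, b * q = q * b := by
    intro q hq
    calc n * r * r₂ * q = n * r * (r₂ * q) := by group
      _ = n * r * (q * r₂) := by rw [comm q hq r₂ hr₂]
      _ = (n * r * q) * r₂ := by group
      _ = q * (n * r) * r₂ := by rw [hr' q hq]
      _ = q * b := by rw [hb]; group
  have hb₂ : ∀ q ∈ Q₂, b * q = q * b := by
    intro q hq
    have e : b = n * r₂ * r := by rw [hb, mul_assoc, c12, ← mul_assoc]
    rw [e]
    calc n * r₂ * r * q = n * r₂ * (r * q) := by group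
      _ = n * r₂ * (q * r) := by rw [comm r hr q hq]
      _ = (n * r₂ * q) * r := by group
      _ = q * (n * r₂) * r := by rw [hr₂' q hq]
      _ = q * (n * r₂ * r) := by group
  have B : Bt t Q₁ Q₂ b := ⟨hbt, hb₁, hb₂⟩
  refine ⟨r⁻¹, Q₁.inv_mem hr, r₂⁻¹, Q₂.inv_mem hr₂, b, B, ?_⟩
  have e1 : n = b * (r⁻¹ * r₂⁻¹) := by
    calc n = n * (r * r₂) * (r * r₂)⁻¹ := by group
      _ = b * (r * r₂)⁻¹ := by rw [hb]; group
      _ = b * (r₂ * r)⁻¹ := by rw [c12]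
      _ = b * (r⁻¹ * r₂⁻¹) := by group
  rw [e1]
  have d1 : Commute b r⁻¹ := (show Commute b r from hb₁ r hr).inv_right
  have d2 : Commute b r₂⁻¹ := (show Commute b r₂ from hb₂ r₂ hr₂).inv_right
  exact (d1.mul_right d2).eq

/-- **`C_X(t)` is solvable**, if the elements of `B` are 2-elements -/
theorem solvable [Finite X] {i j k l a b : X} (f : Frame z i j k l a b) (zc : ∀ x : X, x * z = z * x)
    (nor : ∀ g, g * t = t * g → ∀ r ∈ closure {i, j, k, l}, g * r * g⁻¹ ∈ closure {i, j, k, l})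
    (hB : ∀ g, Bt t f.Q₁ f.Q₂ g → ∃ m : ℕ, g ^ 2 ^ m = 1)
    (s₁ : Side z 1 a f.Q₁ f.Q₂) (s₂ : Side z 1 b f.Q₂ f.Q₁) :
    Group.IsSolvable (centralizer ({t} : Set X)) := by
  classical
  have : Fact (Nat.Prime 2) := ⟨Nat.prime_two⟩
  set C : Subgroup X := centralizer ({t} : Set X) with hC
  have hCt : ∀ g : C, (g : X) * t = t * g := fun g => mem_centralizer_singleton_iff.1 g.2
  set P : X → Prop := fun g => (∀ q ∈ f.Q₁, g * q * g⁻¹ ∈ f.Q₁) ∧ (∀ q ∈ f.Q₂, g * q * g⁻¹ ∈ f.Q₂) with hP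
  set S : X → Prop := fun g => (∀ q ∈ f.Q₁, g * q * g⁻¹ ∈ f.Q₂) ∧ (∀ q ∈ f.Q₂, g * q * g⁻¹ ∈ f.Q₁) with hS
  have hPS : ∀ g : C, P g ∨ S g := fun g => NISolv.fix_or_swap f zc (nor g (hCt g)) s₁ s₂
  have hnot : ∀ g : C, P g → S g → False := by
    intro g h1 h2
    obtain ⟨x, hx, hx1, hxz⟩ := s₁.exists_ne
    rcases s₂.center (h2.1 x hx) (fun q hq => (f.comm _ (h1.1 x hx) q hq)) with h3 | h3
    · apply hx1
      have : x = (g : X)⁻¹ * (g * x * (g : X)⁻¹) * g := by group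
      rw [this, h3]; group
    · apply hxz
      have : x = (g : X)⁻¹ * (g * x * (g : X)⁻¹) * g := by group
      rw [this, h3, zc (g : X)⁻¹]; group
  have e0 : ∀ g h x : X, g * h * x * (g * h)⁻¹ = g * (h * x * h⁻¹) * g⁻¹ := fun g h x => by group
  let chi : C →* ℤˣ :=
    { toFun := fun g => if P g then 1 else -1
      map_one' := by
        have : P (1 : C) := ⟨fun q hq => by simpa using hq, fun q hq => by simpa using hq⟩
        exact if_pos this
      map_mul' := by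
        intro g h
        rcases hPS g with hg | hg <;> rcases hPS h with hh | hh
        · have : P (g * h : C) := ⟨fun q hq => by
            show (g : X) * h * q * ((g : X) * h)⁻¹ ∈ _
            rw [e0]; exact hg.1 _ (hh.1 q hq), fun q hq => by
            show (g : X) * h * q * ((g : X) * h)⁻¹ ∈ _
            rw [e0]; exact hg.2 _ (hh.2 q hq)⟩
          rw [if_pos this, if_pos hg, if_pos hh]; rfl
        · have h1 : S (g * h : C) := ⟨fun q hq => by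
            show (g : X) * h * q * ((g : X) * h)⁻¹ ∈ _
            rw [e0]; exact hg.2 _ (hh.1 q hq), fun q hq => by
            show (g : X) * h * q * ((g : X) * h)⁻¹ ∈ _
            rw [e0]; exact hg.1 _ (hh.2 q hq)⟩
          rw [if_neg (fun h2 => hnot _ h2 h1), if_pos hg, if_neg (fun h2 => hnot _ h2 hh)]; rfl
        · have h1 : S (g * h : C) := ⟨fun q hq => by
            show (g : X) * h * q * ((g : X) * h)⁻¹ ∈ _
            rw [e0]; exact hg.1 _ (hh.1 q hq), fun q hq => by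
            show (g : X) * h * q * ((g : X) * h)⁻¹ ∈ _
            rw [e0]; exact hg.2 _ (hh.2 q hq)⟩
          rw [if_neg (fun h2 => hnot _ h2 h1), if_neg (fun h2 => hnot _ h2 hg), if_pos hh]; rfl
        · have : P (g * h : C) := ⟨fun q hq => by
            show (g : X) * h * q * ((g : X) * h)⁻¹ ∈ _
            rw [e0]; exact hg.2 _ (hh.1 q hq), fun q hq => by
            show (g : X) * h * q * ((g : X) * h)⁻¹ ∈ _
            rw [e0]; exact hg.1 _ (hh.2 q hq)⟩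
          rw [if_pos this, if_neg (fun h2 => hnot _ h2 hg), if_neg (fun h2 => hnot _ h2 hh)]; rfl }
  have hker : ∀ g : C, g ∈ chi.ker → P g := by
    intro g hg
    by_contra h
    have h1 : (if P g then (1 : ℤˣ) else -1) = 1 := hg
    rw [if_neg h] at h1
    exact absurd h1 (by decide)
  -- the kernel acts on the two factors
  have hn1 : ∀ g : chi.ker, ((g : C) : X) ∈ normalizer (f.Q₁ : Set X) := by
    intro g
    rw [mem_normalizer_iff]
    intro q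
    refine ⟨fun hq => (hker g g.2).1 q hq, fun hq => ?_⟩
    have h1 := (hker _ (g⁻¹).2).1 _ hq
    have e : (((g⁻¹ : chi.ker) : C) : X) * (((g : C) : X) * q * ((g : C) : X)⁻¹) * (((g⁻¹ : chi.ker) : C) : X)⁻¹ =
        q := by
      show ((g : C) : X)⁻¹ * (((g : C) : X) * q * ((g : C) : X)⁻¹) * (((g : C) : X)⁻¹)⁻¹ = q
      group
    rwa [e] at h1
  have hn2 : ∀ g : chi.ker, ((g : C) : X) ∈ normalizer (f.Q₂ : Set X) := by
    intro g
    rw [mem_normalizer_iff]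
    intro q
    refine ⟨fun hq => (hker g g.2).2 q hq, fun hq => ?_⟩
    have h1 := (hker _ (g⁻¹).2).2 _ hq
    have e : (((g⁻¹ : chi.ker) : C) : X) * (((g : C) : X) * q * ((g : C) : X)⁻¹) * (((g⁻¹ : chi.ker) : C) : X)⁻¹ =
        q := by
      show ((g : C) : X)⁻¹ * (((g : C) : X) * q * ((g : C) : X)⁻¹) * (((g : C) : X)⁻¹)⁻¹ = q
      group
    rwa [e] at h1
  let ι : chi.ker →* X := C.subtype.comp chi.ker.subtype
  let φ₁ : chi.ker →* MulAut f.Q₁ := f.Q₁.normalizerMonoidHom.comp (ι.codRestrict _ hn1)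
  let φ₂ : chi.ker →* MulAut f.Q₂ := f.Q₂.normalizerMonoidHom.comp (ι.codRestrict _ hn2)
  have hs1 : Group.IsSolvable (MulAut f.Q₁) := NISolv.solvable_mulAut (NISolv.quat_of_side s₁ zc f.zz f.z1)
  have hs2 : Group.IsSolvable (MulAut f.Q₂) := NISolv.solvable_mulAut (NISolv.quat_of_side s₂ zc f.zz f.z1)
  have hk : Group.IsSolvable (φ₁.prod φ₂).ker := by
    have hmem : ∀ g : (φ₁.prod φ₂).ker, Bt t f.Q₁ f.Q₂ (((g : chi.ker) : C) : X) := by
      intro g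
      have h1 : φ₁ g = 1 ∧ φ₂ g = 1 := by
        have h0 : ((φ₁ g, φ₂ g) : MulAut f.Q₁ × MulAut f.Q₂) = 1 := g.2
        exact ⟨congrArg Prod.fst h0, congrArg Prod.snd h0⟩
      refine ⟨hCt g, ?_, ?_⟩
      · intro x hx
        have h2 : ((φ₁ g ⟨x, hx⟩ : f.Q₁) : X) = x := by rw [h1.1]; rfl
        have h3 : (((g : chi.ker) : C) : X) * x * (((g : chi.ker) : C) : X)⁻¹ = x := h2
        exact mul_inv_eq_iff_eq_mul.1 h3
      · intro x hx
        have h2 : ((φ₂ g ⟨x, hx⟩ : f.Q₂) : X) = x := by rw [h1.2]; rfl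
        have h3 : (((g : chi.ker) : C) : X) * x * (((g : chi.ker) : C) : X)⁻¹ = x := h2
        exact mul_inv_eq_iff_eq_mul.1 h3
    have hp : IsPGroup 2 (φ₁.prod φ₂).ker := by
      intro g
      obtain ⟨m, hm⟩ := hB _ (hmem g)
      refine ⟨m, ?_⟩
      apply Subtype.ext
      apply Subtype.ext
      apply Subtype.ext
      exact hm
    have hnil : Group.IsNilpotent (φ₁.prod φ₂).ker := hp.isNilpotent
    infer_instance
  have hk' : Group.IsSolvable chi.ker :=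
    Group.isSolvable_of_ker_le_range (φ₁.prod φ₂).ker.subtype (φ₁.prod φ₂) (by rw [range_subtype])
  exact Group.isSolvable_of_ker_le_range chi.ker.subtype chi (by rw [range_subtype])

end Cfsg.Agent.OddHalf.D6.QThree.TS.Rad
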