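import Cfsg.Agent.OddHalf.D6.QThree.TS.Hyp
import Cfsg.Agent.OddHalf.D6.QThree.TS.Rad
import Cfsg.Agent.OddHalf.D6.QThree.FrontOut

/-!
# ODD half, D6, `K = L₄(3)`, `T = S`: the hypotheses in `C_G(z)` (helper135, after helper296, bb #16577, #17149)

`PosT K t Qc z T`: the position of `K`, with a Sylow 2-subgroup `T` of `G` centralising `t` and `z`;
`exists_base`: `BaseT`, the swap and (mv) in `C_G(z)`, from the facts `FrontT` on `K`; `exists_hyp`: `HypT`.
-/

set_option autoImplicit false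

namespace Cfsg.Agent.OddHalf.D6.QThree.TS.Inst

open Subgroup Cfsg
open Cfsg.Agent.OddHalf.D8.GlueE (nmh_apply exists_of_conj)
open Cfsg.Agent.OddHalf.D6.QThree.FrontB (BA Z2)
open Cfsg.Agent.OddHalf.D6.QThree.NIFacts
open Cfsg.Agent.OddHalf.D6.QThree.NISide
open Cfsg.Agent.OddHalf.D6.QThree.NIB (Bt)

/-- the position of `K`: `Qc = C(K) ∩ C(t)`; the Sylow 2-subgroup `T` of `G` centralises `t` and `z` -/
structure PosT {G : Type*} [Group G] (K : Subgroup G) (t : G) (Qc : Subgroup G) (z : K) (T : Sylow 2 G) : Prop where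
  tt : t * t = 1
  t1 : t ≠ 1
  nK : ∀ g, g * t = t * g → g ∈ normalizer (K : Set G)
  /-- `C(K) ∩ C(t) = Qc` -/
  cK : ∀ c, c * t = t * c → (∀ x ∈ K, x * c = c * x) → c ∈ Qc
  QK : ∀ y ∈ Qc, ∀ x ∈ K, x * y = y * x
  Qt : ∀ y ∈ Qc, y * t = t * y
  tQ : t ∈ Qc
  Q2 : IsPGroup 2 Qc
  Q1 : ∀ y ∈ Qc, y * y = 1 → y = 1 ∨ y = t
  KQ : ∀ x ∈ K, x ∈ Qc → x = 1
  Tt : ∀ s ∈ T, s * t = t * s
  Tz : ∀ s ∈ T, s * (z : G) = z * s

/-- from the front end -/
theorem PosT.of_start {G : Type*} [Group G] [Finite G] {K : Subgroup G} {t q : G} (st : Front.FE.Start K t q)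
    {z : K} {T : Sylow 2 G} (Tt : ∀ s ∈ T, s * t = t * s) (Tz : ∀ s ∈ T, s * (z : G) = z * s) :
    PosT K t (zpowers q) z T where
  tt := st.tt
  t1 := st.t1
  nK := st.nK
  cK := st.cK
  QK := st.QK
  Qt := st.Qt
  tQ := st.tQ
  Q2 := st.pQ
  Q1 := by
    intro y hy hyy
    by_cases h : y = 1
    · exact Or.inl h
    · exact Or.inr (st.uniq hy hyy h)
  KQ := fun x hx hq => st.cen x hx fun y hy => st.QK x hq y hy
  Tt := Tt
  Tz := Tz

/-- `R = O₂(C_K(z))` is invariant under the automorphisms fixing `z` -/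
theorem aut_R {K : Type*} [Group K] {z : K} {R : Subgroup K} (f : Facts.Base z R) {α : MulAut K} (hα : α z = z) :
    ∀ r ∈ R, α r ∈ R := by
  have h1 : R.map α.toMonoidHom ≤ R := by
    apply f.max _ (f.pR.map _)
    · rintro _ ⟨r, hr, rfl⟩
      show α r * z = z * α r
      have := congrArg α (f.RP r hr)
      rwa [map_mul, map_mul, hα] at this
    · rintro g hg _ ⟨r, hr, rfl⟩
      refine ⟨α.symm g * r * (α.symm g)⁻¹, f.nR _ ?_ r hr, ?_⟩
      · apply α.injective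
        rw [map_mul, map_mul, hα, MulEquiv.apply_symm_apply, hg]
      · show α (α.symm g * r * (α.symm g)⁻¹) = g * α r * g⁻¹
        rw [map_mul, map_mul, map_inv, MulEquiv.apply_symm_apply]
  exact fun r hr => h1 ⟨r, hr, rfl⟩

theorem lift {G : Type*} [Group G] {H : Subgroup G} {z i j k l a b : G} (f : Frame z i j k l a b)
    (hz : z ∈ H) (hi : i ∈ H) (hj : j ∈ H) (hk : k ∈ H) (hl : l ∈ H) (ha : a ∈ H) (hb : b ∈ H) :
    Frame (⟨z, hz⟩ : ↥H) ⟨i, hi⟩ ⟨j, hj⟩ ⟨k, hk⟩ ⟨l, hl⟩ ⟨a, ha⟩ ⟨b, hb⟩ where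
  zz := Subtype.ext f.zz
  z1 := fun e => f.z1 (congrArg Subtype.val e)
  iz := Subtype.ext f.iz
  jz := Subtype.ext f.jz
  kz := Subtype.ext f.kz
  lz := Subtype.ext f.lz
  ii := Subtype.ext f.ii
  jj := Subtype.ext f.jj
  kk := Subtype.ext f.kk
  ll := Subtype.ext f.ll
  ji := Subtype.ext f.ji
  lk := Subtype.ext f.lk
  ki := Subtype.ext f.ki
  li := Subtype.ext f.li
  kj := Subtype.ext f.kj
  lj := Subtype.ext f.lj
  act_a := ⟨Subtype.ext f.act_a.z, Subtype.ext f.act_a.i, Subtype.ext f.act_a.j, Subtype.ext f.act_a.k,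
    Subtype.ext f.act_a.l⟩
  act_b := ⟨Subtype.ext f.act_b.z, Subtype.ext f.act_b.i, Subtype.ext f.act_b.j, Subtype.ext f.act_b.k,
    Subtype.ext f.act_b.l⟩

namespace PosT

variable {G : Type*} [Group G] {K : Subgroup G} {t : G} {Qc : Subgroup G} {z : K} {T : Sylow 2 G}

theorem Kt (P : PosT K t Qc z T) : ∀ x ∈ K, x * t = t * x := P.QK t P.tQ

/-- the action of an element of `C(t)` on `K` -/
noncomputable def al (P : PosT K t Qc z T) (x : G) (hx : x * t = t * x) : MulAut K :=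
  K.normalizerMonoidHom ⟨x, P.nK x hx⟩

theorem al_apply (P : PosT K t Qc z T) {x : G} (hx : x * t = t * x) (c : K) :
    ((P.al x hx c : K) : G) = x * c * x⁻¹ := nmh_apply _ c

theorem al_mul (P : PosT K t Qc z T) {x y : G} (hx : x * t = t * x) (hy : y * t = t * y)
    (hxy : x * y * t = t * (x * y)) : P.al (x * y) hxy = P.al x hx * P.al y hy := by
  rw [al, al, al, ← map_mul]; rfl

theorem al_inv (P : PosT K t Qc z T) {x : G} (hx : x * t = t * x) (hx' : x⁻¹ * t = t * x⁻¹) :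
    P.al x⁻¹ hx' = (P.al x hx)⁻¹ := by
  rw [al, al, ← map_inv]; rfl

theorem al_pow (P : PosT K t Qc z T) {x : G} (hx : x * t = t * x) (n : ℕ) (hx' : x ^ n * t = t * x ^ n) :
    P.al (x ^ n) hx' = (P.al x hx) ^ n := by
  rw [al, al, ← map_pow]; rfl

theorem mem_of_one (P : PosT K t Qc z T) {x : G} (hx : x * t = t * x) (h : P.al x hx = 1) : x ∈ Qc := by
  apply P.cK x hx
  intro y hy
  have h2 := P.al_apply hx ⟨y, hy⟩
  rw [h, MulAut.one_apply] at h2
  have h3 : y = x * y * x⁻¹ := h2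
  exact eq_mul_inv_iff_mul_eq.1 h3

theorem mem_of_conj (P : PosT K t Qc z T) {x : G} (hx : x * t = t * x) {c : K} (h : P.al x hx = MulAut.conj c) :
    (c : G)⁻¹ * x ∈ Qc := by
  have h1 := exists_of_conj (P.nK x hx) h
  have c1 : Commute (c : G) t := P.Kt c c.2
  exact P.cK _ (c1.inv_left.mul_left hx) h1

theorem QZ_of_Z2 (P : PosT K t Qc z T) (zz : z * z = 1) {x : G} (hx : x * t = t * x) (hxz : x * z = z * x)
    (h : Z2 z (P.al x hx)) : x ∈ Qc ∨ x * z ∈ Qc := by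
  rcases h with h | h
  · exact Or.inl (P.mem_of_one hx h)
  · right
    have h1 := P.mem_of_conj hx h
    have h2 : (z : G) * z = 1 := congrArg Subtype.val zz
    have h3 : ((z : G))⁻¹ = z := inv_eq_of_mul_eq_one_left h2
    rwa [h3, ← hxz] at h1

/-- elements of odd order of `C(t)` -/
theorem mem_of_odd [Finite G] (P : PosT K t Qc z T)
    (hout : ∀ α : MulAut K, ∃ n : ℕ, α ^ 2 ^ n ∈ (MulAut.conj : K →* MulAut K).range) {g : G}
    (hg : g * t = t * g) (ho : Odd (orderOf g)) : g ∈ K := by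
  obtain ⟨n, c, hc⟩ := hout (P.al g hg)
  have hgt : g ^ 2 ^ n * t = t * g ^ 2 ^ n := (show Commute g t from hg).pow_left _
  have h1 := P.mem_of_conj hgt (show P.al (g ^ 2 ^ n) hgt = MulAut.conj c by rw [P.al_pow hg, hc])
  set u : G := (c : G)⁻¹ * g ^ 2 ^ n with hu
  obtain ⟨m, hm⟩ := P.Q2 ⟨u, h1⟩
  have hm' : u ^ 2 ^ m = 1 := congrArg Subtype.val hm
  have hcu : Commute (c : G) u := P.QK u h1 c c.2
  have h2 : g ^ 2 ^ n = c * u := by rw [hu]; group
  have h3 : g ^ 2 ^ (n + m) ∈ K := by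
    rw [pow_add, pow_mul, h2, hcu.mul_pow, hm', mul_one]
    exact K.pow_mem c.2 _
  have hco : (2 ^ (n + m)).Coprime (orderOf g) := Nat.Coprime.pow_left _ (Nat.coprime_two_left.2 ho)
  obtain ⟨s, hs⟩ := exists_pow_eq_self_of_coprime hco
  rw [← hs]; exact K.pow_mem h3 _

end PosT

section

variable {G : Type*} [Group G] {K : Subgroup G} {t : G} {Qc : Subgroup G} {z : K} {T : Sylow 2 G} {R : Subgroup K}
  {i j k l a b : K}

theorem mem_map {R : Subgroup K} {x : K} : (x : G) ∈ R.map K.subtype ↔ x ∈ R := FrontOut.mem_map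

theorem az (f : Frame z i j k l a b) : a * z = z * a := mul_inv_eq_iff_eq_mul.1 f.act_a.z
theorem bz (f : Frame z i j k l a b) : b * z = z * b := mul_inv_eq_iff_eq_mul.1 f.act_b.z

/-- **the hypotheses in `C_G(z)`** -/
theorem exists_base [Finite G] (P : PosT K t Qc z T) (f : FrontT z R i j k l a b)
    (hO : pPrimeCore 2 ↥(centralizer ({(z : G)} : Set G)) = ⊥) :
    ∃ (hat : (a : G) ∈ centralizer ({(z : G)} : Set G)) (hbt : (b : G) ∈ centralizer ({(z : G)} : Set G))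
      (Q₁ Q₂ : Subgroup ↥(centralizer ({(z : G)} : Set G))) (S : Sylow 2 ↥(centralizer ({(z : G)} : Set G))),
      BaseT (⟨z, mem_centralizer_singleton_iff.2 rfl⟩ : ↥(centralizer ({(z : G)} : Set G)))
        ⟨t, mem_centralizer_singleton_iff.2 (P.Kt z z.2).symm⟩ ⟨a, hat⟩ ⟨b, hbt⟩ Q₁ Q₂
        (Qc.subgroupOf (centralizer ({(z : G)} : Set G))) S ∧
      (∃ p, p * (⟨t, mem_centralizer_singleton_iff.2 (P.Kt z z.2).symm⟩ : ↥(centralizer ({(z : G)} : Set G))) =
        (⟨t, mem_centralizer_singleton_iff.2 (P.Kt z z.2).symm⟩ : ↥(centralizer ({(z : G)} : Set G))) * p ∧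
        (∀ x ∈ Q₁, p * x * p⁻¹ ∈ Q₂) ∧ ∀ x ∈ Q₂, p * x * p⁻¹ ∈ Q₁) ∧
      (∀ x ∈ S, (∀ y ∈ Q₂, x * y = y * x) →
        ∀ b, Bt (⟨t, mem_centralizer_singleton_iff.2 (P.Kt z z.2).symm⟩ : ↥(centralizer ({(z : G)} : Set G)))
          Q₁ Q₂ b →
        ¬ QZ (Qc.subgroupOf (centralizer ({(z : G)} : Set G)))
          (⟨z, mem_centralizer_singleton_iff.2 rfl⟩ : ↥(centralizer ({(z : G)} : Set G))) b → x * b = b * x →
        ∃ q ∈ Q₁, Bt (⟨t, mem_centralizer_singleton_iff.2 (P.Kt z z.2).symm⟩ : ↥(centralizer ({(z : G)} : Set G)))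
          Q₁ Q₂ (q⁻¹ * x)) ∧
      (∀ y : ↥(centralizer ({(z : G)} : Set G)), y ∈ Q₁ ↔ (y : G) ∈ closure {(i : G), (j : G)}) ∧
      (∀ y : ↥(centralizer ({(z : G)} : Set G)), y ∈ Q₂ ↔ (y : G) ∈ closure {(k : G), (l : G)}) ∧
      ∀ y : ↥(centralizer ({(z : G)} : Set G)), y ∈ S ↔ (y : G) ∈ T := by
  have : Fact (Nat.Prime 2) := ⟨Nat.prime_two⟩
  set X : Subgroup G := centralizer ({(z : G)} : Set G) with hX
  have hKX : ∀ x : K, x * z = z * x → (x : G) ∈ X := fun x hx =>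
    mem_centralizer_singleton_iff.2 (congrArg Subtype.val hx)
  have fG : Frame (z : G) i j k l a b := f.fr.map K.subtype K.subtype_injective
  have hiX := hKX i f.fr.iz
  have hjX := hKX j f.fr.jz
  have hkX := hKX k f.fr.kz
  have hlX := hKX l f.fr.lz
  have haX := hKX a (az f.fr)
  have hbX := hKX b (bz f.fr)
  have hzX := hKX z rfl
  have htz : t * (z : G) = z * t := (P.Kt z z.2).symm
  refine ⟨haX, hbX, ?_⟩
  set z' : ↥X := ⟨z, mem_centralizer_singleton_iff.2 rfl⟩ with hz'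
  set t' : ↥X := ⟨t, mem_centralizer_singleton_iff.2 (P.Kt z z.2).symm⟩ with ht'
  have F : Frame z' (⟨i, hiX⟩ : ↥X) ⟨j, hjX⟩ ⟨k, hkX⟩ ⟨l, hlX⟩ ⟨a, haX⟩ ⟨b, hbX⟩ :=
    lift fG _ _ _ _ _ _ _
  set i' : ↥X := ⟨i, hiX⟩ with hi'
  set j' : ↥X := ⟨j, hjX⟩ with hj'
  set k' : ↥X := ⟨k, hkX⟩ with hk'
  set l' : ↥X := ⟨l, hlX⟩ with hl'
  set a' : ↥X := ⟨a, haX⟩ with ha'
  set b' : ↥X := ⟨b, hbX⟩ with hb'
  have hR : R.map K.subtype = closure ({(i : G), (j : G), (k : G), (l : G)} : Set G) := by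
    rw [f.gR, MonoidHom.map_closure]
    congr 1
    simp [Set.image_insert_eq]
  have hmem : ∀ x : ↥X, x ∈ closure ({i', j', k', l'} : Set ↥X) ↔ (x : G) ∈ R.map K.subtype := by
    intro x
    have h1 : (closure ({i', j', k', l'} : Set ↥X)).map X.subtype = R.map K.subtype := by
      rw [hR, MonoidHom.map_closure]
      congr 1
      simp [Set.image_insert_eq, hi', hj', hk', hl']
    constructor
    · intro hx
      rw [← h1]; exact ⟨x, hx, rfl⟩
    · intro hx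
      rw [← h1] at hx
      obtain ⟨y, hy, hyx⟩ := hx
      have : y = x := Subtype.ext hyx
      rwa [← this]
  have hmem₁ : ∀ y : ↥X, y ∈ F.Q₁ ↔ (y : G) ∈ closure {(i : G), (j : G)} := by
    intro y
    have h1 : F.Q₁.map X.subtype = closure {(i : G), (j : G)} := by
      rw [F.Q₁_eq, MonoidHom.map_closure]
      congr 1
      simp [Set.image_insert_eq, hi', hj']
    rw [← h1]
    constructor
    · intro hy
      exact ⟨y, hy, rfl⟩
    · rintro ⟨x, hx, hxy⟩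
      have : x = y := Subtype.ext hxy
      rwa [← this]
  have hmem₂ : ∀ y : ↥X, y ∈ F.Q₂ ↔ (y : G) ∈ closure {(k : G), (l : G)} := by
    intro y
    have h1 : F.Q₂.map X.subtype = closure {(k : G), (l : G)} := by
      rw [F.Q₂_eq, MonoidHom.map_closure]
      congr 1
      simp [Set.image_insert_eq, hk', hl']
    rw [← h1]
    constructor
    · intro hy
      exact ⟨y, hy, rfl⟩
    · rintro ⟨x, hx, hxy⟩
      have : x = y := Subtype.ext hxy
      rwa [← this]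
  have zc : ∀ x : ↥X, x * z' = z' * x := fun x => Subtype.ext (mem_centralizer_singleton_iff.1 x.2)
  have tt : t' * t' = 1 := Subtype.ext P.tt
  have hXz : ∀ g : ↥X, (g : G) * z = z * g := fun g => mem_centralizer_singleton_iff.1 g.2
  have hval : ∀ {x y : ↥X}, x * y = y * x → (x : G) * y = y * x := fun h => congrArg Subtype.val h
  -- the action
  have alz : ∀ (g : ↥X) (hg : (g : G) * t = t * g), P.al g hg z = z := by
    intro g hg
    apply Subtype.ext
    rw [P.al_apply, hXz g, mul_inv_cancel_right]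
  have nor : ∀ g : ↥X, g * t' = t' * g → ∀ r ∈ closure ({i', j', k', l'} : Set ↥X),
      g * r * g⁻¹ ∈ closure ({i', j', k', l'} : Set ↥X) := by
    intro g hg r hr
    rw [hmem] at hr ⊢
    obtain ⟨r₀, hr₀, e⟩ := hr
    refine ⟨P.al g (hval hg) r₀, aut_R f.toBase (alz g (hval hg)) r₀ hr₀, ?_⟩
    show ((P.al g (hval hg) r₀ : K) : G) = g * r * (g : G)⁻¹
    rw [P.al_apply, ← e]; rfl
  have ct : ∀ x : K, (hx : (x : G) ∈ X) → (⟨x, hx⟩ : ↥X) * t' = t' * ⟨x, hx⟩ := fun x hx =>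
    Subtype.ext (P.Kt x x.2)
  have hone : ∀ x : ↥X, x * 1 = 1 * x := fun x => by rw [one_mul, mul_one]
  have s₁ : Side z' t' a' F.Q₁ F.Q₂ := F.side₁ (ct i hiX) (ct j hjX) (ct k hkX) (ct l hlX) (ct a haX)
  have s₂ : Side z' t' b' F.Q₂ F.Q₁ := F.side₂ (ct i hiX) (ct j hjX) (ct k hkX) (ct l hlX) (ct b hbX)
  have u₁ : Side z' 1 a' F.Q₁ F.Q₂ := F.side₁ (hone _) (hone _) (hone _) (hone _) (hone _)
  have u₂ : Side z' 1 b' F.Q₂ F.Q₁ := F.side₂ (hone _) (hone _) (hone _) (hone _) (hone _)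
  -- `B`
  have BtR : ∀ x : ↥X, Bt t' F.Q₁ F.Q₂ x → ∀ r : ↥X, r ∈ closure ({i', j', k', l'} : Set ↥X) → x * r = r * x := by
    intro x hx r hr
    obtain ⟨y₁, hy₁, y₂, hy₂, e⟩ := F.exists_mul hr
    rw [e]; exact (show Commute x y₁ from hx.2.1 y₁ hy₁).mul_right (hx.2.2 y₂ hy₂)
  have hBA : ∀ (x : ↥X) (hx : Bt t' F.Q₁ F.Q₂ x), BA R (P.al x (hval hx.1)) := by
    intro x hx r hr
    apply Subtype.ext
    have hrX : (r : G) ∈ X := mem_centralizer_singleton_iff.2 (congrArg Subtype.val (f.RP r hr))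
    have h1 := BtR x hx ⟨r, hrX⟩ ((hmem _).2 ⟨r, hr, rfl⟩)
    have h2 : (x : G) * r = r * x := congrArg Subtype.val h1
    rw [P.al_apply, h2, mul_inv_cancel_right]
  have hBsq : ∀ b, Bt t' F.Q₁ F.Q₂ b → b * b ∈ Qc.subgroupOf X := by
    intro x hx
    have h1 : (x : G) * t = t * x := hval hx.1
    have h2 : (x : G) * x * t = t * (x * x) := (show Commute (x : G) t from h1).mul_left h1
    have h3 : P.al ((x : G) * x) h2 = 1 := by rw [P.al_mul h1 h1]; exact f.sq _ (hBA x hx)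
    exact P.mem_of_one h2 h3
  have hB2 : ∀ g, Bt t' F.Q₁ F.Q₂ g → ∃ m : ℕ, g ^ 2 ^ m = 1 := by
    intro g hg
    obtain ⟨m, hm⟩ := P.Q2 ⟨_, hBsq g hg⟩
    have hm' : ((g : G) * g) ^ 2 ^ m = 1 := congrArg Subtype.val hm
    refine ⟨m + 1, Subtype.ext ?_⟩
    show (g : G) ^ 2 ^ (m + 1) = 1
    rw [pow_succ', pow_mul, pow_two, hm']
  have hQB : ∀ q ∈ Qc.subgroupOf X, Bt t' F.Q₁ F.Q₂ q := by
    intro q hq
    have hq' : (q : G) ∈ Qc := hq
    have hK : ∀ y : ↥X, (y : G) ∈ K → q * y = y * q := fun y hy => Subtype.ext (P.QK q hq' y hy).symm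
    have h1 : ∀ y ∈ closure ({i', j', k', l'} : Set ↥X), q * y = y * q := by
      intro y hy
      obtain ⟨r, -, e⟩ := (hmem y).1 hy
      exact hK y (e ▸ r.2)
    exact ⟨Subtype.ext (P.Qt q hq'), fun y hy => h1 y (F.le₁ hy), fun y hy => h1 y (F.le₂ hy)⟩
  have hQZ : ∀ x : ↥X, (hx : (x : G) * t = t * x) → Z2 z (P.al x hx) → QZ (Qc.subgroupOf X) z' x := by
    intro x hx h
    exact P.QZ_of_Z2 f.zz hx (hXz x) h
  have hTX : (T : Subgroup G) ≤ X := fun s hs => mem_centralizer_singleton_iff.2 (P.Tz s hs)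
  have hS : ∀ y : ↥X, y ∈ T.subtype hTX ↔ (y : G) ∈ T := by
    intro y
    show y ∈ (T : Subgroup G).subgroupOf X ↔ _
    rw [mem_subgroupOf]; rfl
  -- normal 2-subgroups of `C_X(t)` and `K`
  have key : ∀ N : Subgroup ↥X, (∀ n ∈ N, n * t' = t' * n) → IsPGroup 2 N →
      (∀ g, g * t' = t' * g → ∀ n ∈ N, g * n * g⁻¹ ∈ N) → ∀ n ∈ N, ∀ c : K, (hc : (c : G) ∈ X) →
      n * (⟨c, hc⟩ : ↥X) * n⁻¹ * (⟨c, hc⟩ : ↥X)⁻¹ ∈ closure ({i', j', k', l'} : Set ↥X) := by
    intro N hNt hN2 hNn n hn c hc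
    rw [hmem]
    set M : Subgroup K := (N.map X.subtype).subgroupOf K with hM
    have h1 : M ≤ R := by
      apply f.max M ((hN2.map _).comap_of_injective K.subtype K.subtype_injective)
      · rintro m ⟨y, -, hy⟩
        apply Subtype.ext
        have hy' : (y : G) = m := hy
        show (m : G) * z = z * m
        rw [← hy']; exact hXz y
      · rintro g hg m ⟨y, hy, hym⟩
        have hgX : (g : G) ∈ X := hKX g hg
        refine ⟨_, hNn ⟨g, hgX⟩ (ct g hgX) y hy, ?_⟩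
        have hym' : (y : G) = m := hym
        show (g : G) * y * (g : G)⁻¹ = g * m * (g : G)⁻¹
        rw [hym']
    have hnt : (n : G) * t = t * n := hval (hNt n hn)
    have h2 : P.al n hnt c * c⁻¹ ∈ M := by
      refine ⟨n * ((⟨c, hc⟩ : ↥X) * n⁻¹ * (⟨c, hc⟩ : ↥X)⁻¹), N.mul_mem hn (hNn _ (ct c hc) _ (N.inv_mem hn)), ?_⟩
      show (n : G) * ((c : G) * (n : G)⁻¹ * (c : G)⁻¹) = ((P.al n hnt c : K) : G) * (c : G)⁻¹
      rw [P.al_apply]; group
    refine ⟨_, h1 h2, ?_⟩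
    show ((P.al n hnt c : K) : G) * (c : G)⁻¹ = (n : G) * c * (n : G)⁻¹ * (c : G)⁻¹
    rw [P.al_apply]
  refine ⟨F.Q₁, F.Q₂, T.subtype hTX,
    { zc := zc
      zz := F.zz
      z1 := F.z1
      tt := tt
      t1 := fun e => P.t1 (congrArg Subtype.val e)
      tz := fun e => by
        have e1 : t = z := congrArg Subtype.val e
        exact P.t1 (P.KQ t (e1 ▸ z.2) P.tQ)
      O := hO
      sol := Rad.solvable F zc nor hB2 u₁ u₂
      s₁ := s₁
      s₂ := s₂
      comm := F.comm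
      nor := fun g hg x hx y hy => F.exists_mul (nor g hg _ (mul_mem (F.le₁ hx) (F.le₂ hy)))
      rad := ?_
      odd := ?_
      oa₁ := by
        have h1 : orderOf a' = orderOf a := by
          rw [← Subgroup.orderOf_coe a', ← Subgroup.orderOf_coe a]
        rw [h1]; exact f.oa
      oa₂ := by
        have h1 : orderOf b' = orderOf b := by
          rw [← Subgroup.orderOf_coe b', ← Subgroup.orderOf_coe b]
        rw [h1]; exact f.ob
      St := fun s hs => Subtype.ext (P.Tt s ((hS s).1 hs))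
      QB := hQB
      Q2 := P.Q2.comap_of_injective X.subtype X.subtype_injective
      Qt := P.tQ
      Q1 := ?_
      Bsq := hBsq
      Bu := ?_ }, ?_, ?_, hmem₁, hmem₂, hS⟩
  · -- rad
    intro N hNt hN2 hNn n hn
    obtain ⟨m, hm⟩ := hN2 ⟨n, hn⟩
    exact Rad.exists_xyb s₁ s₂ zc F.zz F.z1 F.comm (hNt n hn) ⟨m, congrArg Subtype.val hm⟩
      (NISolv.fix_or_swap F zc (nor n (hNt n hn)) u₁ u₂)
      (F.exists_mul (key N hNt hN2 hNn n hn a haX)) (F.exists_mul (key N hNt hN2 hNn n hn b hbX))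
  · -- odd
    intro x hx d hd ho
    have hd' : (d : G) * t = t * d := hval hd
    have ho' : Odd (orderOf (d : G)) := by rwa [Subgroup.orderOf_coe]
    have hdK : (d : G) ∈ K := P.mem_of_odd f.out hd' ho'
    have h1 := FrontOut.trivial_of_R f.toBase (hBA x hx) (x := ⟨d, hdK⟩) (Subtype.ext (hXz d))
      (by rwa [← Subgroup.orderOf_coe])
    have h2 := P.al_apply (hval hx.1) ⟨d, hdK⟩
    rw [h1] at h2
    exact Subtype.ext (eq_mul_inv_iff_mul_eq.1 h2).symm
  · -- Q1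
    intro q hq hqq
    rcases P.Q1 q hq (congrArg Subtype.val hqq) with e | e
    · exact Or.inl (Subtype.ext e)
    · exact Or.inr (Subtype.ext e)
  · -- Bu
    intro x y hx hy
    have c1 : Commute (x : G) t := hval hx.1
    have hyt : (y : G) * t = t * y := hval hy.1
    have hxy : (x : G)⁻¹ * y * t = t * ((x : G)⁻¹ * y) := c1.inv_left.mul_left hyt
    rcases f.cc _ _ (hBA x hx) (hBA y hy) with h | h | h
    · exact Or.inl (hQZ x _ h)
    · exact Or.inr (Or.inl (hQZ y _ h))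
    · right; right
      apply hQZ (x⁻¹ * y) hxy
      have e : P.al ((x⁻¹ * y : ↥X) : G) hxy = (P.al x (hval hx.1))⁻¹ * P.al y (hval hy.1) := by
        rw [← P.al_inv (hval hx.1) c1.inv_left.eq]
        exact P.al_mul c1.inv_left.eq hyt hxy
      rw [e]; exact h
  · -- swap
    obtain ⟨p, hp, hpi⟩ := f.sw
    have hpX : (p : G) ∈ X := hKX p hp
    have hpt := ct p hpX
    refine ⟨⟨p, hpX⟩, hpt, ?_⟩
    rcases NISolv.fix_or_swap F zc (nor _ hpt) u₁ u₂ with ⟨h1, -⟩ | h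
    · exfalso
      have h2 := h1 i' F.mem_i₁
      have h3 : (⟨p, hpX⟩ : ↥X) * i' * (⟨p, hpX⟩ : ↥X)⁻¹ = k' := by
        apply Subtype.ext
        show (p : G) * i * (p : G)⁻¹ = k
        rw [← hpi]; rfl
      rw [h3] at h2
      rcases s₂.center F.mem_k₂ (fun q hq => F.comm _ h2 q hq) with e | e
      · have := F.kk
        rw [e, one_mul] at this
        exact F.z1 this.symm
      · have := F.kk
        rw [e, F.zz] at this
        exact F.z1 this.symm
    · exact h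
  · -- mv
    intro x hx hx2 y hy hyQ hxy
    have hxT : (x : G) ∈ T := (hS x).1 hx
    have hxt : (x : G) * t = t * x := P.Tt x hxT
    have hyt : (y : G) * t = t * y := hval hy.1
    have hk : P.al x hxt k = k := by
      apply Subtype.ext
      rw [P.al_apply]
      have h1 : (x : G) * k = k * x := hval (hx2 k' F.mem_k₂)
      rw [h1, mul_inv_cancel_right]
    have hl : P.al x hxt l = l := by
      apply Subtype.ext
      rw [P.al_apply]
      have h1 : (x : G) * l = l * x := hval (hx2 l' F.mem_l₂)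
      rw [h1, mul_inv_cancel_right]
    have hxyt : (x : G) * y * t = t * (x * y) := (show Commute (x : G) t from hxt).mul_left hyt
    have hyxt : (y : G) * x * t = t * (y * x) := (show Commute (y : G) t from hyt).mul_left hxt
    have hcomm : P.al x hxt * P.al y hyt = P.al y hyt * P.al x hxt := by
      rw [← P.al_mul hxt hyt hxyt, ← P.al_mul hyt hxt hyxt]
      congr 1
      exact congrArg Subtype.val hxy
    obtain ⟨q, hq, hqe⟩ := f.in₁ _ _ (alz x hxt) hk hl (hBA y hy) (fun h => hyQ (hQZ y _ h)) hcomm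
    obtain ⟨m₁, hm₁⟩ := T.2 ⟨x, hxT⟩
    have hm₁' : (x : G) ^ 2 ^ m₁ = 1 := congrArg Subtype.val hm₁
    -- `w = x` or `w = x y⁻¹`
    obtain ⟨w, hwt, ⟨m, hm⟩, hwq, hwB⟩ : ∃ (w : ↥X) (hwt : (w : G) * t = t * w), (∃ m : ℕ, (w : G) ^ 2 ^ m = 1) ∧
        P.al w hwt = MulAut.conj q ∧ ∀ u : ↥X, Bt t' F.Q₁ F.Q₂ (u⁻¹ * w) → Bt t' F.Q₁ F.Q₂ (u⁻¹ * x) := by
      rcases hqe with hqe | hqe
      · exact ⟨x, hxt, ⟨m₁, hm₁'⟩, hqe, fun u hu => hu⟩
      · have hyi : (y : G)⁻¹ * t = t * (y : G)⁻¹ := (show Commute (y : G) t from hyt).inv_left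
        have hwt : (x : G) * (y : G)⁻¹ * t = t * (x * (y : G)⁻¹) := (show Commute (x : G) t from hxt).mul_left hyi
        obtain ⟨m₂, hm₂⟩ := hB2 y hy
        have hm₂' : (y : G) ^ 2 ^ m₂ = 1 := congrArg Subtype.val hm₂
        refine ⟨x * y⁻¹, hwt, ⟨m₁ + m₂, ?_⟩, ?_, ?_⟩
        · show ((x : G) * (y : G)⁻¹) ^ 2 ^ (m₁ + m₂) = 1
          have c1 : Commute (x : G) (y : G)⁻¹ := (show Commute (x : G) y from congrArg Subtype.val hxy).inv_right
          have e1 : (x : G) ^ 2 ^ (m₁ + m₂) = 1 := by rw [pow_add, pow_mul, hm₁', one_pow]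
          have e2 : (y : G) ^ 2 ^ (m₁ + m₂) = 1 := by rw [add_comm, pow_add, pow_mul, hm₂', one_pow]
          rw [c1.mul_pow, e1, inv_pow, e2, inv_one, one_mul]
        · have e : P.al ((x : G) * (y : G)⁻¹) hwt = P.al x hxt * (P.al y hyt)⁻¹ := by
            rw [← P.al_inv hyt hyi]
            exact P.al_mul hxt hyi hwt
          have e2 : P.al ((x : G) * (y : G)⁻¹) hwt = MulAut.conj q := by rw [e, hqe, mul_inv_cancel_right]
          exact e2
        · intro u hu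
          have e : u⁻¹ * x = u⁻¹ * (x * y⁻¹) * y := by group
          rw [e]
          exact ⟨(show Commute _ t' from hu.1).mul_left hy.1,
            fun r hr => (show Commute _ r from hu.2.1 r hr).mul_left (hy.2.1 r hr),
            fun r hr => (show Commute _ r from hu.2.2 r hr).mul_left (hy.2.2 r hr)⟩
    have hc := P.mem_of_conj hwt hwq
    set c : G := (q : G)⁻¹ * w with hcdef
    have hqc : Commute (q : G) c := P.QK c hc q q.2
    have hwe : (w : G) = q * c := by rw [hcdef]; group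
    obtain ⟨m₂, hm₂⟩ := P.Q2 ⟨c, hc⟩
    have hm₂' : c ^ 2 ^ m₂ = 1 := congrArg Subtype.val hm₂
    have hq2 : ∃ n : ℕ, q ^ 2 ^ n = 1 := by
      refine ⟨m + m₂, Subtype.ext ?_⟩
      show (q : G) ^ 2 ^ (m + m₂) = 1
      have h1 : (q : G) ^ 2 ^ (m + m₂) * c ^ 2 ^ (m + m₂) = 1 := by
        rw [← hqc.mul_pow, ← hwe, pow_add, pow_mul, hm, one_pow]
      have h2 : c ^ 2 ^ (m + m₂) = 1 := by
        rw [add_comm, pow_add, pow_mul, hm₂', one_pow]
      rwa [h2, mul_one] at h1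
    have hqij := f.j2 q hq hq2
    have hqij' : (q : G) ∈ closure {(i : G), (j : G)} := by
      have h1 : (closure ({i, j} : Set K)).map K.subtype = closure {(i : G), (j : G)} := by
        rw [MonoidHom.map_closure]
        congr 1
        simp [Set.image_insert_eq]
      rw [← h1]; exact ⟨q, hqij, rfl⟩
    have hcX : c ∈ X := mem_centralizer_singleton_iff.2 (P.QK c hc z z.2).symm
    have hqX : (q : G) ∈ X := by
      have : (q : G) = w * c⁻¹ := by rw [hwe, mul_inv_cancel_right]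
      rw [this]; exact X.mul_mem w.2 (X.inv_mem hcX)
    refine ⟨⟨q, hqX⟩, (hmem₁ _).2 hqij', hwB _ (hQB _ ?_)⟩
    exact hc

/-- **`HypT` in `C_G(z)`**, with (R) as hypothesis -/
theorem exists_hyp [Finite G] (P : PosT K t Qc z T) (f : FrontT z R i j k l a b)
    (hO : pPrimeCore 2 ↥(centralizer ({(z : G)} : Set G)) = ⊥)
    (refl : ∀ Q₁ Q₂ : Subgroup ↥(centralizer ({(z : G)} : Set G)),
      (∀ y : ↥(centralizer ({(z : G)} : Set G)), y ∈ Q₁ ↔ (y : G) ∈ closure {(i : G), (j : G)}) →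
      (∀ y : ↥(centralizer ({(z : G)} : Set G)), y ∈ Q₂ ↔ (y : G) ∈ closure {(k : G), (l : G)}) →
      ∀ b, Bt (⟨t, mem_centralizer_singleton_iff.2 (P.Kt z z.2).symm⟩ : ↥(centralizer ({(z : G)} : Set G))) Q₁ Q₂ b →
      b * b = 1 → ¬ QZ (Qc.subgroupOf (centralizer ({(z : G)} : Set G)))
        (⟨z, mem_centralizer_singleton_iff.2 rfl⟩ : ↥(centralizer ({(z : G)} : Set G))) b →
      ∀ M : Subgroup ↥(centralizer ({(z : G)} : Set G)), IsComponent M → Q₁ ≤ M → Q₂ ≤ M →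
      ¬ ∀ m ∈ M, b * m = m * b) :
    ∃ (hat : (a : G) ∈ centralizer ({(z : G)} : Set G)) (hbt : (b : G) ∈ centralizer ({(z : G)} : Set G))
      (Q₁ Q₂ : Subgroup ↥(centralizer ({(z : G)} : Set G))) (S : Sylow 2 ↥(centralizer ({(z : G)} : Set G))),
      HypT (⟨z, mem_centralizer_singleton_iff.2 rfl⟩ : ↥(centralizer ({(z : G)} : Set G)))
        ⟨t, mem_centralizer_singleton_iff.2 (P.Kt z z.2).symm⟩ ⟨a, hat⟩ ⟨b, hbt⟩ Q₁ Q₂
        (Qc.subgroupOf (centralizer ({(z : G)} : Set G))) S ∧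
      (∀ y : ↥(centralizer ({(z : G)} : Set G)), y ∈ Q₁ ↔ (y : G) ∈ closure {(i : G), (j : G)}) ∧
      (∀ y : ↥(centralizer ({(z : G)} : Set G)), y ∈ Q₂ ↔ (y : G) ∈ closure {(k : G), (l : G)}) ∧
      ∀ y : ↥(centralizer ({(z : G)} : Set G)), y ∈ S ↔ (y : G) ∈ T := by
  obtain ⟨hat, hbt, Q₁, Q₂, S, hB, hsw, hmv, h1, h2, h3⟩ := exists_base P f hO
  exact ⟨hat, hbt, Q₁, Q₂, S,
    { toBaseT := hB
      swap := hsw
      mv := hmv
      refl := refl Q₁ Q₂ h1 h2 }, h1, h2, h3⟩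

end

end Cfsg.Agent.OddHalf.D6.QThree.TS.Inst
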