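import Cfsg.Agent.OddHalf.D6.QThree.NIB.Hyp
import Cfsg.Agent.OddHalf.D6.QThree.FrontK

/-!
# ODD half, D6, `K = L₄(3)`, the Sylow 2-subgroup of `C_G(t)` is Sylow in `G` (helper296, bb #16577): the hypotheses

`X = C_G(z)` as a type, `t` is centralised by a Sylow 2-subgroup `S` of `X`, `Q = C(K) ∩ C(t)` cyclic,
`B = C_X(t) ∩ C(Q₁ Q₂) = Bt t Q₁ Q₂`. `QZ Q z x`: `x ∈ Q ⟨z⟩`.

* `BaseT`: the symmetric part; `HypT`: with the swap, (mv) and (R).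
* `FrontT`: the facts on `K = L₄(3)`.
-/

set_option autoImplicit false

namespace Cfsg.Agent.OddHalf.D6.QThree.TS

open Subgroup Cfsg
open Cfsg.Agent.OddHalf.D6.QThree.NISide
open Cfsg.Agent.OddHalf.D6.QThree.NIB (Bt)

/-- `x ∈ Q ⟨z⟩` -/
def QZ {X : Type*} [Group X] (Q : Subgroup X) (z x : X) : Prop := x ∈ Q ∨ x * z ∈ Q

/-- the subgroup generated by the elements of odd order of `C_X(t)` -/
def oddC {X : Type*} [Group X] (t : X) : Subgroup X := closure {d : X | d * t = t * d ∧ Odd (orderOf d)}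

section

variable {X : Type*} [Group X]

/-- **the hypotheses** (symmetric part): `X = C_G(z)`, `R = Q₁ Q₂`, `B = C_X(t) ∩ C(R) ≥ Q` -/
structure BaseT (z t a₁ a₂ : X) (Q₁ Q₂ Q : Subgroup X) (S : Sylow 2 X) : Prop where
  zc : ∀ x : X, x * z = z * x
  zz : z * z = 1
  z1 : z ≠ 1
  tt : t * t = 1
  t1 : t ≠ 1
  tz : t ≠ z
  O : pPrimeCore 2 X = ⊥
  sol : Group.IsSolvable (centralizer ({t} : Set X))
  s₁ : Side z t a₁ Q₁ Q₂
  s₂ : Side z t a₂ Q₂ Q₁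
  comm : ∀ x ∈ Q₁, ∀ y ∈ Q₂, x * y = y * x
  /-- `R` is normal in `C_X(t)` -/
  nor : ∀ g, g * t = t * g → ∀ x ∈ Q₁, ∀ y ∈ Q₂, ∃ x' ∈ Q₁, ∃ y' ∈ Q₂, g * (x * y) * g⁻¹ = x' * y'
  /-- normal 2-subgroups of `C_X(t)` lie in `R B` -/
  rad : ∀ N : Subgroup X, (∀ n ∈ N, n * t = t * n) → IsPGroup 2 N →
    (∀ g, g * t = t * g → ∀ n ∈ N, g * n * g⁻¹ ∈ N) →
    ∀ n ∈ N, ∃ x ∈ Q₁, ∃ y ∈ Q₂, ∃ b, Bt t Q₁ Q₂ b ∧ n = x * y * b
  /-- the elements of odd order of `C_X(t)` centralise `B` -/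
  odd : ∀ b, Bt t Q₁ Q₂ b → ∀ d, d * t = t * d → Odd (orderOf d) → b * d = d * b
  oa₁ : Odd (orderOf a₁)
  oa₂ : Odd (orderOf a₂)
  /-- `t` is central in a Sylow 2-subgroup of `X` -/
  St : ∀ s ∈ S, s * t = t * s
  /-- `Q = C(K) ∩ C(t)` is a 2-group, `t` is its only involution -/
  QB : ∀ q ∈ Q, Bt t Q₁ Q₂ q
  Q2 : IsPGroup 2 Q
  Qt : t ∈ Q
  Q1 : ∀ q ∈ Q, q * q = 1 → q = 1 ∨ q = t
  /-- `B / Q` is elementary abelian of order at most four -/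
  Bsq : ∀ b, Bt t Q₁ Q₂ b → b * b ∈ Q
  Bu : ∀ b c, Bt t Q₁ Q₂ b → Bt t Q₁ Q₂ c → QZ Q z b ∨ QZ Q z c ∨ QZ Q z (b⁻¹ * c)

/-- **the hypotheses** -/
structure HypT (z t a₁ a₂ : X) (Q₁ Q₂ Q : Subgroup X) (S : Sylow 2 X) : Prop
    extends BaseT z t a₁ a₂ Q₁ Q₂ Q S where
  /-- the two factors are conjugate in `C_X(t)` -/
  swap : ∃ p, p * t = t * p ∧ (∀ x ∈ Q₁, p * x * p⁻¹ ∈ Q₂) ∧ ∀ x ∈ Q₂, p * x * p⁻¹ ∈ Q₁
  /-- an element of `S` centralising `Q₂` and a reflection acts on `Q₁` as an element of `Q₁` -/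
  mv : ∀ x ∈ S, (∀ y ∈ Q₂, x * y = y * x) → ∀ b, Bt t Q₁ Q₂ b → ¬ QZ Q z b → x * b = b * x →
    ∃ q ∈ Q₁, Bt t Q₁ Q₂ (q⁻¹ * x)
  /-- (R): a reflection does not centralise a component containing `Q₁` and `Q₂` -/
  refl : ∀ b, Bt t Q₁ Q₂ b → b * b = 1 → ¬ QZ Q z b → ∀ M : Subgroup X, IsComponent M → Q₁ ≤ M → Q₂ ≤ M →
    ¬ ∀ m ∈ M, b * m = m * b

end

section

open FrontB (BA Z2)

/-- **the facts on `K = L₄(3)`**; `P = C_K(z)`, `R = O₂(P) = ⟨i, j⟩ * ⟨k, l⟩`, `J₁ = ⟨i, j, a⟩ ≅ SL(2,3)` -/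
structure FrontT {K : Type*} [Group K] (z : K) (R : Subgroup K) (i j k l a b : K) : Prop
    extends Facts.Base z R where
  fr : NIFacts.Frame z i j k l a b
  gR : R = closure {i, j, k, l}
  /-- the elements of odd order of `P` -/
  od : ∀ x, x * z = z * x → Odd (orderOf x) → x ∈ closure {i, j, k, l, a, b}
  oa : Odd (orderOf a)
  ob : Odd (orderOf b)
  /-- the two factors are conjugate in `P` -/
  sw : ∃ p, p * z = z * p ∧ p * i * p⁻¹ = k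
  /-- `Out(K)` is a 2-group -/
  out : ∀ α : MulAut K, ∃ n : ℕ, α ^ 2 ^ n ∈ (MulAut.conj : K →* MulAut K).range
  /-- `B̄ = C_{Aut K}(R)` is elementary abelian of order at most four -/
  sq : ∀ α : MulAut K, BA R α → α * α = 1
  cc : ∀ α β : MulAut K, BA R α → BA R β → Z2 z α ∨ Z2 z β ∨ Z2 z (α⁻¹ * β)
  /-- an automorphism centralising `Q₂` and a reflection is conjugation by an element of `J₁`, up to the reflection -/
  in₁ : ∀ α β : MulAut K, α z = z → α k = k → α l = l → BA R β → ¬ Z2 z β → α * β = β * α →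
    ∃ q ∈ closure ({i, j, a} : Set K), α = MulAut.conj q ∨ α = MulAut.conj q * β
  /-- the 2-elements of `J₁` -/
  j2 : ∀ q ∈ closure ({i, j, a} : Set K), (∃ n : ℕ, q ^ 2 ^ n = 1) → q ∈ closure ({i, j} : Set K)
  j1 : Nonempty (↥(closure ({i, j, a} : Set K)) ≃* Matrix.SpecialLinearGroup (Fin 2) (ZMod 3))

end

end Cfsg.Agent.OddHalf.D6.QThree.TS
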