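import Cfsg.Agent.OddHalf.D6.QThree.RefData
import Cfsg.Agent.OddHalf.D6.QThree.TS.Hyp
import Cfsg.Agent.Cit.ParabSL2

/-!
# ODD half, D6, `K = L₄(3)`, `T = S`: the field `refl` of `HypT`, and the classical case (helper577)

* `refl_of`: a component of `C_G(z)` containing `Q₁` is not centralised by `b`, if `RefD t z b D`;
* `refl`: the field `HypT.refl`, from the facts on `K`;
* `false_of_normal`: `D = O²(C(t) ∩ C(z))` is not normal in `C_G(z)`; `classical_of_normal`: in terms of `oddC`.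
-/

set_option autoImplicit false

namespace Cfsg.Agent.OddHalf.D6.QThree.TS

open Subgroup Cfsg
open Cfsg.Agent.Cit (cj mem_cj conj_mem_cj cj_mul cj_one)
open Cfsg.Agent.OddHalf.Iface
open Cfsg.Agent.OddHalf.D6.QThree.NISide
open Cfsg.Agent.OddHalf.D6.QThree.Diag (DiagAt sn_chain sn_mono sn_of_conj)
open Cfsg.Agent.OddHalf.D6.QThree.NIB (Bt RefD RefX comm_of_subnormal sn_X)
open Cfsg.Agent.OddHalf.D6.QThree.RefData (KH Rf DD)
open Cfsg.Agent.OddHalf.D6.QThree.Pump (SpOrd)

universe u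

variable {G : Type u} [Group G]

/-! ### the diagonal case, without `Pos` -/

section Diag

variable {t z b : G} {D M L : Subgroup G}

theorem exists_z' (A : DiagAt t z b D M L) (zD : z ∈ D) : ∃ z₁ ∈ M, z₁ * (t * z₁ * t⁻¹) = z := A.LM z (A.DL zD)

/-- `D₁ ≤ C(z)` -/
theorem pre_z' (A : DiagAt t z b D M L) (zD : z ∈ D) (Dz : ∀ d ∈ D, d * z = z * d) {x : G} (hx : x ∈ A.pre D) :
    x * z = z * x := by
  obtain ⟨z₁, hz₁, e⟩ := exists_z' A zD
  have h1 := Dz _ hx.2
  have h2 : x * z₁ = z₁ * x := by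
    apply A.dinj (M.mul_mem hx.1 hz₁) (M.mul_mem hz₁ hx.1)
    rw [A.dmul hx.1 hz₁, A.dmul hz₁ hx.1, e]
    exact h1
  have c1 : Commute x z₁ := h2
  have c2 : Commute x (t * z₁ * t⁻¹) := A.com x hx.1 z₁ hz₁
  rw [← e]
  exact (c1.mul_right c2).eq

/-- `D₁` is subnormal in `C(b) ∩ C(z)` -/
theorem pre_sn' (A : DiagAt t z b D M L) (z1 : z ≠ 1) (htz : t * z = z * t) (zD : z ∈ D)
    (Dz : ∀ d ∈ D, d * z = z * d) (tb : t * b = b * t) :
    ((A.pre D).subgroupOf (centralizer ({b} : Set G) ⊓ centralizer ({z} : Set G))).IsSubnormal := by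
  set Z : Subgroup G := centralizer ({z} : Set G) with hZ
  set Y : Subgroup G := centralizer ({b} : Set G) ⊓ Z with hY
  have hYz : ∀ g ∈ Y, g * z = z * g := fun g hg => mem_centralizer_singleton_iff.1 hg.2
  have hYb : ∀ g ∈ Y, g * b = b * g := fun g hg => mem_centralizer_singleton_iff.1 hg.1
  have htY : t ∈ Y := ⟨mem_centralizer_singleton_iff.2 tb, mem_centralizer_singleton_iff.2 htz⟩
  have hne : cj t M ≠ M := by
    intro h
    obtain ⟨z₁, hz₁, e⟩ := exists_z' A zD
    have h1 : z₁ = 1 := A.eq_one hz₁ (by rw [h]; exact hz₁)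
    rw [h1] at e
    apply z1
    rw [← e]; group
  -- `D₁` subnormal in `M ∩ C(z)`
  have h1 : ((A.pre D).subgroupOf (M ⊓ Z)).IsSubnormal := by
    let f : ↥(M ⊓ Z) →* ↥(L ⊓ Z) :=
      { toFun := fun m => ⟨m * (t * m * t⁻¹), A.ML m m.2.1, by
          have hc : Commute (m : G) z := mem_centralizer_singleton_iff.1 m.2.2
          have ht : Commute t z := htz
          exact mem_centralizer_singleton_iff.2
            (hc.mul_left ((ht.mul_left hc).mul_left ht.inv_left)).eq⟩
        map_one' := Subtype.ext (by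
          show (1 : G) * (t * 1 * t⁻¹) = 1
          group)
        map_mul' := fun m n => Subtype.ext (A.dmul m.2.1 n.2.1) }
    have h2 := A.sn.comap f
    have e : (D.subgroupOf (L ⊓ Z)).comap f = (A.pre D).subgroupOf (M ⊓ Z) := by
      ext x
      rw [mem_comap, mem_subgroupOf, mem_subgroupOf, A.mem_pre]
      exact ⟨fun h => ⟨x.2.1, h⟩, fun h => h.2⟩
    rwa [e] at h2
  -- `N = N_Y(M)`
  set N : Subgroup G := Y ⊓ normalizer (M : Set G) with hN
  have hNM : ∀ g ∈ Y, g ∈ N ↔ cj g M = M := by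
    intro g hg
    constructor
    · intro h; exact Cfsg.Agent.Cit.mem_normalizer_iff_cj.1 h.2
    · intro h; exact ⟨hg, Cfsg.Agent.Cit.mem_normalizer_iff_cj.2 h⟩
  have hNt : ∀ g ∈ N, cj g (cj t M) = cj t M := by
    intro g hg
    have h2 := (hNM g hg.1).1 hg
    have hgt : g * t ∈ Y := Y.mul_mem hg.1 htY
    rcases A.perm (g * t) (hYz _ hgt) (hYb _ hgt) with h3 | h3
    · exfalso
      rw [cj_mul] at h3
      have h4 : cj g (cj t M) = cj g M := h3.trans h2.symm
      exact hne (Cfsg.Agent.Cit.cj_inj.1 h4)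
    · rwa [cj_mul] at h3
  have h2 : ((M ⊓ Z).subgroupOf N).IsSubnormal := by
    apply sn_of_conj
    rintro g hg m ⟨hm, hmz⟩
    refine ⟨?_, ?_⟩
    · have h3 := (hNM g hg.1).1 hg
      have h4 : g * m * g⁻¹ ∈ cj g M := conj_mem_cj hm
      rwa [h3] at h4
    · have hc : Commute m z := mem_centralizer_singleton_iff.1 hmz
      have hg' : Commute g z := hYz g hg.1
      exact mem_centralizer_singleton_iff.2 ((hg'.mul_left hc).mul_left hg'.inv_left).eq
  have h3 : (N.subgroupOf Y).IsSubnormal := by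
    apply sn_of_conj
    intro g hg n hn
    have hgn : g * n * g⁻¹ ∈ Y := Y.mul_mem (Y.mul_mem hg hn.1) (Y.inv_mem hg)
    rw [hNM _ hgn, cj_mul, cj_mul]
    have hn' := (hNM n hn.1).1 hn
    rcases A.perm g⁻¹ (hYz _ (Y.inv_mem hg)) (hYb _ (Y.inv_mem hg)) with h4 | h4
    · rw [h4, hn']
      calc cj g M = cj g (cj g⁻¹ M) := by rw [h4]
        _ = M := Cfsg.Agent.Cit.cj_cj_inv g M
    · rw [h4, hNt n hn, ← h4]
      exact Cfsg.Agent.Cit.cj_cj_inv g M
  have hMN : M ⊓ Z ≤ N := by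
    rintro m ⟨hm, hmz⟩
    refine ⟨⟨mem_centralizer_singleton_iff.2 (A.Mb m hm), hmz⟩, ?_⟩
    exact le_normalizer hm
  have hDM : A.pre D ≤ M ⊓ Z := fun x hx => ⟨hx.1, mem_centralizer_singleton_iff.2 (pre_z' A zD Dz hx)⟩
  exact sn_chain hDM h1 (sn_chain hMN h2 h3)

end Diag

/-! ### `refl` -/

/-- the data at `b`, seen in `X = C_G(z)` -/
theorem refX' {t z : G} {D : Subgroup G} (z1 : z ≠ 1) (htz : t * z = z * t) (zD : z ∈ D)
    (Dz : ∀ d ∈ D, d * z = z * d) (hsol : Group.IsSolvable D) {t' b : ↥(centralizer ({z} : Set G))}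
    (ht' : (t' : G) = t) {Q₁ Q₂ : Subgroup ↥(centralizer ({z} : Set G))} (hQ₁ : ∀ q ∈ Q₁, (q : G) ∈ D)
    (hQ₂ : ∀ q ∈ Q₂, (q : G) ∈ D) (hbt : (b : G) * t = t * b) (hbD : ∀ d ∈ D, (b : G) * d = d * b)
    (h : RefD t z (b : G) D) : RefX t' b Q₁ Q₂ := by
  have memZ : ∀ g, g ∈ centralizer ({z} : Set G) ↔ g * z = z * g := fun g => mem_centralizer_singleton_iff
  have memC : ∀ x : ↥(centralizer ({z} : Set G)),
      x ∈ centralizer ({b} : Set ↥(centralizer ({z} : Set G))) ↔ (x : G) * b = b * x := fun x => by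
    rw [mem_centralizer_singleton_iff]
    exact ⟨fun h => congrArg Subtype.val h, fun h => Subtype.ext h⟩
  rcases h with h | ⟨M, L, A⟩
  · refine ⟨D.subgroupOf (centralizer ({z} : Set G)), fun x hx => (memC x).2 (hbD x hx).symm, sn_X h, ?_,
      Or.inl ⟨fun q hq => hQ₁ q hq, fun q hq => hQ₂ q hq⟩⟩
    have hDZ : D ≤ centralizer ({z} : Set G) := fun d hd => (memZ d).2 (Dz d hd)
    exact Group.isSolvable_of_isSolvable_injective (f := (subgroupOfEquivOfLe hDZ).toMonoidHom)
      (subgroupOfEquivOfLe hDZ).injective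
  · have hDZ : A.pre D ≤ centralizer ({z} : Set G) := fun d hd => (memZ d).2 (pre_z' A zD Dz hd)
    refine ⟨(A.pre D).subgroupOf (centralizer ({z} : Set G)), fun x hx => (memC x).2 (A.Mb x (A.mem_pre.1 hx).1),
      sn_X (pre_sn' A z1 htz zD Dz hbt.symm), ?_, Or.inr ⟨fun q hq => ?_, fun q hq => ?_⟩⟩
    · -- `D₁` is solvable
      let f : ↥((A.pre D).subgroupOf (centralizer ({z} : Set G))) →* D :=
        { toFun := fun x => ⟨(x.1 : G) * (t * x.1 * t⁻¹), (A.mem_pre.1 x.2).2⟩
          map_one' := Subtype.ext (by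
            show (1 : G) * (t * 1 * t⁻¹) = 1
            group)
          map_mul' := fun x y => Subtype.ext (A.dmul (A.mem_pre.1 x.2).1 (A.mem_pre.1 y.2).1) }
      have hf : Function.Injective f := by
        intro x y e
        have h1 : (f x).1 = (f y).1 := congrArg Subtype.val e
        exact Subtype.ext (Subtype.ext (A.dinj (A.mem_pre.1 x.2).1 (A.mem_pre.1 y.2).1 h1))
      exact Group.isSolvable_of_isSolvable_injective (f := f) hf
    · obtain ⟨m, hm, e⟩ := A.LM q (A.DL (hQ₁ q hq))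
      have hmD : m ∈ A.pre D := ⟨hm, by rw [e]; exact hQ₁ q hq⟩
      refine ⟨⟨m, hDZ hmD⟩, hmD, Subtype.ext ?_⟩
      show m * (t' * m * (t' : G)⁻¹) = q
      rw [ht', e]
    · obtain ⟨m, hm, e⟩ := A.LM q (A.DL (hQ₂ q hq))
      have hmD : m ∈ A.pre D := ⟨hm, by rw [e]; exact hQ₂ q hq⟩
      refine ⟨⟨m, hDZ hmD⟩, hmD, Subtype.ext ?_⟩
      show m * (t' * m * (t' : G)⁻¹) = q
      rw [ht', e]

section X

variable {X : Type u} [Group X] {z t a₁ a₂ : X} {Q₁ Q₂ : Subgroup X}

/-- a quasisimple subgroup is not centralised by `t` -/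
theorem not_le' [Finite X] (sol : Group.IsSolvable (centralizer ({t} : Set X))) {M : Subgroup X}
    (hM : IsQuasisimple M) (hMt : ∀ x ∈ M, x * t = t * x) : False := by
  apply Cfsg.Agent.SignalizersComponents.Components.quasisimple_not_isSolvable hM
  have h1 : M ≤ centralizer ({t} : Set X) := fun x hx => mem_centralizer_singleton_iff.2 (hMt x hx)
  exact Group.isSolvable_of_isSolvable_injective (f := inclusion h1) (inclusion_injective h1)

/-- `t` normalises every component -/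
theorem cj_t' [Finite X] (sol : Group.IsSolvable (centralizer ({t} : Set X))) (tt : t * t = 1) {M : Subgroup X}
    (hM : IsComponent M) : cj t M = M := by
  by_contra hne
  obtain ⟨D, hD1, -, -, hD3, -⟩ := Cfsg.Agent.Cit.Comp.exists_diag hM tt hne
  exact not_le' sol hD3 fun x hx => mem_centralizer_singleton_iff.1 (hD1 hx)

theorem refl_of_X' [Finite X] (sol : Group.IsSolvable (centralizer ({t} : Set X))) (tt : t * t = 1)
    (s₁ : Side z t a₁ Q₁ Q₂) (s₂ : Side z t a₂ Q₂ Q₁) {b : X} (hb : RefX t b Q₁ Q₂) {M : Subgroup X}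
    (hM : IsComponent M) (hQ : Q₁ ≤ M ∨ Q₂ ≤ M) : ¬ ∀ m ∈ M, b * m = m * b := by
  intro hMb
  obtain ⟨E, hEb, hE, hs, hcase⟩ := hb
  have hc := comm_of_subnormal hM (fun m hm => (hMb m hm).symm) hEb hE hs
  -- `Q₁`, `Q₂` commute with `M`
  have key : (∀ q ∈ Q₁, ∀ m ∈ M, q * m = m * q) ∧ ∀ q ∈ Q₂, ∀ m ∈ M, q * m = m * q := by
    rcases hcase with ⟨h1, h2⟩ | ⟨h1, h2⟩
    · exact ⟨fun q hq => hc q (h1 hq), fun q hq => hc q (h2 hq)⟩
    · have ht : ∀ e ∈ E, ∀ m ∈ M, (e * (t * e * t⁻¹)) * m = m * (e * (t * e * t⁻¹)) := by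
        intro e he m hm
        have hm' : t⁻¹ * m * t ∈ M := by
          have h3 : m ∈ cj t M := by rw [cj_t' sol tt hM]; exact hm
          exact mem_cj.1 h3
        have c1 : Commute e m := hc e he m hm
        have c2 : (t * e * t⁻¹) * m = m * (t * e * t⁻¹) := by
          have h4 := hc e he _ hm'
          calc (t * e * t⁻¹) * m = t * (e * (t⁻¹ * m * t)) * t⁻¹ := by group
            _ = t * ((t⁻¹ * m * t) * e) * t⁻¹ := by rw [h4]
            _ = m * (t * e * t⁻¹) := by group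
        exact (c1.mul_left (show Commute (t * e * t⁻¹) m from c2)).eq
      refine ⟨fun q hq m hm => ?_, fun q hq m hm => ?_⟩
      · obtain ⟨e, he, rfl⟩ := h1 q hq
        exact ht e he m hm
      · obtain ⟨e, he, rfl⟩ := h2 q hq
        exact ht e he m hm
  rcases hQ with hQ | hQ
  · exact s₁.not_comm fun x hx y hy => key.1 x hx y (hQ hy)
  · exact s₂.not_comm fun x hx y hy => key.2 x hx y (hQ hy)

end X

/-- **the field `HypT.refl`** (for a component containing `Q₁` or `Q₂`) -/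
theorem refl [Finite G] (C : Ctx G) (hS : SpOrd.{u}) {K : Subgroup G} (S : Std G K) (hK : Nat.card K ≤ 6531840)
    {t : G} (tt : t * t = 1) (t1 : t ≠ 1) (Kt : ∀ x ∈ K, x * t = t * x)
    (nK : ∀ g, g * t = t * g → g ∈ normalizer (K : Set G)) {z : K} {R : Subgroup K} {i j k l a b : K}
    (h : KH z R i j k l a b) (hRf : Rf z R)
    (hN : ∀ c : G, c * c = 1 → c ≠ 1 → ∀ K : Subgroup G, CompOf c K → ¬ NI3.HasY ↥K)
    {z' t' a₁ a₂ : ↥(centralizer ({(z : G)} : Set G))} {Q₁ Q₂ Q : Subgroup ↥(centralizer ({(z : G)} : Set G))}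
    (sol : Group.IsSolvable (centralizer ({t'} : Set ↥(centralizer ({(z : G)} : Set G)))))
    (s₁ : Side z' t' a₁ Q₁ Q₂) (s₂ : Side z' t' a₂ Q₂ Q₁) (ht' : (t' : G) = t) (hz' : (z' : G) = z)
    (e₁ : ∀ y : ↥(centralizer ({(z : G)} : Set G)), y ∈ Q₁ ↔ (y : G) ∈ closure ({(i : G), (j : G)} : Set G))
    (e₂ : ∀ y : ↥(centralizer ({(z : G)} : Set G)), y ∈ Q₂ ↔ (y : G) ∈ closure ({(k : G), (l : G)} : Set G))
    (hQ : ∀ x : ↥(centralizer ({(z : G)} : Set G)), x * t' = t' * x → (∀ y ∈ K, (x : G) * y = y * x) → x ∈ Q) :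
    ∀ c, Bt t' Q₁ Q₂ c → c * c = 1 → ¬ QZ Q z' c → ∀ M : Subgroup ↥(centralizer ({(z : G)} : Set G)),
      IsComponent M → (Q₁ ≤ M ∨ Q₂ ≤ M) → ¬ ∀ m ∈ M, c * m = m * c := by
  intro c hc cc hcQ M hM hQM
  have hzz : (z : G) * z = 1 := congrArg Subtype.val h.zz
  have hz1 : (z : G) ≠ 1 := fun e => h.z1 (Subtype.ext e)
  have ctG : (c : G) * t = t * c := by
    have := congrArg Subtype.val hc.1
    rw [← ht']; exact this
  have ccG : (c : G) * c = 1 := congrArg Subtype.val cc
  have czG : (c : G) * z = z * c := mem_centralizer_singleton_iff.1 c.2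
  have c1 : c ≠ 1 := by
    rintro rfl
    exact hcQ (Or.inl (Subgroup.one_mem Q))
  -- `c` centralises `R`
  have hmem : ∀ x : K, x ∈ R → (x : G) ∈ centralizer ({(z : G)} : Set G) := fun x hx =>
    mem_centralizer_singleton_iff.2 (congrArg Subtype.val (h.RP x hx))
  have cR : ∀ r ∈ R, (c : G) * r = r * c := by
    have h1 : R ≤ (centralizer ({(c : G)} : Set G)).comap K.subtype := by
      rw [h.gR, closure_le]
      intro x hx
      show (x : G) ∈ centralizer ({(c : G)} : Set G)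
      rw [mem_centralizer_singleton_iff]
      rcases hx with rfl | rfl | rfl | rfl
      · exact (congrArg Subtype.val (hc.2.1 ⟨x, hmem _ h.iR⟩ ((e₁ _).2 (subset_closure (by simp))))).symm
      · exact (congrArg Subtype.val (hc.2.1 ⟨x, hmem _ h.jR⟩ ((e₁ _).2 (subset_closure (by simp))))).symm
      · exact (congrArg Subtype.val (hc.2.2 ⟨x, hmem _ h.kR⟩ ((e₂ _).2 (subset_closure (by simp))))).symm
      · exact (congrArg Subtype.val (hc.2.2 ⟨x, hmem _ h.lR⟩ ((e₂ _).2 (subset_closure (by simp))))).symm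
    exact fun r hr => (mem_centralizer_singleton_iff.1 (h1 hr)).symm
  have htz : t * z = z * t := (Kt z z.2).symm
  obtain ⟨hD, hcD⟩ := RefData.refD C hS S hK tt t1 Kt nK h hRf (hN c ccG fun e => c1 (Subtype.ext e)) ccG ctG cR
    (fun e => hcQ (Or.inl (hQ c hc.1 e))) (fun e => hcQ (Or.inr (hQ (c * z') (by
      have h1 : z' * t' = t' * z' := Subtype.ext (by
        show (z' : G) * t' = t' * z'
        rw [hz', ht']; exact htz.symm)
      exact ((show Commute c t' from hc.1).mul_left (show Commute z' t' from h1)).eq) (by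
      intro y hy
      show ((c : G) * z') * y = y * ((c : G) * z')
      rw [hz']; exact e y hy))))
  set D : Subgroup G := (DD i j k l a b).map K.subtype with hDdef
  have hDz : ∀ d ∈ D, d * z = z * d := by
    rintro _ ⟨d, hd, rfl⟩
    exact congrArg Subtype.val (h.Dz d hd)
  have hDt : ∀ d ∈ D, d * t = t * d := by
    rintro _ ⟨d, -, rfl⟩
    exact Kt d d.2
  have hcl₁ : closure ({(i : G), (j : G)} : Set G) ≤ D := by
    rw [closure_le]
    rintro x (rfl | rfl)
    · exact ⟨i, h.RD h.iR, rfl⟩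
    · exact ⟨j, h.RD h.jR, rfl⟩
  have hcl₂ : closure ({(k : G), (l : G)} : Set G) ≤ D := by
    rw [closure_le]
    rintro x (rfl | rfl)
    · exact ⟨k, h.RD h.kR, rfl⟩
    · exact ⟨l, h.RD h.lR, rfl⟩
  have hsol : Group.IsSolvable D := by
    let f : D →* centralizer ({t'} : Set ↥(centralizer ({(z : G)} : Set G))) :=
      { toFun := fun d => ⟨⟨d, mem_centralizer_singleton_iff.2 (hDz d d.2)⟩,
          mem_centralizer_singleton_iff.2 (Subtype.ext (by
            show (d : G) * t' = t' * d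
            rw [ht']; exact hDt d d.2))⟩
        map_one' := rfl
        map_mul' := fun _ _ => rfl }
    have hf : Function.Injective f := by
      intro x y e
      exact Subtype.ext (congrArg (fun w : centralizer ({t'} : Set ↥(centralizer ({(z : G)} : Set G))) =>
        ((w : ↥(centralizer ({(z : G)} : Set G))) : G)) e)
    exact Group.isSolvable_of_isSolvable_injective (f := f) hf
  have hX := refX' hz1 htz (⟨z, h.zD, rfl⟩ : (z : G) ∈ D) hDz hsol ht' (Q₁ := Q₁) (Q₂ := Q₂)
    (fun q hq => hcl₁ ((e₁ q).1 hq)) (fun q hq => hcl₂ ((e₂ q).1 hq)) ctG hcD hD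
  have tt' : t' * t' = 1 := Subtype.ext (by
    show (t' : G) * t' = 1
    rw [ht']; exact tt)
  exact refl_of_X' sol tt' s₁ s₂ hX hM hQM

/-! ### the classical case -/

section K

variable {K : Type*} [Group K] {z : K} {R : Subgroup K} {i j k l a b : K}

/-- `a`, `b` commute -/
theorem ab_comm (h : KH z R i j k l a b) : a * b = b * a := by
  have hcz : (a * b * a⁻¹ * b⁻¹) * z = z * (a * b * a⁻¹ * b⁻¹) :=
    ((((show Commute a z from h.az).mul_left h.bz).mul_left (show Commute a z from h.az).inv_left).mul_left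
      (show Commute b z from h.bz).inv_left).eq
  have ia : a * i * a⁻¹ = j := h.fr.act_a.i
  have ja : a * j * a⁻¹ = i * j := h.fr.act_a.j
  have ca_k : Commute a k := mul_inv_eq_iff_eq_mul.1 h.fr.act_a.k
  have ca_l : Commute a l := mul_inv_eq_iff_eq_mul.1 h.fr.act_a.l
  have cb_i : Commute b i := mul_inv_eq_iff_eq_mul.1 h.fr.act_b.i
  have cb_j : Commute b j := mul_inv_eq_iff_eq_mul.1 h.fr.act_b.j
  have hR : R ≤ centralizer ({a * b * a⁻¹ * b⁻¹} : Set K) := by
    rw [h.gR, closure_le]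
    intro x hx
    rw [SetLike.mem_coe, mem_centralizer_singleton_iff]
    -- `x` commutes with `[a, b]`
    have aux : ∀ x y : K, (a * y * a⁻¹ = x) → Commute b x → Commute b y →
        Commute (a * b * a⁻¹ * b⁻¹) x := by
      intro x y e hbx hby
      have h1 : a⁻¹ * x * a = y := by rw [← e]; group
      have h2 : a * b * a⁻¹ * b⁻¹ * x = x * (a * b * a⁻¹ * b⁻¹) := by
        calc a * b * a⁻¹ * b⁻¹ * x = a * b * a⁻¹ * (b⁻¹ * x) := by group
          _ = a * b * a⁻¹ * (x * b⁻¹) := by rw [hbx.inv_left.eq]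
          _ = a * b * (a⁻¹ * x * a) * a⁻¹ * b⁻¹ := by group
          _ = a * (b * y) * a⁻¹ * b⁻¹ := by rw [h1]; group
          _ = a * (y * b) * a⁻¹ * b⁻¹ := by rw [hby.eq]
          _ = (a * y * a⁻¹) * (a * b * a⁻¹ * b⁻¹) := by group
          _ = x * (a * b * a⁻¹ * b⁻¹) := by rw [e]
      exact h2
    have aux2 : ∀ x y : K, (b⁻¹ * x * b = y) → Commute a x → Commute a y →
        Commute (a * b * a⁻¹ * b⁻¹) x := by
      intro x y e hax hay
      have h1 : b * y * b⁻¹ = x := by rw [← e]; group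
      have h2 : a * b * a⁻¹ * b⁻¹ * x = x * (a * b * a⁻¹ * b⁻¹) := by
        calc a * b * a⁻¹ * b⁻¹ * x = a * b * a⁻¹ * (b⁻¹ * x * b) * b⁻¹ := by group
          _ = a * b * (a⁻¹ * y) * b⁻¹ := by rw [e]; group
          _ = a * b * (y * a⁻¹) * b⁻¹ := by rw [hay.inv_left.eq]
          _ = a * (b * y * b⁻¹) * b * a⁻¹ * b⁻¹ := by group
          _ = (a * x) * b * a⁻¹ * b⁻¹ := by rw [h1]
          _ = (x * a) * b * a⁻¹ * b⁻¹ := by rw [hax.eq]
          _ = x * (a * b * a⁻¹ * b⁻¹) := by group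
      exact h2
    rcases hx with rfl | rfl | rfl | rfl
    · -- `i = a (j i⁻¹) a⁻¹`
      refine (aux x (j * x⁻¹) ?_ cb_i (cb_j.mul_right cb_i.inv_right)).symm.eq
      calc a * (j * x⁻¹) * a⁻¹ = (a * j * a⁻¹) * (a * x * a⁻¹)⁻¹ := by group
        _ = x := by rw [ia, ja]; group
    · exact (aux x i ia cb_j cb_i).symm.eq
    · refine (aux2 x (b⁻¹ * x * b) rfl ca_k ?_).symm.eq
      -- `b⁻¹ k b = l k⁻¹`
      have e1 : b⁻¹ * x * b = l * x⁻¹ := by
        have e2 : b * (l * x⁻¹) * b⁻¹ = x := by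
          calc b * (l * x⁻¹) * b⁻¹ = (b * l * b⁻¹) * (b * x * b⁻¹)⁻¹ := by group
            _ = x := by rw [h.fr.act_b.k, h.fr.act_b.l]; group
        calc b⁻¹ * x * b = b⁻¹ * (b * (l * x⁻¹) * b⁻¹) * b := by rw [e2]
          _ = l * x⁻¹ := by group
      rw [e1]
      exact ca_l.mul_right ca_k.inv_right
    · refine (aux2 x (b⁻¹ * x * b) rfl ca_l ?_).symm.eq
      have e1 : b⁻¹ * x * b = k := by
        calc b⁻¹ * x * b = b⁻¹ * (b * k * b⁻¹) * b := by rw [h.fr.act_b.k]
          _ = k := by group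
      rw [e1]
      exact ca_k
  have hR' : ∀ r ∈ R, (a * b * a⁻¹ * b⁻¹) * r = r * (a * b * a⁻¹ * b⁻¹) := fun r hr =>
    (mem_centralizer_singleton_iff.1 (hR hr)).symm
  rcases h.cR _ hcz hR' with e | e
  · have h1 : a * b * a⁻¹ = b := mul_inv_eq_one.1 e
    calc a * b = a * b * a⁻¹ * a := by group
      _ = b * a := by rw [h1]
  · exfalso
    have h1 : a * b * a⁻¹ = z * b := by rw [← e]; group
    have h2 : (z * b) ^ orderOf b = 1 := by
      rw [← h1, conj_pow, pow_orderOf_eq_one]; group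
    have hc : Commute z b := (show Commute b z from h.bz).symm
    obtain ⟨n, hn⟩ := h.ob
    rw [hc.mul_pow, pow_orderOf_eq_one, mul_one, hn, pow_succ, pow_mul, pow_two, h.zz, one_pow, one_mul] at h2
    exact h.z1 h2

/-- `J₁ = ⟨i, j, a⟩` is normal in `D` -/
theorem J_normal (h : KH z R i j k l a b) :
    ∀ d ∈ DD i j k l a b, ∀ x ∈ closure ({i, j, a} : Set K), d * x * d⁻¹ ∈ closure ({i, j, a} : Set K) := by
  set J : Subgroup K := closure ({i, j, a} : Set K) with hJ
  have hD : DD i j k l a b ≤ normalizer (J : Set K) := by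
    rw [closure_le]
    intro x hx
    have hle : J ≤ normalizer (J : Set K) := le_normalizer
    have hi : i ∈ J := subset_closure (by simp)
    have hj : j ∈ J := subset_closure (by simp)
    have ha : a ∈ J := subset_closure (by simp)
    have cen : ∀ y : K, y * i = i * y → y * j = j * y → y * a = a * y → y ∈ normalizer (J : Set K) := by
      intro y h1 h2 h3
      have h4 : J ≤ centralizer ({y} : Set K) := by
        rw [hJ, closure_le]
        intro w hw
        rw [SetLike.mem_coe, mem_centralizer_singleton_iff]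
        rcases hw with rfl | rfl | rfl
        exacts [h1.symm, h2.symm, h3.symm]
      rw [mem_normalizer_iff]
      intro w
      constructor
      · intro hw
        have h5 := mem_centralizer_singleton_iff.1 (h4 hw)
        rw [← h5, mul_inv_cancel_right]; exact hw
      · intro hw
        have h5 := mem_centralizer_singleton_iff.1 (h4 hw)
        have e : y * w * y⁻¹ = w := by
          have e1 : y⁻¹ * (y * w * y⁻¹ * y) * y = y⁻¹ * (y * (y * w * y⁻¹)) * y := by rw [h5]
          have e2 : y⁻¹ * (y * w * y⁻¹ * y) * y = w * y := by group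
          have e3 : y⁻¹ * (y * (y * w * y⁻¹)) * y = y * w := by group
          rw [e2, e3] at e1
          rw [← e1, mul_inv_cancel_right]
        rwa [e] at hw
    rcases hx with rfl | rfl | rfl | rfl | rfl | rfl
    · exact hle hi
    · exact hle hj
    · exact cen _ h.fr.ki h.fr.kj (mul_inv_eq_iff_eq_mul.1 h.fr.act_a.k).symm
    · exact cen _ h.fr.li h.fr.lj (mul_inv_eq_iff_eq_mul.1 h.fr.act_a.l).symm
    · exact hle ha
    · exact cen _ (mul_inv_eq_iff_eq_mul.1 h.fr.act_b.i) (mul_inv_eq_iff_eq_mul.1 h.fr.act_b.j) (ab_comm h).symm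
  intro d hd x hx
  exact (mem_normalizer_iff.1 (hD hd) x).1 hx

end K

/-- **the classical case**: `D` is not normal in `C_G(z)` -/
theorem false_of_normal [Finite G] (C : Ctx G) {K : Subgroup G} {z : K} {R : Subgroup K} {i j k l a b : K}
    (h : KH z R i j k l a b)
    (j1 : Nonempty (↥(closure ({i, j, a} : Set K)) ≃* Matrix.SpecialLinearGroup (Fin 2) (ZMod 3)))
    (hn : ∀ g : G, g * z = z * g → ∀ d ∈ (DD i j k l a b).map K.subtype,
      g * d * g⁻¹ ∈ (DD i j k l a b).map K.subtype) : False := by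
  obtain ⟨e⟩ := j1
  set J : Subgroup K := closure ({i, j, a} : Set K) with hJ
  set D : Subgroup K := DD i j k l a b with hD
  have hJD : J ≤ D := by
    apply Subgroup.closure_mono
    intro x hx
    rcases hx with rfl | rfl | rfl <;> simp
  have hzJ : z ∈ J := by
    rw [← h.fr.ii]
    exact mul_mem (subset_closure (by simp)) (subset_closure (by simp))
  have hz2 : orderOf (z : G) = 2 := orderOf_eq_prime (by
    rw [pow_two]; exact congrArg Subtype.val h.zz) (fun e => h.z1 (Subtype.ext e))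
  have hDz : D.map K.subtype ≤ centralizer ({(z : G)} : Set G) := by
    rintro _ ⟨d, hd, rfl⟩
    exact mem_centralizer_singleton_iff.2 (congrArg Subtype.val (h.Dz d hd))
  have hsn : ((J.map K.subtype).subgroupOf (centralizer ({(z : G)} : Set G))).IsSubnormal := by
    refine sn_chain (Subgroup.map_mono hJD) (sn_of_conj ?_) (sn_of_conj ?_)
    · rintro _ ⟨d, hd, rfl⟩ _ ⟨x, hx, rfl⟩
      exact ⟨d * x * d⁻¹, J_normal h d hd x hx, rfl⟩
    · intro g hg d hd
      exact hn g (mem_centralizer_singleton_iff.1 hg) d hd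
  refine C.classical z (J.map K.subtype) hz2 ⟨(Subgroup.map_mono hJD).trans hDz, ⟨z, hzJ, rfl⟩, hsn⟩ (Or.inl ?_)
  refine ⟨ZMod 3, inferInstance, inferInstance, by rw [ZMod.card]; decide, ?_⟩
  have e1 : ↥(J.map K.subtype) ≃* Matrix.SpecialLinearGroup (Fin 2) (ZMod 3) :=
    (J.equivMapOfInjective K.subtype K.subtype_injective).symm.trans e
  have h1 : oddCore (Matrix.SpecialLinearGroup (Fin 2) (ZMod 3)) = ⊥ :=
    Cfsg.Agent.Cit.ParabSL2.oddCore_sl (by rw [ZMod.card]; decide)
  have h2 : oddCore ↥(J.map K.subtype) = ⊥ := by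
    have h3 := Cfsg.Agent.Lib.Cores.map_equiv_pPrimeCore e1 2
    have h4 : (pPrimeCore 2 ↥(J.map K.subtype)).map e1.toMonoidHom = ⊥ := h3.trans h1
    exact (Subgroup.map_eq_bot_iff_of_injective _ e1.injective).1 h4
  exact ⟨(QuotientGroup.quotientMulEquivOfEq h2).trans ((QuotientGroup.quotientBot).trans e1)⟩

/-- `oddC t` in `C_G(z)` is `D` -/
theorem map_oddC {K : Subgroup G} {z : K} {R : Subgroup K} {i j k l a b : K} (h : KH z R i j k l a b) {t : G}
    (Kt : ∀ x ∈ K, x * t = t * x) (mo : ∀ g : G, g * t = t * g → Odd (orderOf g) → g ∈ K)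
    {t' : ↥(centralizer ({(z : G)} : Set G))} (ht' : (t' : G) = t) :
    (oddC t').map (centralizer ({(z : G)} : Set G)).subtype = (DD i j k l a b).map K.subtype := by
  apply le_antisymm
  · rw [oddC, MonoidHom.map_closure, closure_le]
    rintro _ ⟨d, ⟨hd, ho⟩, rfl⟩
    have hdt : (d : G) * t = t * d := by
      have := congrArg Subtype.val hd
      rw [← ht']; exact this
    have ho' : Odd (orderOf (d : G)) := by rwa [Subgroup.orderOf_coe]
    have hK := mo d hdt ho'
    refine ⟨⟨d, hK⟩, h.od _ (Subtype.ext (mem_centralizer_singleton_iff.1 d.2)) ?_, rfl⟩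
    rwa [Subgroup.orderOf_mk]
  · refine (Subgroup.map_mono h.gen).trans ?_
    rw [MonoidHom.map_closure, closure_le]
    rintro _ ⟨x, ⟨hx, ho⟩, rfl⟩
    have hxz : (x : G) ∈ centralizer ({(z : G)} : Set G) :=
      mem_centralizer_singleton_iff.2 (congrArg Subtype.val (h.Dz x hx))
    refine ⟨⟨x, hxz⟩, subset_closure ⟨Subtype.ext ?_, ?_⟩, rfl⟩
    · show (x : G) * t' = t' * x
      rw [ht']; exact Kt x x.2
    · rw [Subgroup.orderOf_mk, Subgroup.orderOf_coe]; exact ho

/-- **the classical case**, second alternative of `HypT.main` -/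
theorem classical_of_normal [Finite G] (C : Ctx G) {K : Subgroup G} {z : K} {R : Subgroup K} {i j k l a b : K}
    (h : KH z R i j k l a b)
    (j1 : Nonempty (↥(closure ({i, j, a} : Set K)) ≃* Matrix.SpecialLinearGroup (Fin 2) (ZMod 3))) {t : G}
    (Kt : ∀ x ∈ K, x * t = t * x) (mo : ∀ g : G, g * t = t * g → Odd (orderOf g) → g ∈ K)
    {t' : ↥(centralizer ({(z : G)} : Set G))} (ht' : (t' : G) = t) (hn : (oddC t').Normal) : False := by
  apply false_of_normal C h j1
  intro g hg d hd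
  rw [← map_oddC h Kt mo ht'] at hd ⊢
  obtain ⟨x, hx, rfl⟩ := hd
  exact ⟨⟨g, mem_centralizer_singleton_iff.2 hg⟩ * x * ⟨g, mem_centralizer_singleton_iff.2 hg⟩⁻¹,
    hn.conj_mem x hx _, rfl⟩

/-- `KH` from `FrontT` -/
theorem FrontT.kh {K : Type*} [Group K] {z : K} {R : Subgroup K} {i j k l a b : K} (f : FrontT z R i j k l a b) :
    KH z R i j k l a b :=
  { f.toBase with
    fr := f.fr
    gR := f.gR
    od := f.od
    oa := f.oa
    ob := f.ob }

end Cfsg.Agent.OddHalf.D6.QThree.TS
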