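import Cfsg.Agent.OddHalf.D6.QThree.TS.SplitAct

/-!
# ODD half, D6, `L₄(3)`, `T = S`: an automorphism of odd order that is trivial on a strongly embedded subgroup

`trivial_of_strong`: an automorphism of odd order of a simple group with two distinct commuting involutions that fixes
every element of a strongly embedded subgroup is trivial (`trivial_of_fix` for the group it generates).
-/

set_option autoImplicit false

namespace Cfsg.Agent.OddHalf.D6.QThree.TS

open Subgroup Cfsg Cfsg.Agent.StrongEmb.TwoRank

/-- a simple group with two distinct commuting involutions is not abelian -/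
theorem exists_noncomm {N : Type*} [Group N] [IsSimpleGroup N] (hc : CommPair N) : ∃ a b : N, a * b ≠ b * a := by
  by_contra hna
  have hna' : ∀ a b : N, a * b = b * a := by
    intro a b
    by_contra h
    exact hna ⟨a, b, h⟩
  obtain ⟨a, b, ha, hb, hab, -⟩ := hc
  have hn : (zpowers a).Normal := by
    refine ⟨?_⟩
    intro n hn g
    rwa [hna' g n, mul_assoc, mul_inv_cancel, mul_one]
  have ha1 : a ≠ 1 := by
    intro h; rw [h, orderOf_one] at ha; exact absurd ha (by norm_num)
  have hb1 : b ≠ 1 := by
    intro h; rw [h, orderOf_one] at hb; exact absurd hb (by norm_num)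
  rcases hn.eq_bot_or_eq_top with h | h
  · exact ha1 (zpowers_eq_bot.mp h)
  · have hbm : b ∈ zpowers a := by rw [h]; trivial
    rw [mem_zpowers_iff] at hbm
    obtain ⟨k, hk⟩ := hbm
    have haa : a ^ (2 : ℤ) = 1 := by
      have := pow_orderOf_eq_one a
      rw [ha] at this
      exact_mod_cast this
    rcases Int.even_or_odd' k with ⟨m, hm | hm⟩
    · apply hb1
      rw [← hk, hm, zpow_mul, haa, one_zpow]
    · apply hab
      rw [← hk, hm, zpow_add, zpow_mul, haa, one_zpow, one_mul, zpow_one]

/-- **an automorphism of odd order that is trivial on a strongly embedded subgroup is trivial** -/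
theorem trivial_of_strong {N : Type*} [Group N] [Finite N] [IsSimpleGroup N] (Gam : Subgroup N)
    (hs : IsStronglyEmbedded Gam) (hc : CommPair N) (phi : MulAut N) (h1 : ∀ x ∈ Gam, phi x = x)
    (ho : Odd (orderOf phi)) : phi = 1 := by
  have hfix : ∀ d : zpowers phi, ∀ x ∈ Gam, (zpowers phi).subtype d x = x := by
    rintro ⟨d, hd⟩ x hx
    show d x = x
    rw [mem_zpowers_iff] at hd
    obtain ⟨k, rfl⟩ := hd
    have hst : phi ∈ (MulAction.stabilizer (MulAut N) x) := by
      rw [MulAction.mem_stabilizer_iff]
      exact h1 x hx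
    have := (MulAction.stabilizer (MulAut N) x).zpow_mem hst k
    rw [MulAction.mem_stabilizer_iff] at this
    exact this
  have h := trivial_of_fix (exists_noncomm hc) hs (zpowers phi).subtype hfix ?_
  · refine MulEquiv.ext fun x => ?_
    exact h ⟨phi, mem_zpowers phi⟩ x
  · intro P _ hP
    rw [eq_top_iff]
    intro d _
    obtain ⟨k, hk⟩ := hP d
    have hod : Odd (orderOf d) := by
      refine Odd.of_dvd_nat ho ?_
      rw [← Subgroup.orderOf_coe]
      exact orderOf_dvd_of_mem_zpowers d.2
    have hcop : (orderOf d).Coprime (2 ^ k) := (Nat.Coprime.pow_right k (Nat.coprime_two_right.mpr hod))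
    obtain ⟨m, hm⟩ := exists_pow_eq_self_of_coprime hcop.symm
    rw [← hm]
    exact P.pow_mem hk m

end Cfsg.Agent.OddHalf.D6.QThree.TS
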