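import Cfsg.Agent.OddHalf.D6.QThree.TS.Comp
import Cfsg.Agent.OddHalf.D6.QThree.TS.StrongTriv

/-!
# ODD half, D6, `K = L₄(3)`, `T = S` (helper296, bb #16577): case (α)

`BaseT.alpha_end`: a component `M` of `X = C_G(z)` containing neither `Q₁` nor `Q₂` is centralised by the elements of odd
order of `C_X(t)`, and it is the only component.
-/

set_option autoImplicit false

namespace Cfsg.Agent.OddHalf.D6.QThree.TS

open Subgroup Cfsg
open Cfsg.Agent.SignalizersComponents.Components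
open Cfsg.Agent.Cit (cj mem_cj conj_mem_cj cj_mul cj_one)
open Cfsg.Agent.OddHalf.D6.QThree.NISide
open Cfsg.Agent.OddHalf.D6.QThree.NIB (Bt)
open Cfsg.Agent.StrongEmb.TwoRank (CommPair)

/-- a subgroup of index two containing the squares and avoiding `z` -/
theorem exists_index_two_avoid {W : Type*} [Group W] [Finite W] (P : Subgroup W) (hsq : ∀ w : W, w * w ∈ P) {z : W}
    (hz : z ∉ P) : ∃ C : Subgroup W, P ≤ C ∧ z ∉ C ∧ C.index = 2 := by
  obtain ⟨C, ⟨hPC, hzC⟩, hmax⟩ := (Set.toFinite {C : Subgroup W | P ≤ C ∧ z ∉ C}).exists_maximal ⟨P, le_refl _, hz⟩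
  have hcom : ∀ a b : W, a * b * a⁻¹ * b⁻¹ ∈ C := by
    intro a b
    have h1 : a * b * a⁻¹ * b⁻¹ = (a * a) * ((a⁻¹ * b) * (a⁻¹ * b)) * (b⁻¹ * b⁻¹) := by group
    rw [h1]
    exact hPC (P.mul_mem (P.mul_mem (hsq _) (hsq _)) (hsq _))
  have hCn : C.Normal := by
    refine ⟨fun c hc g => ?_⟩
    have h1 : g * c * g⁻¹ = (g * c * g⁻¹ * c⁻¹) * c := by group
    rw [h1]
    exact C.mul_mem (hcom g c) hc
  refine ⟨C, hPC, hzC, ?_⟩
  rw [Subgroup.index_eq_two_iff]
  refine ⟨z, fun b => ?_⟩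
  by_cases hb : b ∈ C
  · right
    refine ⟨hb, fun h => hzC ?_⟩
    have := C.mul_mem (C.inv_mem hb) h
    rwa [inv_mul_cancel_left] at this
  · left
    refine ⟨?_, hb⟩
    have h1 : z ∈ C ⊔ zpowers b := by
      by_contra hcon
      have h2 := hmax (y := C ⊔ zpowers b) ⟨hPC.trans le_sup_left, hcon⟩ le_sup_left
      exact hb (h2 ((le_sup_right : zpowers b ≤ _) (mem_zpowers b)))
    obtain ⟨c, hc, d, hd, hcd⟩ := mem_sup_of_normal_left.1 h1
    obtain ⟨k, rfl⟩ := mem_zpowers_iff.1 hd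
    have hbb : ∀ n : ℤ, (b * b) ^ n ∈ C := fun n => C.zpow_mem (hPC (hsq b)) n
    have h3 : z * b⁻¹ ∈ C := by
      rcases Int.even_or_odd k with ⟨m, rfl⟩ | ⟨m, rfl⟩
      · exfalso
        apply hzC
        rw [← hcd, ← two_mul, zpow_mul, zpow_ofNat, pow_two]
        exact C.mul_mem hc (hbb m)
      · have h4 : b ^ (2 * m + 1) * b⁻¹ = (b * b) ^ m := by
          rw [zpow_add, zpow_mul, zpow_ofNat, pow_two, zpow_one, mul_inv_cancel_right]
        rw [← hcd, mul_assoc, h4]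
        exact C.mul_mem hc (hbb m)
    have h5 : b * z = (b * z * b⁻¹ * z⁻¹) * (z * b⁻¹) * (b * b) := by group
    rw [h5]
    exact C.mul_mem (C.mul_mem (hcom b z) h3) (hPC (hsq b))

/-- central elements of a perfect group -/
theorem mem_of_central {M : Type*} [Group M] [Finite M] (hM : Group.IsPerfect M) (P : Sylow 2 M) (Q : Subgroup M)
    (hsq : ∀ w ∈ P, w * w ∈ Q) {z : M} (hzP : z ∈ P) (hzz : z * z = 1) (hzc : ∀ g, g * z = z * g) : z ∈ Q := by
  by_contra hzQ
  obtain ⟨C, -, hzC, hC2⟩ := exists_index_two_avoid (W := ↥(P : Subgroup M)) (Q.subgroupOf (P : Subgroup M))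
    (fun w => by rw [mem_subgroupOf]; exact hsq w w.2) (z := ⟨z, hzP⟩) (by rw [mem_subgroupOf]; exact hzQ)
  obtain ⟨g, hg⟩ := CaseM.exists_conj_of_perfect hM P (C.map (P : Subgroup M).subtype)
    (by rintro _ ⟨x, -, rfl⟩; exact x.2)
    (by
      unfold Subgroup.relIndex
      have h1 : (C.map (P : Subgroup M).subtype).subgroupOf (P : Subgroup M) = C :=
        comap_map_eq_self_of_injective (P : Subgroup M).subtype_injective C
      rw [h1, hC2]) z hzz
  rw [hzc g, mul_inv_cancel_right] at hg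
  obtain ⟨y, hy, hyz⟩ := hg
  apply hzC
  have : y = ⟨z, hzP⟩ := Subtype.ext hyz
  rwa [← this]

/-- a nontrivial 2-element has a power which is an involution -/
theorem exists_pow_two {G : Type*} [Group G] {b : G} (hb : ∃ n : ℕ, b ^ 2 ^ n = 1) (hb1 : b ≠ 1) :
    ∃ k : ℕ, b ^ k * b ^ k = 1 ∧ b ^ k ≠ 1 := by
  classical
  have hn := Nat.find_spec hb
  set n := Nat.find hb with hn'
  have hn0 : n ≠ 0 := by
    intro h0
    rw [h0, pow_zero, pow_one] at hn
    exact hb1 hn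
  obtain ⟨m, hm⟩ := Nat.exists_eq_succ_of_ne_zero hn0
  refine ⟨2 ^ m, ?_, fun h => ?_⟩
  · rw [← pow_add, ← two_mul, ← pow_succ']
    rw [hm] at hn
    exact hn
  · have := Nat.find_min hb (m := m) (by rw [← hn', hm]; exact Nat.lt_succ_self m)
    exact this h

namespace BaseT

variable {X : Type*} [Group X] {z t a₁ a₂ : X} {Q₁ Q₂ Q : Subgroup X} {S : Sylow 2 X}

/-- normal subgroups of odd order of a component are trivial -/
theorem odd_normal [Finite X] (h : BaseT z t a₁ a₂ Q₁ Q₂ Q S) {M : Subgroup X} (hM : IsComponent M)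
    {N : Subgroup M} (hN : N.Normal) (ho : Odd (Nat.card N)) : N = ⊥ := by
  have e := Cfsg.Agent.SignalizersComponents.CompBasic.map_subtype_pPrimeCore_of_subnormal 2 hM.1
  rw [h.O, inf_bot_eq, map_eq_bot_iff_of_injective _ M.subtype_injective] at e
  rw [eq_bot_iff, ← e]
  exact Cfsg.Agent.Lib.Cores.le_pPrimeCore hN (Nat.coprime_two_right.mpr ho)

/-- `t`, `t z` are not isolated in a component -/
theorem not_isolated [Finite X] (h : BaseT z t a₁ a₂ Q₁ Q₂ Q S) {M : Subgroup X} (hM : IsComponent M)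
    (P : Sylow 2 M) {i : M} (hi : (i : X) = t ∨ (i : X) = t * z) (hiP : i ∈ P)
    (hiso : ∀ u ∈ P, u * u = 1 → u ≠ 1 → u = i) : False := by
  have hii : i * i = 1 := by
    apply Subtype.ext
    show (i : X) * i = 1
    rcases hi with e | e
    · rw [e, h.tt]
    · rw [e]
      calc t * z * (t * z) = t * (z * t) * z := by group
        _ = (t * t) * (z * z) := by rw [← h.zc t]; group
        _ = 1 := by rw [h.tt, h.zz, one_mul]
  have hi1 : i ≠ 1 := by
    intro e
    have e1 : (i : X) = 1 := congrArg Subtype.val e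
    rcases hi with e2 | e2
    · exact h.t1 (e2.symm.trans e1)
    · rw [e2] at e1
      apply h.tz
      rw [mul_eq_one_iff_eq_inv, h.zinv] at e1
      exact e1
  have hord : orderOf i = 2 := by
    rw [orderOf_eq_iff (by norm_num)]
    refine ⟨by rw [pow_two, hii], fun m hm hm0 => ?_⟩
    interval_cases m
    rwa [pow_one]
  obtain ⟨N, hN, hNo, hNc⟩ := Cfsg.Agent.S0215.result P i hord hiP (fun g hg => hiso _ hg (by
    calc g * i * g⁻¹ * (g * i * g⁻¹) = g * (i * i) * g⁻¹ := by group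
      _ = 1 := by rw [hii, mul_one, mul_inv_cancel]) (fun e => hi1 (conj_eq_one_iff.1 e)))
  rw [h.odd_normal hM hN hNo] at hNc
  apply h.not_le hM.2
  intro x hx
  have h1 := hNc ⟨x, hx⟩
  rw [mem_bot, mul_inv_eq_one, mul_inv_eq_iff_eq_mul] at h1
  have h2 : (i : X) * x = x * i := congrArg Subtype.val h1
  rcases hi with e | e
  · rw [e] at h2; exact h2.symm
  · have h3 : t = (i : X) * z := by rw [e, mul_assoc, h.zz, mul_one]
    rw [h3]
    exact (((show Commute (i : X) x from h2).mul_left (h.zc x).symm).symm).eq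


theorem zS [Finite X] (h : BaseT z t a₁ a₂ Q₁ Q₂ Q S) : z ∈ S := by
  have hn : (zpowers z).Normal := by
    refine ⟨fun n hn g => ?_⟩
    obtain ⟨k, rfl⟩ := mem_zpowers_iff.1 hn
    have h1 : Commute g (z ^ k) := (show Commute g z from h.zc g).zpow_right k
    rw [h1.eq, mul_inv_cancel_right]
    exact hn
  have h1 : IsPGroup 2 ((S : Subgroup X) ⊔ zpowers z : Subgroup X) :=
    IsPGroup.to_sup_of_normal_right S.2 (NI.isPGroup_zp h.zz)
  have h2 := S.3 h1 le_sup_left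
  have h3 : z ∈ ((S : Subgroup X) ⊔ zpowers z : Subgroup X) := (le_sup_right : zpowers z ≤ _) (mem_zpowers z)
  rw [h2] at h3
  exact h3

/-- the involutions of `Q ⟨z⟩` -/
theorem eq_of_QZ (h : BaseT z t a₁ a₂ Q₁ Q₂ Q S) {u : X} (hQ : QZ Q z u) (huu : u * u = 1) (hu1 : u ≠ 1)
    (huz : u ≠ z) : u = t ∨ u = t * z := by
  rcases hQ with hQ | hQ
  · rcases h.Q1 u hQ huu with e | e
    · exact absurd e hu1
    · exact Or.inl e
  · have h1 : u * z * (u * z) = 1 := by
      calc u * z * (u * z) = u * (z * u) * z := by group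
        _ = (u * u) * (z * z) := by rw [← h.zc u]; group
        _ = 1 := by rw [huu, h.zz, one_mul]
    rcases h.Q1 _ hQ h1 with e | e
    · exfalso
      apply huz
      rw [mul_eq_one_iff_eq_inv, h.zinv] at e
      exact e
    · right
      rw [← e, mul_assoc, h.zz, mul_one]

theorem QZ_mul (h : BaseT z t a₁ a₂ Q₁ Q₂ Q S) {x y : X} (hx : QZ Q z x) (hy : QZ Q z y) : QZ Q z (x * y) := by
  rcases hx with hx | hx <;> rcases hy with hy | hy
  · exact Or.inl (Q.mul_mem hx hy)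
  · exact Or.inr (by rw [mul_assoc]; exact Q.mul_mem hx hy)
  · right
    have h1 := Q.mul_mem hx hy
    rwa [mul_assoc, ← h.zc y, ← mul_assoc] at h1
  · left
    have h1 := Q.mul_mem hx hy
    have e : x * z * (y * z) = x * y := by
      calc x * z * (y * z) = x * (z * y) * z := by group
        _ = x * y * (z * z) := by rw [← h.zc y]; group
        _ = x * y := by rw [h.zz, mul_one]
    rwa [e] at h1

theorem QZ_inv (h : BaseT z t a₁ a₂ Q₁ Q₂ Q S) {x : X} (hx : QZ Q z x) : QZ Q z x⁻¹ := by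
  rcases hx with hx | hx
  · exact Or.inl (Q.inv_mem hx)
  · right
    have h1 := Q.inv_mem hx
    rwa [mul_inv_rev, h.zinv, ← h.zc] at h1

theorem tzz (h : BaseT z t a₁ a₂ Q₁ Q₂ Q S) : t * z * (t * z) = 1 := by
  calc t * z * (t * z) = t * (z * t) * z := by group
    _ = (t * t) * (z * z) := by rw [← h.zc t]; group
    _ = 1 := by rw [h.tt, h.zz, one_mul]

/-- the data of case (α) -/
theorem alpha_inv [Finite X] (h : BaseT z t a₁ a₂ Q₁ Q₂ Q S) {M : Subgroup X} (hM : IsComponent M)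
    (h1 : ¬ Q₁ ≤ M) (h2 : ¬ Q₂ ≤ M) :
    ∃ i u : M, ((i : X) = t ∨ (i : X) = t * z) ∧ u * u = 1 ∧ u ≠ 1 ∧ u ≠ i ∧ i * u = u * i ∧
      ∀ v : M, v * v = 1 → v ≠ 1 → ∃ g : M, g * v * g⁻¹ = i := by
  have : Fact (Nat.Prime 2) := ⟨Nat.prime_two⟩
  have hB := (h.alpha hM h1 h2).1
  obtain ⟨P, hP⟩ := Cfsg.Agent.S0542.result 2 M hM.1 S
  have hPS : ∀ m : M, m ∈ P ↔ (m : X) ∈ S := fun m => by
    have : m ∈ (P : Subgroup M) ↔ m ∈ (S : Subgroup X).subgroupOf M := by rw [hP]
    exact this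
  have hPt : ∀ m ∈ P, (m : X) * t = t * m := fun m hm => h.St _ ((hPS m).1 hm)
  have hPB : ∀ m ∈ P, Bt t Q₁ Q₂ (m : X) := fun m hm => hB m m.2 (hPt m hm)
  -- `z ∉ M`
  have hzM : z ∉ M := by
    intro hzM
    have h3 := mem_of_central hM.2.1 P (Q.subgroupOf M) (fun w hw => by
      rw [mem_subgroupOf]; exact h.Bsq _ (hPB w hw)) (z := ⟨z, hzM⟩) ((hPS _).2 h.zS) (Subtype.ext h.zz)
      (fun g => Subtype.ext (h.zc g))
    exact h.zQ (mem_subgroupOf.1 h3)
  have hQZ : ∀ u : M, QZ Q z (u : X) → u * u = 1 → u ≠ 1 → (u : X) = t ∨ (u : X) = t * z := by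
    intro u hu huu hu1
    refine h.eq_of_QZ hu (congrArg Subtype.val huu) (fun e => hu1 (Subtype.ext e)) (fun e => hzM ?_)
    rw [← e]; exact u.2
  have huniq : ∀ u v : M, ((u : X) = t ∨ (u : X) = t * z) → ((v : X) = t ∨ (v : X) = t * z) → u = v := by
    have key : ∀ u v : M, (u : X) = t → (v : X) = t * z → False := by
      intro u v hu hv
      apply hzM
      have h3 : z = (u : X) * v := by rw [hu, hv, ← mul_assoc, h.tt, one_mul]
      rw [h3]; exact M.mul_mem u.2 v.2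
    rintro u v (hu | hu) (hv | hv)
    · exact Subtype.ext (hu.trans hv.symm)
    · exact (key u v hu hv).elim
    · exact (key v u hv hu).elim
    · exact Subtype.ext (hu.trans hv.symm)
  -- an involution
  have hne : ∃ u : M, u ∈ P ∧ u * u = 1 ∧ u ≠ 1 := by
    by_contra hcon
    push Not at hcon
    have hPbot : (P : Subgroup M) = ⊥ := by
      rw [eq_bot_iff]
      intro x hx
      by_contra hx1
      rw [mem_bot] at hx1
      obtain ⟨n, hn⟩ := P.2 ⟨x, hx⟩
      obtain ⟨k, hk, hk1⟩ := exists_pow_two ⟨n, congrArg Subtype.val hn⟩ hx1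
      exact hk1 (hcon (x ^ k) ((P : Subgroup M).pow_mem hx k) hk)
    have hodd : Odd (Nat.card M) := by
      rw [← Nat.not_even_iff_odd, even_iff_two_dvd]
      intro h3
      have h4 := P.dvd_card_of_dvd_card h3
      rw [hPbot, Subgroup.card_bot] at h4
      omega
    have h5 := h.odd_normal hM (N := ⊤) inferInstance (by rwa [Subgroup.card_top])
    have h6 : Subsingleton M := by
      have := Subgroup.subsingleton_iff.1 (subsingleton_of_bot_eq_top h5.symm)
      exact this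
    apply h.not_le hM.2
    intro x hx
    have h7 : (⟨x, hx⟩ : M) = 1 := Subsingleton.elim _ _
    have h8 : x = 1 := congrArg Subtype.val h7
    rw [h8, one_mul, mul_one]
  -- all the elements of the Sylow subgroup in `Q ⟨z⟩`
  have hnall : ∃ w ∈ P, ¬ QZ Q z (w : X) := by
    by_contra hcon
    push Not at hcon
    obtain ⟨i, hiP, hii, hi1⟩ := hne
    have hi := hQZ i (hcon i hiP) hii hi1
    exact h.not_isolated hM P hi hiP fun u hu huu hu1 => huniq u i (hQZ u (hcon u hu) huu hu1) hi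
  obtain ⟨w, hwP, hwQ⟩ := hnall
  let A : Subgroup M :=
    { carrier := {m | m ∈ P ∧ QZ Q z (m : X)}
      one_mem' := ⟨(P : Subgroup M).one_mem, Or.inl Q.one_mem⟩
      mul_mem' := fun hx hy => ⟨(P : Subgroup M).mul_mem hx.1 hy.1, h.QZ_mul hx.2 hy.2⟩
      inv_mem' := fun hx => ⟨(P : Subgroup M).inv_mem hx.1, h.QZ_inv hx.2⟩ }
  have hA : ∀ m : M, m ∈ A ↔ m ∈ P ∧ QZ Q z (m : X) := fun m => Iff.rfl
  have hAP : A ≤ (P : Subgroup M) := fun m hm => hm.1
  have hA2 : A.relIndex (P : Subgroup M) = 2 := by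
    unfold Subgroup.relIndex
    rw [Subgroup.index_eq_two_iff]
    refine ⟨⟨w, hwP⟩, fun b => ?_⟩
    have hbB := hPB b b.2
    have hm1 : b * ⟨w, hwP⟩ ∈ A.subgroupOf (P : Subgroup M) ↔ QZ Q z (((b : M) : X) * (w : X)) := by
      rw [mem_subgroupOf]
      exact ⟨fun hh => hh.2, fun hh => ⟨(P : Subgroup M).mul_mem b.2 hwP, hh⟩⟩
    have hm2 : b ∈ A.subgroupOf (P : Subgroup M) ↔ QZ Q z ((b : M) : X) := by
      rw [mem_subgroupOf]
      exact ⟨fun hh => hh.2, fun hh => ⟨b.2, hh⟩⟩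
    by_cases hb : QZ Q z ((b : M) : X)
    · right
      refine ⟨hm2.2 hb, fun hh => hwQ ?_⟩
      have h3 := h.QZ_mul (h.QZ_inv hb) (hm1.1 hh)
      rwa [inv_mul_cancel_left] at h3
    · left
      refine ⟨hm1.2 ?_, fun hh => hb (hm2.1 hh)⟩
      rcases h.Bu _ _ hbB.inv (hPB w hwP) with h3 | h3 | h3
      · exact absurd (by have := h.QZ_inv h3; rwa [inv_inv] at this) hb
      · exact absurd h3 hwQ
      · rwa [inv_inv] at h3
  have hconj : ∀ v : M, v * v = 1 → v ≠ 1 → ∃ g : M, (((g * v * g⁻¹ : M) : X) = t ∨ ((g * v * g⁻¹ : M) : X) = t * z) ∧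
      g * v * g⁻¹ ∈ P := by
    intro v hvv hv1
    obtain ⟨g, hg⟩ := CaseM.exists_conj_of_perfect hM.2.1 P A hAP hA2 v hvv
    refine ⟨g, hQZ _ hg.2 ?_ (fun e => hv1 (conj_eq_one_iff.1 e)), hg.1⟩
    calc g * v * g⁻¹ * (g * v * g⁻¹) = g * (v * v) * g⁻¹ := by group
      _ = 1 := by rw [hvv, mul_one, mul_inv_cancel]
  obtain ⟨u₀, -, hu₀, hu₁⟩ := hne
  obtain ⟨g₀, hi, hiP⟩ := hconj u₀ hu₀ hu₁
  set i : M := g₀ * u₀ * g₀⁻¹ with hidef
  obtain ⟨u, huP, huu, hu1, hui⟩ : ∃ u ∈ P, u * u = 1 ∧ u ≠ 1 ∧ u ≠ i := by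
    by_contra hcon
    push Not at hcon
    exact h.not_isolated hM P hi hiP hcon
  refine ⟨i, u, hi, huu, hu1, hui, ?_, fun v hvv hv1 => ?_⟩
  · apply Subtype.ext
    show (i : X) * u = u * i
    have c1 : Commute (t : X) u := (show Commute (u : X) t from hPt u huP).symm
    rcases hi with e | e
    · rw [e]; exact c1
    · rw [e]; exact c1.mul_left (h.zc (u : X)).symm
  · obtain ⟨g, hg, -⟩ := hconj v hvv hv1
    exact ⟨g, huniq _ _ hg hi⟩

end BaseT

end Cfsg.Agent.OddHalf.D6.QThree.TS
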