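import Cfsg.Agent.OddHalf.D6.QThree.TS.Alpha

/-!
# ODD half, D6, `K = L₄(3)`, `T = S` (helper296, bb #16577): the end of case (α)

`BaseT.alpha_end`: a component `M` of `X = C_G(z)` containing neither `Q₁` nor `Q₂` is centralised by the elements of odd
order of `C_X(t)`, and it is the only component.
-/

set_option autoImplicit false

namespace Cfsg.Agent.OddHalf.D6.QThree.TS

open Subgroup Cfsg
open Cfsg.Agent.SignalizersComponents.Components
open Cfsg.Agent.Cit (cj mem_cj conj_mem_cj cj_mul cj_one)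
open Cfsg.Agent.OddHalf.D6.QThree.NISide
open Cfsg.Agent.OddHalf.D6.QThree.NIB (Bt)
open Cfsg.Agent.StrongEmb.TwoRank (CommPair)

theorem orderOf_two {G : Type*} [Group G] {u : G} (huu : u * u = 1) (hu1 : u ≠ 1) : orderOf u = 2 :=
  orderOf_eq_prime (by rw [pow_two, huu]) hu1

namespace BaseT

variable {X : Type*} [Group X] {z t a₁ a₂ : X} {Q₁ Q₂ Q : Subgroup X} {S : Sylow 2 X}

/-- elements commuting with `t` or `t z` -/
theorem comm_of (h : BaseT z t a₁ a₂ Q₁ Q₂ Q S) {i x : X} (hi : i = t ∨ i = t * z) (hx : x * i = i * x) :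
    x * t = t * x := by
  rcases hi with e | e
  · rw [← e]; exact hx
  · have h3 : t = i * z := by rw [e, mul_assoc, h.zz, mul_one]
    rw [h3]
    exact ((show Commute x i from hx).mul_right (h.zc x)).eq

/-- a component containing `t` or `t z` is the only component -/
theorem only [Finite X] (h : BaseT z t a₁ a₂ Q₁ Q₂ Q S) {M : Subgroup X} (hM : IsComponent M) {i : X}
    (hiM : i ∈ M) (hi : i = t ∨ i = t * z) {M' : Subgroup X} (hM' : IsComponent M') : M' = M := by
  by_contra hne
  exact h.not_le hM'.2 fun x hx => h.comm_of hi (Cfsg.Agent.Cit.Comp.comm_of_ne hM' hM hne hx hiM)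

theorem alpha_end [Finite X] (h : BaseT z t a₁ a₂ Q₁ Q₂ Q S) {M : Subgroup X} (hM : IsComponent M)
    (h1 : ¬ Q₁ ≤ M) (h2 : ¬ Q₂ ≤ M) :
    (∀ d ∈ oddC t, ∀ m ∈ M, d * m = m * d) ∧ ∀ M' : Subgroup X, IsComponent M' → M' = M := by
  have hB := (h.alpha hM h1 h2).1
  obtain ⟨i, u, hi, huu, hu1, hui, hiu, hcj⟩ := h.alpha_inv hM h1 h2
  have honly : ∀ M' : Subgroup X, IsComponent M' → M' = M := fun M' hM' => h.only hM i.2 hi hM'
  refine ⟨?_, honly⟩
  have hcjM : ∀ g, cj g M = M := fun g => honly _ (Cfsg.Agent.Cit.Comp.isComponent_cj hM g)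
  have hMn : M.Normal := by
    refine ⟨fun m hm g => ?_⟩
    have h3 := conj_mem_cj (g := g) hm
    rwa [hcjM g] at h3
  set D : Set X := {d | d * t = t * d ∧ Odd (orderOf d)} with hD
  have hDi : ∀ d ∈ D, d * (i : X) = i * d := by
    intro d hd
    have c : Commute d t := hd.1
    rcases hi with e | e
    · rw [e]; exact c
    · rw [e]; exact c.mul_right (h.zc d)
  -- (*)
  have hstar : ∀ n : M, (∀ d ∈ D, d * ((n : X) * i * (n : X)⁻¹) = ((n : X) * i * (n : X)⁻¹) * d) →
      ∀ d ∈ D, d * (n : X) = n * d := by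
    intro n hn d hd
    have h3 : (n : X)⁻¹ * d * n * i = i * ((n : X)⁻¹ * d * n) := by
      have h4 := hn d hd
      calc (n : X)⁻¹ * d * n * i = (n : X)⁻¹ * (d * ((n : X) * i * (n : X)⁻¹)) * n := by group
        _ = (n : X)⁻¹ * (((n : X) * i * (n : X)⁻¹) * d) * n := by rw [h4]
        _ = i * ((n : X)⁻¹ * d * n) := by group
    have h5 : (n : X)⁻¹ * d * n * t = t * ((n : X)⁻¹ * d * n) := h.comm_of hi h3
    have h6 : d⁻¹ * ((n : X)⁻¹ * d * n) ∈ M := by
      have h7 := M.mul_mem (hMn.conj_mem _ (M.inv_mem n.2) d⁻¹) n.2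
      have e : d⁻¹ * (n : X)⁻¹ * d⁻¹⁻¹ * n = d⁻¹ * ((n : X)⁻¹ * d * n) := by group
      rwa [e] at h7
    have h8 : d⁻¹ * ((n : X)⁻¹ * d * n) * t = t * (d⁻¹ * ((n : X)⁻¹ * d * n)) :=
      ((show Commute d t from hd.1).inv_left.mul_left h5).eq
    have h9 := hB _ h6 h8
    have h10 : d⁻¹ * ((n : X)⁻¹ * d * n) = 1 := by
      refine eq_one_of_odd (d := d⁻¹) (s := (n : X)⁻¹) (by rw [orderOf_inv]; exact hd.2) (h.b2 h9) ?_ (by group)
      exact ((show Commute (d⁻¹ * ((n : X)⁻¹ * d * n)) d from h.odd _ h9 d hd.1 hd.2).inv_right.symm).eq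
    rw [inv_mul_eq_one] at h10
    calc d * (n : X) = (n : X) * ((n : X)⁻¹ * d * n) := by group
      _ = n * d := by rw [← h10]
  -- `Γ = C_M(D)`
  set Γ : Subgroup M := (centralizer D).subgroupOf M with hΓ
  have hmem : ∀ m : M, m ∈ Γ ↔ ∀ d ∈ D, d * (m : X) = m * d := fun m => by
    rw [hΓ, mem_subgroupOf, mem_centralizer_iff]
  have hiΓ : i ∈ Γ := (hmem i).2 hDi
  have hinv : ∀ v ∈ Γ, v * v = 1 → v ≠ 1 → ∃ x ∈ Γ, x * i * x⁻¹ = v := by
    intro v hv hvv hv1
    obtain ⟨g, hg⟩ := hcj v hvv hv1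
    have hv' : g⁻¹ * i * g⁻¹⁻¹ = v := by rw [← hg]; group
    refine ⟨g⁻¹, (hmem _).2 (hstar g⁻¹ fun d hd => ?_), hv'⟩
    have h3 : ((g⁻¹ : M) : X) * i * ((g⁻¹ : M) : X)⁻¹ = v := congrArg Subtype.val hv'
    rw [h3]
    exact (hmem v).1 hv d hd
  have hstarΓ : ∀ n : M, n * i * n⁻¹ ∈ Γ → n ∈ Γ := fun n hn => (hmem n).2 (hstar n ((hmem _).1 hn))
  have hii : i * i = 1 := by
    apply Subtype.ext
    show (i : X) * i = 1
    rcases hi with e | e <;> rw [e]
    · exact h.tt
    · exact h.tzz
  have hi1 : i ≠ 1 := by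
    intro e
    have h3 : (i : X) = 1 := congrArg Subtype.val e
    rcases hi with e2 | e2
    · exact h.t1 (e2.symm.trans h3)
    · rw [e2] at h3
      apply h.tz
      rw [mul_eq_one_iff_eq_inv, h.zinv] at h3
      exact h3
  -- it is enough to treat the elements of odd order
  have key : ∀ d ∈ D, ∀ m ∈ M, d * m = m * d := by
    by_cases hΓt : Γ = ⊤
    · intro d hd m hm
      have h3 : (⟨m, hm⟩ : M) ∈ Γ := by rw [hΓt]; exact mem_top _
      exact (hmem _).1 h3 d hd
    · -- strongly embedded
      have hs : IsStronglyEmbedded Γ := by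
        refine ⟨hΓt, ?_, fun g hg => ?_⟩
        · rw [even_iff_two_dvd, ← orderOf_two (G := Γ) (u := ⟨i, hiΓ⟩) (Subtype.ext hii)
            (fun e => hi1 (congrArg Subtype.val e))]
          exact orderOf_dvd_natCard _
        · rw [← Nat.not_even_iff_odd, even_iff_two_dvd]
          intro hdvd
          have : Fact (Nat.Prime 2) := ⟨Nat.prime_two⟩
          obtain ⟨v, hv⟩ := exists_prime_orderOf_dvd_card' 2 hdvd
          have hvv : (v : M) * v = 1 := by
            have := pow_orderOf_eq_one v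
            rw [hv, pow_two] at this
            exact congrArg Subtype.val this
          have hv1 : (v : M) ≠ 1 := by
            intro e
            have h3 : v = 1 := Subtype.ext e
            rw [h3, orderOf_one] at hv
            omega
          have hvΓ : (v : M) ∈ Γ := v.2.1
          obtain ⟨w, hw, hwv⟩ := v.2.2
          have hwv' : g * w * g⁻¹ = v := hwv
          have hw2 : w * w = 1 := by
            have h3 : w = g⁻¹ * (v : M) * g := by rw [← hwv']; group
            rw [h3]
            calc g⁻¹ * (v : M) * g * (g⁻¹ * (v : M) * g) = g⁻¹ * ((v : M) * v) * g := by group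
              _ = 1 := by rw [hvv]; group
          have hw1 : w ≠ 1 := by
            rintro rfl
            apply hv1
            rw [← hwv', mul_one, mul_inv_cancel]
          obtain ⟨x, hx, hxv⟩ := hinv v hvΓ hvv hv1
          obtain ⟨y, hy, hyw⟩ := hinv w hw hw2 hw1
          apply hg
          have h4 : g * y ∈ Γ := by
            apply hstarΓ
            have h5 : g * y * i * (g * y)⁻¹ = v := by
              rw [← hwv', ← hyw]; group
            rw [h5]; exact hvΓ
          have := Γ.mul_mem h4 (Γ.inv_mem hy)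
          rwa [mul_inv_cancel_right] at this
      -- `M` is simple
      have hZ : center M = ⊥ := by
        rw [eq_bot_iff]
        intro c hc
        rw [mem_bot]
        by_contra hc1
        rw [mem_center_iff] at hc
        have hct : (c : X) * t = t * c := h.comm_of hi (congrArg Subtype.val (hc i)).symm
        have h3 := h.b2 (hB c c.2 hct)
        obtain ⟨n, hn⟩ := h3
        obtain ⟨k, hk, hk1⟩ := exists_pow_two (b := c) ⟨n, Subtype.ext hn⟩ hc1
        obtain ⟨g, hg⟩ := hcj (c ^ k) hk hk1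
        have hcomm : ∀ x : M, Commute x (c ^ k) := fun x => (show Commute x c from hc x).pow_right k
        have h4 : c ^ k = i := by
          rw [← hg, (hcomm g).eq, mul_inv_cancel_right]
        apply h.not_le hM.2
        intro x hx
        have h5 := (hcomm ⟨x, hx⟩).eq
        rw [h4] at h5
        exact h.comm_of hi (congrArg Subtype.val h5)
      have hsimple : IsSimpleGroup M := by
        have h3 := hM.2.2
        have e : (M ⧸ center M) ≃* M := (QuotientGroup.quotientMulEquivOfEq hZ).trans QuotientGroup.quotientBot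
        exact e.symm.isSimpleGroup
      have hc : CommPair M := ⟨i, u, orderOf_two hii hi1, orderOf_two huu hu1, hui.symm, hiu⟩
      intro d hd m hm
      have h3 : (MulAut.conjNormal d : MulAut M) = 1 := by
        refine trivial_of_strong Γ hs hc _ (fun x hx => ?_) ?_
        · apply Subtype.ext
          rw [MulAut.conjNormal_apply, (hmem x).1 hx d hd, mul_inv_cancel_right]
        · refine Odd.of_dvd_nat hd.2 ?_
          exact orderOf_map_dvd (MulAut.conjNormal : X →* MulAut M) d
      have h4 := congrArg (fun φ : MulAut M => ((φ ⟨m, hm⟩ : M) : X)) h3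
      have h5 : d * m * d⁻¹ = m := h4
      rwa [mul_inv_eq_iff_eq_mul] at h5
  intro d hd m hm
  have h3 : oddC t ≤ centralizer ({m} : Set X) := by
    unfold oddC
    rw [closure_le]
    intro x hx
    exact mem_centralizer_singleton_iff.2 (key x hx m hm)
  exact mem_centralizer_singleton_iff.1 (h3 hd)

end BaseT

end Cfsg.Agent.OddHalf.D6.QThree.TS
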