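import Cfsg.Agent.OddHalf.D6.QThree.NISide

/-!
# ODD half, D6, `K = L₄(3)`, `T = S`: (beta1), a 2-group `W` with `C_W(Q) = ⟨z, b⟩` and `C_W(b) = Q ⟨b⟩` (helper890)

`exists_index_two_b` (bb #16577, #17149 of helper296): `Q ≅ Q₈` is normal in the 2-group `W`, `C_W(Q) = {1, z, b, b z}`,
`C_W(b) = Q ⟨b⟩`. Then a subgroup of index two of `W` has only one involution `z`.
-/

set_option autoImplicit false

namespace Cfsg.Agent.OddHalf.D6.QThree.TS

open Subgroup Cfsg
open Cfsg.Agent.OddHalf.D6.QThree.NISide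

variable {X : Type*} [Group X]

/-- the only involution of `Q` is `z` -/
theorem side_inv {z t a : X} {Q D : Subgroup X} (s : Side z t a Q D) (z1 : z ≠ 1) {x : X} (hx : x ∈ Q)
    (hxx : x * x = 1) : x = 1 ∨ x = z := by
  by_contra hne
  push Not at hne
  have := s.sq x hx hne.1 hne.2
  rw [hxx] at this
  exact z1 this.symm

/-- the centralizer in `Q` of an element of order four -/
theorem side_comm {z t a : X} {Q D : Subgroup X} (s : Side z t a Q D) (zc : ∀ x : X, x * z = z * x)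
    (zz : z * z = 1) (z1 : z ≠ 1) {p c : X} (hp : p ∈ Q) (hp1 : p ≠ 1) (hpz : p ≠ z) (hc : c ∈ Q)
    (hcp : c * p = p * c) : c = 1 ∨ c = z ∨ c = p ∨ c = p * z := by
  by_cases h1 : c = 1
  · exact Or.inl h1
  by_cases h2 : c = z
  · exact Or.inr (Or.inl h2)
  have hzi : z⁻¹ = z := inv_eq_of_mul_eq_one_right zz
  have hpp := s.sq p hp hp1 hpz
  have hcc := s.sq c hc h1 h2
  have hpi : p⁻¹ = p * z := by rw [inv_eq_iff_mul_eq_one, ← mul_assoc, hpp, zz]
  have h3 : c * p * (c * p) = 1 := by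
    calc c * p * (c * p) = c * (p * c) * p := by group
      _ = c * (c * p) * p := by rw [hcp]
      _ = (c * c) * (p * p) := by group
      _ = 1 := by rw [hcc, hpp, zz]
  right; right
  rcases side_inv s z1 (Q.mul_mem hc hp) h3 with h | h
  · right
    rw [mul_eq_one_iff_eq_inv] at h
    rw [h, hpi]
  · left
    have h4 : c = z * p⁻¹ := by rw [← h, mul_inv_cancel_right]
    rw [h4, hpi, ← zc (p * z), mul_assoc, zz, mul_one]

/-- an element normalising `Q`, fixing `p` of order four, is trivial on `Q / ⟨z⟩` or its square inverts an element -/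
theorem side_fix {z t a : X} {Q D : Subgroup X} (s : Side z t a Q D) (zc : ∀ x : X, x * z = z * x)
    (zz : z * z = 1) (z1 : z ≠ 1) {p u : X} (hp : p ∈ Q) (hp1 : p ≠ 1) (hpz : p ≠ z)
    (hN : ∀ q ∈ Q, u * q * u⁻¹ ∈ Q) (hu : u * p * u⁻¹ = p ∨ u * p * u⁻¹ = p * z) :
    (∀ q ∈ Q, u * q * u⁻¹ = q ∨ u * q * u⁻¹ = q * z) ∨
      ∃ r ∈ Q, p * r ≠ r * p ∧ ∃ c ∈ Q, (c = p ∨ c = p * z) ∧ u * r * u⁻¹ = r * c := by
  by_cases h : ∀ q ∈ Q, u * q * u⁻¹ = q ∨ u * q * u⁻¹ = q * z
  · exact Or.inl h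
  right
  push Not at h
  obtain ⟨r, hr, h1, h2⟩ := h
  have hzg : ∀ w : X, u * (w * z) * u⁻¹ = u * w * u⁻¹ * z := by
    intro w
    calc u * (w * z) * u⁻¹ = u * w * (z * u⁻¹) := by group
      _ = u * w * (u⁻¹ * z) := by rw [zc u⁻¹]
      _ = u * w * u⁻¹ * z := by group
  -- `r` does not commute with `p`
  have hrp : p * r ≠ r * p := by
    intro h3
    rcases side_comm s zc zz z1 hp hp1 hpz hr h3.symm with h4 | h4 | h4 | h4
    · apply h1; rw [h4]; group
    · apply h1; rw [h4, zc u]; group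
    · rw [h4] at h1 h2; exact hu.elim h1 h2
    · rw [h4] at h1 h2
      rw [hzg] at h1 h2
      rcases hu with h5 | h5
      · exact h1 (by rw [h5])
      · exact h2 (by rw [h5])
  refine ⟨r, hr, hrp, r⁻¹ * (u * r * u⁻¹), Q.mul_mem (Q.inv_mem hr) (hN r hr), ?_, by group⟩
  -- conjugation by `r` and by `u r u⁻¹` of `p`
  have h3 : r * p * r⁻¹ = p * z := s.comm_eq hp hr hrp zc zz
  have h4 : u * r * u⁻¹ * p * (u * r * u⁻¹)⁻¹ = p * z := by
    rcases hu with h5 | h5
    · calc u * r * u⁻¹ * p * (u * r * u⁻¹)⁻¹ = u * r * u⁻¹ * (u * p * u⁻¹) * (u * r * u⁻¹)⁻¹ := by rw [h5]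
        _ = u * (r * p * r⁻¹) * u⁻¹ := by group
        _ = p * z := by rw [h3, hzg, h5]
    · have h6 : u * (p * z) * u⁻¹ = p := by rw [hzg, h5, mul_assoc, zz, mul_one]
      calc u * r * u⁻¹ * p * (u * r * u⁻¹)⁻¹ = u * r * u⁻¹ * (u * (p * z) * u⁻¹) * (u * r * u⁻¹)⁻¹ := by rw [h6]
        _ = u * (r * p * (z * r⁻¹)) * u⁻¹ := by group
        _ = u * (r * p * (r⁻¹ * z)) * u⁻¹ := by rw [zc r⁻¹]
        _ = u * ((r * p * r⁻¹) * z) * u⁻¹ := by group
        _ = u * (p * z * z) * u⁻¹ := by rw [h3]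
        _ = u * p * u⁻¹ := by rw [mul_assoc p, zz, mul_one]
        _ = p * z := h5
  have h5 : r⁻¹ * (u * r * u⁻¹) * p = p * (r⁻¹ * (u * r * u⁻¹)) := by
    have h6 : u * r * u⁻¹ * p = p * z * (u * r * u⁻¹) := by rw [← h4]; group
    have h7 : p * z = r * p * r⁻¹ := h3.symm
    calc r⁻¹ * (u * r * u⁻¹) * p = r⁻¹ * (u * r * u⁻¹ * p) := by group
      _ = r⁻¹ * (r * p * r⁻¹ * (u * r * u⁻¹)) := by rw [h6, h7]
      _ = p * (r⁻¹ * (u * r * u⁻¹)) := by group
  rcases side_comm s zc zz z1 hp hp1 hpz (Q.mul_mem (Q.inv_mem hr) (hN r hr)) h5 with h6 | h6 | h6 | h6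
  · exact absurd (by rw [inv_mul_eq_one] at h6; exact h6.symm) h1
  · exact absurd (by rw [inv_mul_eq_iff_eq_mul] at h6; exact h6) h2
  · exact Or.inl h6
  · exact Or.inr h6

/-- **(beta1)**: `Q` normal in `W`, `C_W(Q) = {1, z, b, b z}`, `C_W(b) = Q ⟨b⟩` -/
theorem exists_index_two_b {z t a b : X} {Q D W : Subgroup X} (s : Side z t a Q D)
    (zc : ∀ x : X, x * z = z * x) (zz : z * z = 1) (z1 : z ≠ 1) (_hW : IsPGroup 2 W) (hQW : Q ≤ W)
    (hN : ∀ w ∈ W, ∀ q ∈ Q, w * q * w⁻¹ ∈ Q)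
    (bb : b * b = 1) (bW : b ∈ W) (b1 : b ≠ 1) (bz : b ≠ z)
    (hC : ∀ w ∈ W, (∀ q ∈ Q, w * q = q * w) → w = 1 ∨ w = z ∨ w = b ∨ w = b * z)
    (hcb : ∀ w ∈ W, w * b = b * w → ∃ q ∈ Q, ∀ r ∈ Q, (q⁻¹ * w) * r = r * (q⁻¹ * w))
    (bQ : ∀ q ∈ Q, b * q = q * b) :
    ∃ C : Subgroup X, C ≤ W ∧ C.relIndex W = 2 ∧ ∀ x ∈ C, x * x = 1 → x = 1 ∨ x = z := by
  have hzi : z⁻¹ = z := inv_eq_of_mul_eq_one_right zz
  have hbi : b⁻¹ = b := inv_eq_of_mul_eq_one_right bb
  have hzW : z ∈ W := hQW s.zQ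
  have hbQ : b ∉ Q := by
    intro h
    rcases side_inv s z1 h bb with h | h
    exacts [b1 h, bz h]
  -- membership in `Q ⟨b⟩`
  have hE : ∀ w ∈ W, ∀ q ∈ Q, (∀ r ∈ Q, (q⁻¹ * w) * r = r * (q⁻¹ * w)) → w ∈ Q ∨ w * b ∈ Q := by
    intro w hw q hq h
    have h1 := hC _ (W.mul_mem (W.inv_mem (hQW hq)) hw) h
    have h2 : w = q * (q⁻¹ * w) := by group
    rcases h1 with h1 | h1 | h1 | h1
    · left; rw [h2, h1]; exact Q.mul_mem hq Q.one_mem
    · left; rw [h2, h1]; exact Q.mul_mem hq s.zQ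
    · right; rw [h2, h1, mul_assoc, bb, mul_one]; exact hq
    · right
      rw [h2, h1, mul_assoc, mul_assoc b z b, ← zc b, ← mul_assoc b b z, bb, one_mul]
      exact Q.mul_mem hq s.zQ
  -- an element outside `Q ⟨b⟩` moves `b`
  have hmv : ∀ w ∈ W, w ∉ Q → w * b ∉ Q → w * b * w⁻¹ = b * z := by
    intro w hw h1 h2
    have h3 : ∀ q ∈ Q, w * b * w⁻¹ * q = q * (w * b * w⁻¹) := by
      intro q hq
      have h4 : w⁻¹ * q * w ∈ Q := by
        have := hN _ (W.inv_mem hw) q hq
        rwa [inv_inv] at this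
      calc w * b * w⁻¹ * q = w * (b * (w⁻¹ * q * w)) * w⁻¹ := by group
        _ = w * ((w⁻¹ * q * w) * b) * w⁻¹ := by rw [bQ _ h4]
        _ = q * (w * b * w⁻¹) := by group
    rcases hC _ (W.mul_mem (W.mul_mem hw bW) (W.inv_mem hw)) h3 with h4 | h4 | h4 | h4
    · exfalso
      apply b1
      have : b = w⁻¹ * (w * b * w⁻¹) * w := by group
      rw [this, h4]; group
    · exfalso
      apply bz
      have : b = w⁻¹ * (w * b * w⁻¹) * w := by group
      rw [this, h4, zc w⁻¹, mul_assoc, inv_mul_cancel, mul_one]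
    · exfalso
      obtain ⟨q, hq, hr⟩ := hcb w hw (mul_inv_eq_iff_eq_mul.1 h4)
      rcases hE w hw q hq hr with h5 | h5
      exacts [h1 h5, h2 h5]
    · exact h4
  by_cases hall : ∀ w ∈ W, w ∈ Q ∨ w * b ∈ Q
  · -- `W = Q ⟨b⟩`
    refine ⟨Q, hQW, ?_, fun x hx hxx => side_inv s z1 hx hxx⟩
    rw [relIndex_eq_two_iff]
    refine ⟨b, bW, fun w hw => ?_⟩
    rcases hall w hw with h | h
    · right
      refine ⟨h, fun h1 => hbQ ?_⟩
      have := Q.mul_mem (Q.inv_mem h) h1
      rwa [inv_mul_cancel_left] at this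
    · left
      refine ⟨h, fun h1 => hbQ ?_⟩
      have := Q.mul_mem (Q.inv_mem h1) h
      rwa [inv_mul_cancel_left] at this
  push Not at hall
  obtain ⟨x, hx, hx1, hx2⟩ := hall
  -- not inner
  have hni : ∀ w ∈ W, w ∉ Q → w * b ∉ Q → ¬ ∀ q ∈ Q, w * q * w⁻¹ = q ∨ w * q * w⁻¹ = q * z := by
    intro w hw hw1 hw2 h
    obtain ⟨r, hr, h1⟩ := s.exists_inner zc zz z1 h
    have h2 := hE (w * r) (W.mul_mem hw (hQW hr)) 1 Q.one_mem (by
      intro q hq; rw [inv_one, one_mul]; exact h1 q hq)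
    rcases h2 with h2 | h2
    · apply hw1
      have := Q.mul_mem h2 (Q.inv_mem hr)
      rwa [mul_inv_cancel_right] at this
    · apply hw2
      have h3 := Q.mul_mem h2 (Q.inv_mem hr)
      rwa [mul_assoc (w * r) b r⁻¹, bQ _ (Q.inv_mem hr), ← mul_assoc, mul_inv_cancel_right] at h3
  have hzg : ∀ u w : X, u * (w * z) * u⁻¹ = u * w * u⁻¹ * z := by
    intro u w
    calc u * (w * z) * u⁻¹ = u * w * (z * u⁻¹) := by group
      _ = u * w * (u⁻¹ * z) := by rw [zc u⁻¹]
      _ = u * w * u⁻¹ * z := by group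
  -- the squares lie in `Q`
  have hsq : ∀ w ∈ W, w ∉ Q → w * b ∉ Q → w * w ∈ Q := by
    intro w hw hw1 hw2
    have hwb := hmv w hw hw1 hw2
    have h1 : w * w * b = b * (w * w) := by
      have : w * w * b * (w * w)⁻¹ = b := by
        calc w * w * b * (w * w)⁻¹ = w * (w * b * w⁻¹) * w⁻¹ := by group
          _ = w * (b * z) * w⁻¹ := by rw [hwb]
          _ = b * z * z := by rw [hzg, hwb]
          _ = b := by rw [mul_assoc, zz, mul_one]
      exact mul_inv_eq_iff_eq_mul.1 this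
    obtain ⟨q₀, hq₀, hr₀⟩ := hcb _ (W.mul_mem hw hw) h1
    rcases hE _ (W.mul_mem hw hw) q₀ hq₀ hr₀ with h2 | h2
    · exact h2
    exfalso
    set q := w * w * b with hq
    have hwq : w * w = q * b := by rw [hq, mul_assoc, bb, mul_one]
    have h3 : w * q * w⁻¹ = q * z := by
      calc w * q * w⁻¹ = w * (w * w) * w⁻¹ * (w * b * w⁻¹) := by rw [hq]; group
        _ = w * w * (b * z) := by rw [hwb]; group
        _ = q * z := by rw [hwq, mul_assoc, ← mul_assoc b b z, bb, one_mul]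
    have hq1 : q ≠ 1 := by
      intro h
      rw [h] at h3
      apply z1
      rw [mul_one, mul_inv_cancel, one_mul] at h3
      exact h3.symm
    have hqz : q ≠ z := by
      intro h
      rw [h, zc w, mul_inv_cancel_right, zz] at h3
      exact z1 h3
    have hqq := s.sq q h2 hq1 hqz
    rcases side_fix s zc zz z1 h2 hq1 hqz (hN w hw) (Or.inr h3) with h4 | ⟨r, hr, hqr, c, hc, hc', h4⟩
    · exact hni w hw hw1 hw2 h4
    have h5 : w * c * w⁻¹ = c * z := by
      rcases hc' with h | h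
      · rw [h, h3]
      · rw [h, hzg, h3]
    have hcc : c * c = z := by
      rcases hc' with h | h
      · rw [h, hqq]
      · rw [h]
        calc q * z * (q * z) = q * (z * q) * z := by group
          _ = q * (q * z) * z := by rw [zc q]
          _ = q * q * (z * z) := by group
          _ = z := by rw [hqq, zz, mul_one]
    -- the square of `w` on `r`
    have h6 : w * w * r * (w * w)⁻¹ = r := by
      calc w * w * r * (w * w)⁻¹ = w * (w * r * w⁻¹) * w⁻¹ := by group
        _ = w * (r * c) * w⁻¹ := by rw [h4]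
        _ = (w * r * w⁻¹) * (w * c * w⁻¹) := by group
        _ = r * (c * c) * z := by rw [h4, h5]; group
        _ = r := by rw [hcc, mul_assoc, zz, mul_one]
    have h7 : w * w * r * (w * w)⁻¹ = r * z := by
      rw [hwq]
      calc q * b * r * (q * b)⁻¹ = q * (b * r) * b⁻¹ * q⁻¹ := by group
        _ = q * r * q⁻¹ := by rw [bQ r hr]; group
        _ = r * z := s.comm_eq hr h2 hqr.symm zc zz
    rw [h6] at h7
    exact z1 (mul_eq_left.1 h7.symm)
  -- the subgroup `Q ∪ Q y`
  have hsub : ∀ y ∈ W, y ∉ Q → y * b ∉ Q → ∃ C : Subgroup X, C ≤ W ∧ C.relIndex W = 2 ∧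
      ∀ w ∈ C, w ∈ Q ∨ w * y⁻¹ ∈ Q := by
    intro y hy hy1 hy2
    have hyy := hsq y hy hy1 hy2
    have hyb := hmv y hy hy1 hy2
    have hN' : ∀ q ∈ Q, y⁻¹ * q * y ∈ Q := by
      intro q hq
      have := hN _ (W.inv_mem hy) q hq
      rwa [inv_inv] at this
    let C : Subgroup X :=
      { carrier := {w | w ∈ Q ∨ w * y⁻¹ ∈ Q}
        one_mem' := Or.inl Q.one_mem
        mul_mem' := by
          rintro u v (hu | hu) (hv | hv)
          · exact Or.inl (Q.mul_mem hu hv)
          · right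
            rw [mul_assoc]
            exact Q.mul_mem hu hv
          · right
            have : u * v * y⁻¹ = u * y⁻¹ * (y * v * y⁻¹) := by group
            rw [this]
            exact Q.mul_mem hu (hN y hy v hv)
          · left
            have : u * v = u * y⁻¹ * (y * (v * y⁻¹) * y⁻¹) * (y * y) := by group
            rw [this]
            exact Q.mul_mem (Q.mul_mem hu (hN y hy _ hv)) hyy
        inv_mem' := by
          rintro u (hu | hu)
          · exact Or.inl (Q.inv_mem hu)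
          · right
            have : u⁻¹ * y⁻¹ = (y⁻¹ * (u * y⁻¹)⁻¹ * y) * (y * y)⁻¹ := by group
            rw [this]
            exact Q.mul_mem (hN' _ (Q.inv_mem hu)) (Q.inv_mem hyy) }
    have hmC : ∀ w, w ∈ C ↔ w ∈ Q ∨ w * y⁻¹ ∈ Q := fun w => Iff.rfl
    have hCW : C ≤ W := by
      intro w hw
      rcases (hmC w).1 hw with h | h
      · exact hQW h
      · have := W.mul_mem (hQW h) hy
        rwa [inv_mul_cancel_right] at this
    refine ⟨C, hCW, ?_, fun w hw => (hmC w).1 hw⟩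
    have hyC : y ∈ C := (hmC y).2 (Or.inr (by rw [mul_inv_cancel]; exact Q.one_mem))
    have hQC : Q ≤ C := fun w hw => (hmC w).2 (Or.inl hw)
    have hbC : b ∉ C := by
      intro h
      rcases (hmC b).1 h with h | h
      · exact hbQ h
      · apply hy2
        have h1 := Q.inv_mem h
        rw [mul_inv_rev, inv_inv, hbi] at h1
        exact h1
    rw [relIndex_eq_two_iff]
    refine ⟨b, bW, fun w hw => ?_⟩
    -- `w ∈ C` or `w b ∈ C`
    have h1 : w ∈ C ∨ w * b ∈ C := by
      by_cases hw1 : w ∈ Q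
      · exact Or.inl (hQC hw1)
      by_cases hw2 : w * b ∈ Q
      · exact Or.inr (hQC hw2)
      have hwb := hmv w hw hw1 hw2
      have h3 : y⁻¹ * b * y = b * z := by
        have h4 : y⁻¹ * (b * z) * y = b := by rw [← hyb]; group
        have h5 : y⁻¹ * (b * z) * y = y⁻¹ * b * y * z := by
          have := hzg y⁻¹ b
          rwa [inv_inv] at this
        rw [h5] at h4
        calc y⁻¹ * b * y = y⁻¹ * b * y * z * z := by rw [mul_assoc (y⁻¹ * b * y) z z, zz, mul_one]
          _ = b * z := by rw [h4]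
      have h2 : w * y⁻¹ * b = b * (w * y⁻¹) := by
        have h4 : w * y⁻¹ * b * (w * y⁻¹)⁻¹ = b := by
          calc w * y⁻¹ * b * (w * y⁻¹)⁻¹ = w * (y⁻¹ * b * y) * w⁻¹ := by group
            _ = w * (b * z) * w⁻¹ := by rw [h3]
            _ = b * z * z := by rw [hzg, hwb]
            _ = b := by rw [mul_assoc, zz, mul_one]
        exact mul_inv_eq_iff_eq_mul.1 h4
      obtain ⟨q₀, hq₀, hr₀⟩ := hcb _ (W.mul_mem hw (W.inv_mem hy)) h2
      rcases hE _ (W.mul_mem hw (W.inv_mem hy)) q₀ hq₀ hr₀ with h4 | h4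
      · exact Or.inl ((hmC w).2 (Or.inr h4))
      · right
        have h4 := C.mul_mem (hQC h4) hyC
        have h5 : w * y⁻¹ * b * y = w * b * z := by
          calc w * y⁻¹ * b * y = w * (y⁻¹ * b * y) := by group
            _ = w * b * z := by rw [h3, mul_assoc]
        have h6 := C.mul_mem h4 (hQC s.zQ)
        rw [h5, mul_assoc (w * b), zz, mul_one] at h6
        exact h6
    rcases h1 with h1 | h1
    · right
      refine ⟨h1, fun h2 => hbC ?_⟩
      have := C.mul_mem (C.inv_mem h1) h2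
      rwa [inv_mul_cancel_left] at this
    · left
      refine ⟨h1, fun h2 => hbC ?_⟩
      have := C.mul_mem (C.inv_mem h2) h1
      rwa [inv_mul_cancel_left] at this
  by_cases hinv : ∃ u ∈ W, u ∉ Q ∧ u * b ∉ Q ∧ u * u = 1
  · obtain ⟨u, hu, hu1, hu2, huu⟩ := hinv
    have hub := hmv u hu hu1 hu2
    have hub' : u * b = b * z * u := by rw [← hub]; group
    have hui : u⁻¹ = u := inv_eq_of_mul_eq_one_right huu
    have hy1 : b * u ∉ Q := by
      intro h
      apply hu2
      have h1 : u * b = (b * u)⁻¹ := by rw [mul_inv_rev, hbi, hui]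
      rw [h1]
      exact Q.inv_mem h
    have hy2 : b * u * b ∉ Q := by
      intro h
      apply hu1
      have h1 : u = b * (b * u * b) * b := by
        calc u = (b * b) * u * (b * b) := by rw [bb]; group
          _ = b * (b * u * b) * b := by group
      rw [h1, bQ _ h, mul_assoc, bb, mul_one]
      exact h
    obtain ⟨C, hC1, hC2, hC3⟩ := hsub (b * u) (W.mul_mem bW hu) hy1 hy2
    refine ⟨C, hC1, hC2, fun w hw hww => ?_⟩
    rcases hC3 w hw with h | h
    · exact side_inv s z1 h hww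
    exfalso
    set p := w * (b * u)⁻¹ with hp
    have hwp : w = p * (b * u) := by rw [hp]; group
    have hm := hN u hu p h
    -- `u p u⁻¹ = p⁻¹ z`
    have h1 : p * (u * p * u⁻¹) * z = 1 := by
      rw [← hww, hwp]
      calc p * (u * p * u⁻¹) * z = p * (b * b) * (u * p * u⁻¹) * z := by rw [bb]; group
        _ = p * b * (b * (u * p * u⁻¹)) * z := by group
        _ = p * b * ((u * p * u⁻¹) * b) * z := by rw [bQ _ hm]
        _ = p * b * (u * p * u⁻¹) * (b * z) := by group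
        _ = p * b * (u * p * u⁻¹) * (u * b * u⁻¹) := by rw [hub]
        _ = p * b * u * p * b * u⁻¹ := by group
        _ = p * (b * u) * (p * (b * u)) := by rw [hui]; group
    have hp1 : p ≠ 1 := by
      intro h2
      rw [h2, mul_one, mul_inv_cancel, one_mul, one_mul] at h1
      exact z1 h1
    have hpz : p ≠ z := by
      intro h2
      rw [h2, zc u, mul_inv_cancel_right, zz, one_mul] at h1
      exact z1 h1
    have hpp := s.sq p h hp1 hpz
    have h2 : u * p * u⁻¹ = p := by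
      have h3 : p * (u * p * u⁻¹) = z := by
        rw [mul_eq_one_iff_eq_inv, hzi] at h1
        exact h1
      rw [← hpp] at h3
      exact mul_left_cancel h3
    rcases side_fix s zc zz z1 h hp1 hpz (hN u hu) (Or.inl h2) with h4 | ⟨r, hr, hqr, c, hc, hc', h4⟩
    · exact hni u hu hu1 hu2 h4
    have h5 : u * c * u⁻¹ = c := by
      rcases hc' with h | h
      · rw [h, h2]
      · rw [h, hzg, h2]
    have hcc : c * c = z := by
      rcases hc' with h | h
      · rw [h, hpp]
      · rw [h]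
        calc p * z * (p * z) = p * (z * p) * z := by group
          _ = p * (p * z) * z := by rw [zc p]
          _ = p * p * (z * z) := by group
          _ = z := by rw [hpp, zz, mul_one]
    have h6 : r * z = r := by
      calc r * z = (r * c) * c := by rw [mul_assoc, hcc]
        _ = (u * r * u⁻¹) * (u * c * u⁻¹) := by rw [h4, h5]
        _ = u * (r * c) * u⁻¹ := by group
        _ = u * (u * r * u⁻¹) * u⁻¹ := by rw [h4]
        _ = (u * u) * r * (u * u)⁻¹ := by group
        _ = r := by rw [huu]; group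
    exact z1 (mul_eq_left.1 h6)
  · push Not at hinv
    obtain ⟨C, hC1, hC2, hC3⟩ := hsub x hx hx1 hx2
    refine ⟨C, hC1, hC2, fun w hw hww => ?_⟩
    rcases hC3 w hw with h | h
    · exact side_inv s z1 h hww
    exfalso
    by_cases hw1 : w ∈ Q
    · apply hx1
      have h1 := Q.mul_mem (Q.inv_mem h) hw1
      rw [mul_inv_rev, inv_inv, inv_mul_cancel_right] at h1
      exact h1
    by_cases hw2 : w * b ∈ Q
    · apply hx2
      have h1 := Q.mul_mem (Q.inv_mem h) hw2
      have h2 : (w * x⁻¹)⁻¹ * (w * b) = x * b := by group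
      rwa [h2] at h1
    exact hinv w (hC1 hw) hw1 hw2 hww

end Cfsg.Agent.OddHalf.D6.QThree.TS
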