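import Cfsg.Agent.OddHalf.D6.QThree.TS.Comp
import Cfsg.Agent.OddHalf.D6.QThree.TS.IndexTwo
import Cfsg.Agent.OddHalf.D6.QThree.NI

/-!
# ODD half, D6, `K = L₄(3)`, `T = S`: (beta1), `Q₁` and `Q₂` in different components (helper445)

`HypT.beta_one`: if `Q₁ ≤ M₁`, `Q₂ ≤ M₂` for different components `M₁`, `M₂` of `X = C_G(z)`, then `z` is the only
involution of `M₁` (text of helper296, bb #16577 (beta1)).
-/

set_option autoImplicit false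

namespace Cfsg.Agent.OddHalf.D6.QThree.TS

open Subgroup Cfsg
open Cfsg.Agent.SignalizersComponents.Components
open Cfsg.Agent.Cit (cj mem_cj conj_mem_cj)
open Cfsg.Agent.OddHalf.D6.QThree.NISide
open Cfsg.Agent.OddHalf.D6.QThree.NIB (Bt)

variable {X : Type*} [Group X] {z t a₁ a₂ : X} {Q₁ Q₂ Q : Subgroup X} {S : Sylow 2 X}

/-- `R = Q₁ Q₂` -/
def BaseT.R (h : BaseT z t a₁ a₂ Q₁ Q₂ Q S) : Subgroup X where
  carrier := {r | ∃ x ∈ Q₁, ∃ y ∈ Q₂, r = x * y}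
  mul_mem' := by
    rintro _ _ ⟨x, hx, y, hy, rfl⟩ ⟨x', hx', y', hy', rfl⟩
    refine ⟨x * x', Q₁.mul_mem hx hx', y * y', Q₂.mul_mem hy hy', ?_⟩
    calc x * y * (x' * y') = x * (y * x') * y' := by group
      _ = x * (x' * y) * y' := by rw [h.comm x' hx' y hy]
      _ = x * x' * (y * y') := by group
  one_mem' := ⟨1, Q₁.one_mem, 1, Q₂.one_mem, (one_mul 1).symm⟩
  inv_mem' := by
    rintro _ ⟨x, hx, y, hy, rfl⟩
    refine ⟨x⁻¹, Q₁.inv_mem hx, y⁻¹, Q₂.inv_mem hy, ?_⟩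
    rw [mul_inv_rev, h.comm _ (Q₁.inv_mem hx) _ (Q₂.inv_mem hy)]

/-- `R ≤ S` -/
theorem BaseT.R_le [Finite X] (h : BaseT z t a₁ a₂ Q₁ Q₂ Q S) : h.R ≤ (S : Subgroup X) := by
  have : Fact (Nat.Prime 2) := ⟨Nat.prime_two⟩
  have hp : IsPGroup 2 h.R := by
    rintro ⟨_, x, hx, y, hy, rfl⟩
    refine ⟨2, Subtype.ext ?_⟩
    show (x * y) ^ 4 = 1
    exact h.R_pow hx hy
  have hn : (S : Subgroup X) ≤ normalizer (h.R : Set X) := by
    intro s hs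
    have key : ∀ g, g * t = t * g → ∀ r ∈ h.R, g * r * g⁻¹ ∈ h.R := by
      rintro g hg _ ⟨x, hx, y, hy, rfl⟩
      obtain ⟨x', hx', y', hy', e⟩ := h.nor g hg x hx y hy
      exact ⟨x', hx', y', hy', e⟩
    have hst : Commute s t := h.St s hs
    rw [mem_normalizer_iff]
    intro r
    constructor
    · exact key s hst.eq r
    · intro hr
      have h1 := key s⁻¹ hst.inv_left.eq _ hr
      have h2 : s⁻¹ * (s * r * s⁻¹) * s⁻¹⁻¹ = r := by group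
      rwa [h2] at h1
  have h1 : IsPGroup 2 ((S : Subgroup X) ⊔ h.R : Subgroup X) := IsPGroup.to_sup_of_normal_right' S.2 hp hn
  have h2 := S.3 h1 le_sup_left
  rw [← h2]
  exact le_sup_right

theorem BaseT.Q₁_le_S [Finite X] (h : BaseT z t a₁ a₂ Q₁ Q₂ Q S) : Q₁ ≤ (S : Subgroup X) :=
  fun x hx => h.R_le ⟨x, hx, 1, Q₂.one_mem, (mul_one x).symm⟩

theorem BaseT.Q₂_le_S [Finite X] (h : BaseT z t a₁ a₂ Q₁ Q₂ Q S) : Q₂ ≤ (S : Subgroup X) :=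
  fun x hx => h.R_le ⟨1, Q₁.one_mem, x, hx, (one_mul x).symm⟩

/-- a subgroup not containing `t` meets `Q` trivially -/
theorem BaseT.Q_inf (h : BaseT z t a₁ a₂ Q₁ Q₂ Q S) {M : Subgroup X} (ht : t ∉ M) : ∀ q ∈ Q, q ∈ M → q = 1 := by
  intro q hq hqM
  by_contra hq1
  obtain ⟨n, hn⟩ := h.Q2 ⟨q, hq⟩
  have hn' : q ^ 2 ^ n = 1 := congrArg Subtype.val hn
  obtain ⟨m, hm⟩ : ∃ m : ℕ, orderOf q = 2 ^ (m + 1) := by
    obtain ⟨k, hk1, hk2⟩ := (Nat.dvd_prime_pow Nat.prime_two).1 (orderOf_dvd_of_pow_eq_one hn')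
    rcases k with _ | k
    · exfalso; apply hq1; rw [pow_zero] at hk2; exact orderOf_eq_one_iff.1 hk2
    · exact ⟨k, hk2⟩
  have h3 : q ^ 2 ^ m * q ^ 2 ^ m = 1 := by
    rw [← pow_add, ← two_mul, ← pow_succ', ← hm, pow_orderOf_eq_one]
  have h4 : q ^ 2 ^ m ≠ 1 := by
    intro e
    have h5 := orderOf_dvd_of_pow_eq_one e
    rw [hm] at h5
    have h6 := (Nat.pow_dvd_pow_iff_le_right (by norm_num : 1 < 2)).1 h5
    omega
  rcases h.Q1 _ (Q.pow_mem hq _) h3 with h5 | h5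
  · exact h4 h5
  · apply ht; rw [← h5]; exact pow_mem hqM _

/-- **(beta1)**, without the element swapping the components -/
theorem HypT.beta_one' [Finite X] (h : HypT z t a₁ a₂ Q₁ Q₂ Q S) {M₁ M₂ : Subgroup X} (hM₁ : IsComponent M₁)
    (hM₂ : IsComponent M₂) (hne : M₁ ≠ M₂) (hQ₁ : Q₁ ≤ M₁) (hQ₂ : Q₂ ≤ M₂) : NI.Hyp.CA z := by
  have : Fact (Nat.Prime 2) := ⟨Nat.prime_two⟩
  have hcomm : ∀ x ∈ M₁, ∀ y ∈ M₂, x * y = y * x := fun x hx y hy =>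
    Cfsg.Agent.Cit.Comp.comm_of_ne hM₁ hM₂ hne hx hy
  have ht : t ∉ M₁ := fun ht => h.not_le hM₂.2 fun x hx => (hcomm t ht x hx).symm
  have hzM : z ∈ M₁ := hQ₁ h.s₁.zQ
  obtain ⟨P, hPe⟩ := Cfsg.Agent.S0542.result 2 M₁ hM₁.1 S
  set W : Subgroup X := (S : Subgroup X) ⊓ M₁ with hW
  have hWp : IsPGroup 2 W := S.2.to_le inf_le_left
  have hQW : Q₁ ≤ W := le_inf h.Q₁_le_S hQ₁
  have hW2 : ∀ w ∈ W, ∀ y ∈ Q₂, w * y = y * w := fun w hw y hy => hcomm w hw.2 y (hQ₂ hy)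
  have hN : ∀ w ∈ W, ∀ q ∈ Q₁, w * q * w⁻¹ ∈ Q₁ := by
    intro w hw q hq
    obtain ⟨x', hx', y', hy', e⟩ := h.nor w (h.St w hw.1) q hq 1 Q₂.one_mem
    rw [mul_one] at e
    have h1 : y' ∈ M₁ := by
      have h2 : y' = x'⁻¹ * (w * q * w⁻¹) := by rw [e, inv_mul_cancel_left]
      rw [h2]
      exact M₁.mul_mem (M₁.inv_mem (hQ₁ hx')) (M₁.mul_mem (M₁.mul_mem hw.2 (hQ₁ hq)) (M₁.inv_mem hw.2))
    have h2 : y' = 1 ∨ y' = z := h.s₂.center hy' fun y hy => hcomm y' h1 y (hQ₂ hy)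
    rw [e]
    refine Q₁.mul_mem hx' ?_
    rcases h2 with h2 | h2 <;> rw [h2]
    · exact Q₁.one_mem
    · exact h.s₁.zQ
  have hB : ∀ w ∈ W, (∀ q ∈ Q₁, w * q = q * w) → Bt t Q₁ Q₂ w := fun w hw hq =>
    ⟨h.St w hw.1, hq, hW2 w hw⟩
  have hQZ : ∀ w ∈ W, QZ Q z w → w = 1 ∨ w = z := by
    intro w hw hq
    rcases hq with hq | hq
    · exact Or.inl (h.Q_inf ht w hq hw.2)
    · right
      have h1 := h.Q_inf ht _ hq (M₁.mul_mem hw.2 hzM)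
      rw [mul_eq_one_iff_eq_inv, h.zinv] at h1
      exact h1
  have hex : ∃ C : Subgroup X, C ≤ W ∧ C.relIndex W = 2 ∧ ∀ x ∈ C, x * x = 1 → x = 1 ∨ x = z := by
    by_cases hb : ∃ b ∈ W, (∀ q ∈ Q₁, b * q = q * b) ∧ b ≠ 1 ∧ b ≠ z
    · obtain ⟨b, bW, bq, b1, bz⟩ := hb
      have hBb := hB b bW bq
      have hnb : ¬ QZ Q z b := fun e => (hQZ b bW e).elim b1 bz
      have bb : b * b = 1 := h.Q_inf ht _ (h.Bsq b hBb) (M₁.mul_mem bW.2 bW.2)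
      refine exists_index_two_b h.s₁ h.zc h.zz h.z1 hWp hQW hN bb bW b1 bz ?_ ?_ bq
      · intro w hw hwq
        rcases h.Bu b w hBb (hB w hw hwq) with e | e | e
        · exact absurd e hnb
        · rcases hQZ w hw e with e | e
          · exact Or.inl e
          · exact Or.inr (Or.inl e)
        · rcases hQZ _ (W.mul_mem (W.inv_mem bW) hw) e with e | e
          · right; right; left
            rw [inv_mul_eq_one] at e; exact e.symm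
          · right; right; right
            rw [inv_mul_eq_iff_eq_mul] at e; exact e
      · intro w hw hwb
        obtain ⟨q, hq, hqB⟩ := h.mv w hw.1 (hW2 w hw) b hBb hnb hwb
        exact ⟨q, hq, hqB.2.1⟩
    · push Not at hb
      refine exists_index_two h.s₁ h.zc h.zz h.z1 hWp hQW fun w hw hwq => ?_
      by_cases hw1 : w = 1
      · exact Or.inl hw1
      · exact Or.inr (hb w hw hwq hw1)
  obtain ⟨C, hCW, hCi, hCu⟩ := hex
  refine ⟨M₁, hM₁, hzM, ?_⟩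
  intro u hu huu
  have hPW : (P : Subgroup M₁) = W.subgroupOf M₁ := by rw [hPe, hW, inf_subgroupOf_right]
  obtain ⟨g, hg⟩ := CaseM.exists_conj_of_perfect hM₁.2.1 P (C.subgroupOf M₁)
    (by rw [hPW]; exact comap_mono hCW)
    (by rw [hPW, relIndex_subgroupOf inf_le_right, hCi]) ⟨u, hu⟩ (Subtype.ext huu)
  have hg' : (g : X) * u * (g : X)⁻¹ ∈ C := hg
  rcases hCu _ hg' (by
      calc (g : X) * u * (g : X)⁻¹ * ((g : X) * u * (g : X)⁻¹) = g * (u * u) * (g : X)⁻¹ := by group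
        _ = 1 := by rw [huu, mul_one, mul_inv_cancel]) with e | e
  · exact Or.inl (conj_eq_one_iff.1 e)
  · right
    have : u = (g : X)⁻¹ * (g * u * (g : X)⁻¹) * g := by group
    rw [this, e, h.zc (g : X)⁻¹, inv_mul_cancel_right]

/-- **(beta1)** -/
theorem HypT.beta_one [Finite X] (h : HypT z t a₁ a₂ Q₁ Q₂ Q S) {M₁ M₂ : Subgroup X} (hM₁ : IsComponent M₁)
    (hM₂ : IsComponent M₂) (hne : M₁ ≠ M₂) (hQ₁ : Q₁ ≤ M₁) (hQ₂ : Q₂ ≤ M₂)
    (_sw : ∃ p, p * t = t * p ∧ cj p M₁ = M₂) : NI.Hyp.CA z :=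
  h.beta_one' hM₁ hM₂ hne hQ₁ hQ₂

end Cfsg.Agent.OddHalf.D6.QThree.TS
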