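import Cfsg.Agent.OddHalf.D6.QThree.TS.Comp

/-!
# ODD half, D6, `K = L₄(3)`, `T = S`: the only component contains `Q₁` and `Q₂` (helper931)

`eq_of_two_elements`: a normal subgroup of `X` whose 2-elements are `1` and the central involution `z` is in
`{1, z}` when `O(X) = 1`. `HypT.beta_two`: the only component `M` of `X` with `Q₁, Q₂ ≤ M` is normal and has
centralizer `⟨z⟩` (text of helper296, bb #16577 (beta2)).
-/

set_option autoImplicit false

namespace Cfsg.Agent.OddHalf.D6.QThree.TS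

open Subgroup Cfsg
open scoped Pointwise
open Cfsg.Agent.SignalizersComponents.Components
open Cfsg.Agent.Cit (cj mem_cj conj_mem_cj)
open Cfsg.Agent.OddHalf.D6.QThree.NISide
open Cfsg.Agent.OddHalf.D6.QThree.NIB (Bt)

section

variable {X : Type*} [Group X]

/-- a normal subgroup with `1` and `z` as its only 2-elements, `O(X) = 1` -/
theorem eq_of_two_elements [Finite X] {z : X} (zc : ∀ x : X, x * z = z * x) (hO : pPrimeCore 2 X = ⊥)
    {C : Subgroup X} (hC : C.Normal) (h2 : ∀ y ∈ C, (∃ n : ℕ, y ^ 2 ^ n = 1) → y = 1 ∨ y = z) :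
    ∀ y ∈ C, y = 1 ∨ y = z := by
  have : Fact (Nat.Prime 2) := ⟨Nat.prime_two⟩
  obtain ⟨P⟩ : Nonempty (Sylow 2 C) := inferInstance
  have hPz : ∀ p : C, p ∈ P → (p : X) = 1 ∨ (p : X) = z := by
    intro p hp
    obtain ⟨n, hn⟩ := P.isPGroup' ⟨p, hp⟩
    exact h2 p p.2 ⟨n, congrArg (fun u : P => ((u : C) : X)) hn⟩
  have hcom : ∀ p : C, p ∈ P → ∀ x : C, x * p = p * x := by
    intro p hp x
    apply Subtype.ext
    rcases hPz p hp with e | e
    · rw [coe_mul, coe_mul, e, mul_one, one_mul]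
    · rw [coe_mul, coe_mul, e, zc]
  have hP : normalizer ((P : Subgroup C) : Set C) ≤ centralizer ((P : Subgroup C) : Set C) := by
    intro x _
    rw [mem_centralizer_iff]
    intro p hp
    exact (hcom p hp x).symm
  have h3 := MonoidHom.not_dvd_card_ker_transferSylow P hP
  set K := (MonoidHom.transferSylow P hP).ker with hK
  have h4 : (K.map C.subtype).IsSubnormal := (inferInstance : K.Normal).isSubnormal.trans' hC.isSubnormal
  have h5 : K.map C.subtype ≤ pPrimeCore 2 X := by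
    apply Cfsg.Agent.SignalizersComponents.CompBasic.subnormal_coprime_le_pPrimeCore h4
    rw [card_map_of_injective C.subtype_injective]
    exact ((Nat.Prime.coprime_iff_not_dvd Nat.prime_two).2 h3).symm
  rw [hO, le_bot_iff, map_eq_bot_iff_of_injective _ C.subtype_injective] at h5
  have h6 : (P : Subgroup C) = ⊤ := by
    have h7 := MonoidHom.ker_transferSylow_isComplement' P hP
    rw [← hK, h5] at h7
    exact isComplement'_bot_left.1 h7
  intro y hy
  exact hPz ⟨y, hy⟩ (show (⟨y, hy⟩ : C) ∈ (P : Subgroup C) by rw [h6]; exact mem_top _)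

end

namespace HypT

variable {X : Type*} [Group X] {z t a₁ a₂ : X} {Q₁ Q₂ Q : Subgroup X} {S : Sylow 2 X}

/-- **(beta2)** -/
theorem beta_two [Finite X] (h : HypT z t a₁ a₂ Q₁ Q₂ Q S) {M : Subgroup X} (hM : IsComponent M)
    (h1 : Q₁ ≤ M) (h2 : Q₂ ≤ M) (only : ∀ M' : Subgroup X, IsComponent M' → M' = M) :
    M.Normal ∧ ∀ y ∈ centralizer (M : Set X), y = 1 ∨ y = z := by
  have : Fact (Nat.Prime 2) := ⟨Nat.prime_two⟩
  have hMn : M.Normal := by
    refine ⟨fun x hx g => ?_⟩
    have h3 := only _ (Cfsg.Agent.Cit.Comp.isComponent_cj hM g)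
    rw [← h3]; exact conj_mem_cj hx
  refine ⟨hMn, ?_⟩
  have hCn : (centralizer (M : Set X)).Normal := inferInstance
  -- `t` does not centralise `M`
  have htC : t ∉ centralizer (M : Set X) := by
    intro ht
    exact h.not_le hM.2 fun x hx => mem_centralizer_iff.1 ht x hx
  -- a 2-element of `Q` centralising `M` is trivial
  have hQC : ∀ q ∈ Q, q ∈ centralizer (M : Set X) → q = 1 := by
    intro q hq hqC
    by_contra hq1
    obtain ⟨n, hn⟩ := h.Q2 ⟨q, hq⟩
    have hn' : q ^ 2 ^ n = 1 := congrArg Subtype.val hn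
    obtain ⟨m, hm⟩ : ∃ m : ℕ, orderOf q = 2 ^ (m + 1) := by
      obtain ⟨k, hk1, hk2⟩ := (Nat.dvd_prime_pow Nat.prime_two).1 (orderOf_dvd_of_pow_eq_one hn')
      rcases k with _ | k
      · exfalso; apply hq1; rw [pow_zero] at hk2; exact orderOf_eq_one_iff.1 hk2
      · exact ⟨k, hk2⟩
    have h3 : q ^ 2 ^ m * q ^ 2 ^ m = 1 := by
      rw [← pow_add, ← two_mul, ← pow_succ', ← hm, pow_orderOf_eq_one]
    have h4 : q ^ 2 ^ m ≠ 1 := by
      intro e
      have h5 := orderOf_dvd_of_pow_eq_one e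
      rw [hm] at h5
      have h6 := (Nat.pow_dvd_pow_iff_le_right (by norm_num : 1 < 2)).1 h5
      omega
    rcases h.Q1 _ (Q.pow_mem hq _) h3 with h5 | h5
    · exact h4 h5
    · apply htC; rw [← h5]; exact pow_mem hqC _
  -- the 2-elements of `S ∩ C(M)`
  have hS : ∀ s ∈ S, s ∈ centralizer (M : Set X) → s = 1 ∨ s = z := by
    intro s hs hsC
    have hcm : ∀ m ∈ M, s * m = m * s := fun m hm => (mem_centralizer_iff.1 hsC m hm).symm
    have hB : Bt t Q₁ Q₂ s := ⟨h.St s hs, fun q hq => hcm q (h1 hq), fun q hq => hcm q (h2 hq)⟩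
    have hss : s * s = 1 := hQC _ (h.Bsq s hB) (mul_mem hsC hsC)
    by_cases hqz : QZ Q z s
    · rcases hqz with h3 | h3
      · exact Or.inl (hQC s h3 hsC)
      · right
        have hzC : z ∈ centralizer (M : Set X) := mem_centralizer_iff.2 fun m _ => h.zc m
        have h4 := hQC _ h3 (mul_mem hsC hzC)
        rw [mul_eq_one_iff_eq_inv, h.zinv] at h4
        exact h4
    · exact (h.refl s hB hss hqz M hM h1 h2 hcm).elim
  apply eq_of_two_elements h.zc h.O hCn
  rintro y hy ⟨n, hn⟩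
  have hyp : IsPGroup 2 (zpowers y) := by
    rw [IsPGroup.iff_card]
    obtain ⟨k, -, hk⟩ := (Nat.dvd_prime_pow Nat.prime_two).1 (orderOf_dvd_of_pow_eq_one hn)
    exact ⟨k, by rw [Nat.card_zpowers, hk]⟩
  obtain ⟨P, hP⟩ := hyp.exists_le_sylow
  obtain ⟨g, hg⟩ := MulAction.exists_smul_eq X S P
  have hyP : y ∈ g • S := by rw [hg]; exact hP (mem_zpowers y)
  have h3 : g⁻¹ * y * g ∈ S := by
    have h4 : y ∈ MulAut.conj g • (S : Subgroup X) := hyP
    rw [mem_pointwise_smul_iff_inv_smul_mem] at h4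
    have h5 : g⁻¹ * y * g ∈ (S : Subgroup X) := by simpa [MulAut.smul_def] using h4
    exact h5
  have h4 : g⁻¹ * y * g ∈ centralizer (M : Set X) := by
    have := hCn.conj_mem y hy g⁻¹
    rwa [inv_inv] at this
  have h5 : y = g * (g⁻¹ * y * g) * g⁻¹ := by group
  rcases hS _ h3 h4 with h6 | h6
  · left; rw [h5, h6]; group
  · right; rw [h5, h6, h.zc g]; group

end HypT

end Cfsg.Agent.OddHalf.D6.QThree.TS
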