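import Cfsg.Agent.OddHalf.D6.QThree.TS.Hyp
import Cfsg.Agent.OddHalf.D6.QThree.NIB.Alpha

/-!
# ODD half, D6, `K = L₄(3)`, `T = S` (helper296, bb #16577): (A), the components of `X = C_G(z)`

`BaseT.alpha`: a component `M` containing neither `Q₁` nor `Q₂` satisfies `C_M(t) ≤ B` (after helper135's `NIB/Alpha`).
-/

set_option autoImplicit false

namespace Cfsg.Agent.OddHalf.D6.QThree.TS

open Subgroup Cfsg
open Cfsg.Agent.SignalizersComponents.Components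
open Cfsg.Agent.Cit (cj mem_cj conj_mem_cj cj_mul cj_one)
open Cfsg.Agent.OddHalf.D6.QThree.NISide
open Cfsg.Agent.OddHalf.D6.QThree.NIB (Bt)

variable {X : Type*} [Group X]

/-- an element `u` commuting with `d` of odd order, `u` a 2-element, `u = [d, s]`: `u = 1` -/
theorem eq_one_of_odd {d s u : X} (hd : Odd (orderOf d)) (hu : ∃ n : ℕ, u ^ 2 ^ n = 1) (hdu : d * u = u * d)
    (he : d * s * d⁻¹ * s⁻¹ = u) : u = 1 := by
  obtain ⟨n, hu⟩ := hu
  have h1 : d * s * d⁻¹ = u * s := by rw [← he]; group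
  have key : ∀ n : ℕ, d ^ n * s * (d ^ n)⁻¹ = u ^ n * s := by
    intro n
    induction n with
    | zero => simp
    | succ n ih =>
      have c : Commute d (u ^ n) := (show Commute d u from hdu).pow_right n
      calc d ^ (n + 1) * s * (d ^ (n + 1))⁻¹ = d * (d ^ n * s * (d ^ n)⁻¹) * d⁻¹ := by
            rw [pow_succ']; group
        _ = (d * u ^ n) * s * d⁻¹ := by rw [ih]; group
        _ = u ^ n * (d * s * d⁻¹) := by rw [c.eq]; group
        _ = u ^ (n + 1) * s := by rw [h1, pow_succ]; group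
  have h2 := key (orderOf d)
  rw [pow_orderOf_eq_one, one_mul, inv_one, mul_one] at h2
  have h3 : u ^ orderOf d = 1 := by
    have := h2.symm
    rwa [mul_eq_right] at this
  have h4 : orderOf u ∣ orderOf d := orderOf_dvd_of_pow_eq_one h3
  have h5 : orderOf u ∣ 2 ^ n := orderOf_dvd_of_pow_eq_one hu
  have h6 : Nat.Coprime (orderOf d) (2 ^ n) := Nat.Coprime.pow_right n hd.coprime_two_right
  have h7 := Nat.eq_one_of_dvd_coprimes h6 h4 h5
  rwa [orderOf_eq_one_iff] at h7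

namespace BaseT

variable {z t a₁ a₂ : X} {Q₁ Q₂ Q : Subgroup X} {S : Sylow 2 X}

theorem btz (h : BaseT z t a₁ a₂ Q₁ Q₂ Q S) : Bt t Q₁ Q₂ z :=
  ⟨(h.zc t).symm, fun q _ => (h.zc q).symm, fun q _ => (h.zc q).symm⟩

theorem btt (h : BaseT z t a₁ a₂ Q₁ Q₂ Q S) : Bt t Q₁ Q₂ t :=
  ⟨rfl, fun q hq => (h.s₁.ct q hq).symm, fun q hq => (h.s₂.ct q hq).symm⟩

theorem tinv (h : BaseT z t a₁ a₂ Q₁ Q₂ Q S) : t⁻¹ = t := inv_eq_of_mul_eq_one_right h.tt

theorem zinv (h : BaseT z t a₁ a₂ Q₁ Q₂ Q S) : z⁻¹ = z := inv_eq_of_mul_eq_one_right h.zz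

theorem zQ (h : BaseT z t a₁ a₂ Q₁ Q₂ Q S) : z ∉ Q := fun e => by
  rcases h.Q1 z e h.zz with e | e
  · exact h.z1 e
  · exact h.tz e.symm

/-- the elements of `B` are 2-elements -/
theorem b2 (h : BaseT z t a₁ a₂ Q₁ Q₂ Q S) {b : X} (hb : Bt t Q₁ Q₂ b) : ∃ n : ℕ, b ^ 2 ^ n = 1 := by
  obtain ⟨n, hn⟩ := h.Q2 ⟨b * b, h.Bsq b hb⟩
  refine ⟨n + 1, ?_⟩
  have h1 : (b * b) ^ 2 ^ n = 1 := congrArg Subtype.val hn
  rw [pow_succ', pow_mul, pow_two b, h1]

theorem symm (h : BaseT z t a₁ a₂ Q₁ Q₂ Q S) : BaseT z t a₂ a₁ Q₂ Q₁ Q S where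
  zc := h.zc
  zz := h.zz
  z1 := h.z1
  tt := h.tt
  t1 := h.t1
  tz := h.tz
  O := h.O
  sol := h.sol
  s₁ := h.s₂
  s₂ := h.s₁
  comm := fun x hx y hy => (h.comm y hy x hx).symm
  nor := by
    intro g hg x hx y hy
    obtain ⟨x', hx', y', hy', e⟩ := h.nor g hg y hy x hx
    refine ⟨y', hy', x', hx', ?_⟩
    rw [← h.comm y hy x hx, e, h.comm x' hx' y' hy']
  rad := by
    intro N h1 h2 h3 n hn
    obtain ⟨x, hx, y, hy, b, hb, e⟩ := h.rad N h1 h2 h3 n hn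
    refine ⟨y, hy, x, hx, b, hb.symm, ?_⟩
    rwa [← h.comm x hx y hy]
  odd := fun b hb => h.odd b hb.symm
  oa₁ := h.oa₂
  oa₂ := h.oa₁
  St := h.St
  QB := fun q hq => (h.QB q hq).symm
  Q2 := h.Q2
  Qt := h.Qt
  Q1 := h.Q1
  Bsq := fun b hb => h.Bsq b hb.symm
  Bu := fun b c hb hc => h.Bu b c hb.symm hc.symm

theorem not_le [Finite X] (h : BaseT z t a₁ a₂ Q₁ Q₂ Q S) {M : Subgroup X} (hM : IsQuasisimple M)
    (hMt : ∀ x ∈ M, x * t = t * x) : False := by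
  apply quasisimple_not_isSolvable hM
  have h1 : M ≤ centralizer ({t} : Set X) := fun x hx => mem_centralizer_singleton_iff.2 (hMt x hx)
  have := h.sol
  exact Group.isSolvable_of_isSolvable_injective (f := inclusion h1) (inclusion_injective h1)

/-- `t` normalises every component -/
theorem cj_t [Finite X] (h : BaseT z t a₁ a₂ Q₁ Q₂ Q S) {M : Subgroup X} (hM : IsComponent M) : cj t M = M := by
  by_contra hne
  obtain ⟨D, hD1, -, -, hD3, -⟩ := Cfsg.Agent.Cit.Comp.exists_diag hM h.tt hne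
  exact h.not_le hD3 fun x hx => mem_centralizer_singleton_iff.1 (hD1 hx)

/-- **Claim A** -/
theorem claim (h : BaseT z t a₁ a₂ Q₁ Q₂ Q S) {M : Subgroup X} (hM : IsComponent M) {x w : X} (hs : x * w ∈ M)
    (hx : x ∈ Q₁) (hw : ∀ q ∈ Q₁, w * q = q * w) (haw : a₁ * w = w * a₁) (hx1 : x ≠ 1) (hxz : x ≠ z) :
    Q₁ ≤ M := by
  set x' := a₁ * x * a₁⁻¹ with hx'
  have hx'Q : x' ∈ Q₁ := h.s₁.aQ x hx
  have hxx' : x * x' ≠ x' * x := h.s₁.act x hx hx1 hxz
  have cw : Commute w x := hw x hx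
  have cw' : Commute w x' := hw x' hx'Q
  have e1 : a₁ * (x * w) * a₁⁻¹ = x' * w := by
    calc a₁ * (x * w) * a₁⁻¹ = a₁ * x * (w * a₁⁻¹) := by group
      _ = a₁ * x * (a₁⁻¹ * w) := by rw [(show Commute a₁ w from haw).symm.inv_right.eq]
      _ = x' * w := by rw [hx']; group
  have hne : x * w * (a₁ * (x * w) * a₁⁻¹) ≠ (a₁ * (x * w) * a₁⁻¹) * (x * w) := by
    intro e
    apply hxx'
    rw [e1] at e
    have h1 : x * w * (x' * w) = x * x' * (w * w) := by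
      calc x * w * (x' * w) = x * (w * x') * w := by group
        _ = x * (x' * w) * w := by rw [cw'.eq]
        _ = x * x' * (w * w) := by group
    have h2 : x' * w * (x * w) = x' * x * (w * w) := by
      calc x' * w * (x * w) = x' * (w * x) * w := by group
        _ = x' * (x * w) * w := by rw [cw.eq]
        _ = x' * x * (w * w) := by group
    rw [h1, h2] at e
    exact mul_right_cancel e
  have hcj : cj a₁ M = M := by
    by_contra hcj
    exact hne (Cfsg.Agent.Cit.Comp.comm_of_ne hM (Cfsg.Agent.Cit.Comp.isComponent_cj hM a₁) (fun e => hcj e.symm)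
      hs (conj_mem_cj hs))
  have hs' : a₁ * (x * w) * a₁⁻¹ ∈ M := by
    have := conj_mem_cj (g := a₁) hs
    rwa [hcj] at this
  have hp : (x * w)⁻¹ * (a₁ * (x * w) * a₁⁻¹) = x⁻¹ * x' := by
    rw [e1]
    calc (x * w)⁻¹ * (x' * w) = w⁻¹ * (x⁻¹ * x') * w := by group
      _ = w⁻¹ * (w * (x⁻¹ * x')) := by
          rw [mul_assoc, ((cw.symm.inv_left).mul_left cw'.symm).eq]
      _ = x⁻¹ * x' := by rw [inv_mul_cancel_left]
  have hpM : x⁻¹ * x' ∈ M := by rw [← hp]; exact M.mul_mem (M.inv_mem hs) hs'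
  have hpM' : a₁ * (x⁻¹ * x') * a₁⁻¹ ∈ M := by
    have := conj_mem_cj (g := a₁) hpM
    rwa [hcj] at this
  refine h.s₁.gen h.zc h.zz h.z1 (Q₁.mul_mem (Q₁.inv_mem hx) hx'Q) ?_ ?_ hpM hpM'
  · intro e
    apply hxx'
    rw [inv_mul_eq_one] at e
    rw [← e]
  · intro e
    apply hxx'
    rw [inv_mul_eq_iff_eq_mul] at e
    rw [e, mul_assoc, h.zc x]

/-- `a₁` centralises `B` -/
theorem a₁b (h : BaseT z t a₁ a₂ Q₁ Q₂ Q S) {b : X} (hb : Bt t Q₁ Q₂ b) : a₁ * b = b * a₁ :=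
  (h.odd b hb a₁ h.s₁.a_t h.oa₁).symm

theorem a₂b (h : BaseT z t a₁ a₂ Q₁ Q₂ Q S) {b : X} (hb : Bt t Q₁ Q₂ b) : a₂ * b = b * a₂ :=
  (h.odd b hb a₂ h.s₂.a_t h.oa₂).symm

theorem btq (h : BaseT z t a₁ a₂ Q₁ Q₂ Q S) {x : X} (hx : x = 1 ∨ x = z) : Bt t Q₁ Q₂ x := by
  rcases hx with rfl | rfl
  · exact Bt.one
  · exact h.btz

/-- elements of `R B` in a component containing neither `Q₁` nor `Q₂` -/
theorem bt_of (h : BaseT z t a₁ a₂ Q₁ Q₂ Q S) {M : Subgroup X} (hM : IsComponent M) (h1 : ¬ Q₁ ≤ M)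
    (h2 : ¬ Q₂ ≤ M) {x y b : X} (hs : x * y * b ∈ M) (hx : x ∈ Q₁) (hy : y ∈ Q₂)
    (hb : Bt t Q₁ Q₂ b) : Bt t Q₁ Q₂ (x * y * b) := by
  have hx' : x = 1 ∨ x = z := by
    by_contra hne
    push Not at hne
    refine h1 (h.claim hM (w := y * b) (by rwa [← mul_assoc]) hx (fun q hq => ?_) ?_ hne.1 hne.2)
    · exact ((show Commute y q from (h.comm q hq y hy).symm).mul_left (show Commute b q from hb.2.1 q hq)).eq
    · exact ((show Commute a₁ y from h.s₁.aD y hy).mul_right (show Commute a₁ b from h.a₁b hb)).eq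
  have hy' : y = 1 ∨ y = z := by
    by_contra hne
    push Not at hne
    refine h2 (h.symm.claim hM (w := x * b) (by rwa [← mul_assoc, ← h.comm x hx y hy]) hy (fun q hq => ?_) ?_
      hne.1 hne.2)
    · exact ((show Commute x q from h.comm x hx q hq).mul_left (show Commute b q from hb.2.2 q hq)).eq
    · exact ((show Commute a₂ x from h.s₂.aD x hx).mul_right (show Commute a₂ b from h.a₂b hb)).eq
  exact ((h.btq hx').mul (h.btq hy')).mul hb

theorem R_pow (h : BaseT z t a₁ a₂ Q₁ Q₂ Q S) {x y : X} (hx : x ∈ Q₁) (hy : y ∈ Q₂) : (x * y) ^ 4 = 1 := by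
  have key : ∀ u : X, (u = 1 ∨ u = z) ∨ u * u = z → u ^ 4 = 1 := by
    rintro u ((rfl | rfl) | e)
    · rw [one_pow]
    · rw [show (4 : ℕ) = 2 * 2 from rfl, pow_mul, pow_two u, h.zz, one_pow]
    · rw [show (4 : ℕ) = 2 * 2 from rfl, pow_mul, pow_two u, e, pow_two, h.zz]
  have hx4 : x ^ 4 = 1 := key x (by
    by_cases hh : x = 1 ∨ x = z
    · exact Or.inl hh
    · push Not at hh; exact Or.inr (h.s₁.sq x hx hh.1 hh.2))
  have hy4 : y ^ 4 = 1 := key y (by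
    by_cases hh : y = 1 ∨ y = z
    · exact Or.inl hh
    · push Not at hh; exact Or.inr (h.s₂.sq y hy hh.1 hh.2))
  have cxy : Commute x y := h.comm x hx y hy
  rw [cxy.mul_pow, hx4, hy4, one_mul]


/-- `O(C_X(t)) = 1` -/
theorem core_centralizer [Finite X] (h : BaseT z t a₁ a₂ Q₁ Q₂ Q S) :
    pPrimeCore 2 ↥(centralizer ({t} : Set X)) = ⊥ := by
  set C := centralizer ({t} : Set X) with hC
  rw [eq_bot_iff]
  intro n hn
  have hcop := Cfsg.Agent.Lib.Cores.pPrimeCore_coprime (G := C) 2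
  have hodd : ∀ m ∈ pPrimeCore 2 C, (∃ k : ℕ, m ^ 2 ^ k = 1) → m = 1 := by
    rintro m hm ⟨k, hm4⟩
    have h1 : orderOf m ∣ 2 ^ k := orderOf_dvd_of_pow_eq_one hm4
    have h2 : orderOf m ∣ Nat.card (pPrimeCore 2 C) := by
      rw [← Subgroup.orderOf_mk m hm]
      exact orderOf_dvd_natCard _
    have h3 : Nat.Coprime (2 ^ k) (Nat.card (pPrimeCore 2 C)) := (hcop.symm).pow_left k
    have h4 := Nat.eq_one_of_dvd_coprimes h3 h1 h2
    rwa [orderOf_eq_one_iff] at h4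
  have hnt : ∀ m : C, (m : X) * t = t * m := fun m => mem_centralizer_singleton_iff.1 m.2
  have hN := Cfsg.Agent.Lib.Cores.pPrimeCore_normal (G := C) 2
  have key : ∀ x ∈ Q₁, ∀ y ∈ Q₂, (n : X) * (x * y) = (x * y) * n := by
    intro x hx y hy
    obtain ⟨x', hx', y', hy', e⟩ := h.nor n (hnt n) x hx y hy
    have hrC : x * y ∈ C := mem_centralizer_singleton_iff.2
      (show Commute (x * y) t from (show Commute x t from h.s₁.ct x hx).mul_left (h.s₂.ct y hy))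
    set r : C := ⟨x * y, hrC⟩ with hr
    have h1 : n * r * n⁻¹ * r⁻¹ ∈ pPrimeCore 2 C := by
      have h2 : r * n⁻¹ * r⁻¹ ∈ pPrimeCore 2 C := hN.conj_mem _ (inv_mem hn) r
      have h3 := mul_mem hn h2
      have e3 : n * r * n⁻¹ * r⁻¹ = n * (r * n⁻¹ * r⁻¹) := by group
      rw [e3]; exact h3
    have h2 : n * r * n⁻¹ * r⁻¹ = 1 := by
      apply hodd _ h1
      refine ⟨2, ?_⟩
      apply Subtype.ext
      show ((n : X) * (x * y) * (n : X)⁻¹ * (x * y)⁻¹) ^ 4 = 1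
      rw [e]
      have e4 : x' * y' * (x * y)⁻¹ = (x' * x⁻¹) * (y' * y⁻¹) := by
        have c1 : Commute x⁻¹ y⁻¹ := (show Commute x y from h.comm x hx y hy).inv_inv
        have c2 : Commute x⁻¹ y' := (show Commute x y' from h.comm x hx y' hy').inv_left
        calc x' * y' * (x * y)⁻¹ = x' * y' * (y⁻¹ * x⁻¹) := by rw [mul_inv_rev]
          _ = x' * y' * (x⁻¹ * y⁻¹) := by rw [c1.eq]
          _ = x' * (y' * x⁻¹) * y⁻¹ := by group
          _ = x' * (x⁻¹ * y') * y⁻¹ := by rw [c2.eq]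
          _ = (x' * x⁻¹) * (y' * y⁻¹) := by group
      rw [e4]
      exact h.R_pow (Q₁.mul_mem hx' (Q₁.inv_mem hx)) (Q₂.mul_mem hy' (Q₂.inv_mem hy))
    have h3 : (n : X) * (x * y) * (n : X)⁻¹ * (x * y)⁻¹ = 1 := congrArg Subtype.val h2
    rwa [mul_inv_eq_one, mul_inv_eq_iff_eq_mul] at h3
  rw [mem_bot]
  apply hodd n hn
  obtain ⟨k, hk⟩ := h.b2 (b := (n : X)) ⟨hnt n, fun x hx => by
    have := key x hx 1 Q₂.one_mem
    rwa [mul_one] at this, fun y hy => by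
    have := key 1 Q₁.one_mem y hy
    rwa [one_mul] at this⟩
  exact ⟨k, Subtype.ext hk⟩

/-- the centralizer of `t` in a component containing neither `Q₁` nor `Q₂`: it contains the centralizer (in itself) of
a subgroup of `B` -/
theorem exists_core [Finite X] (h : BaseT z t a₁ a₂ Q₁ Q₂ Q S) {M : Subgroup X} (hM : IsComponent M) (h1 : ¬ Q₁ ≤ M)
    (h2 : ¬ Q₂ ≤ M) :
    ∃ O : Subgroup X, O ≤ M ∧ (∀ o ∈ O, Bt t Q₁ Q₂ o) ∧ (∀ m ∈ M, m * t = t * m → ∀ o ∈ O, m * o * m⁻¹ ∈ O) ∧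
      ∀ m ∈ M, m * t = t * m → (∀ o ∈ O, o * m = m * o) → m ∈ O := by
  have : Fact (Nat.Prime 2) := ⟨Nat.prime_two⟩
  have hsol := h.sol
  set C := centralizer ({t} : Set X) with hC
  set S : Subgroup C := M.subgroupOf C with hS
  have hSn : S.IsSubnormal := hM.1.subgroupOf
  have hct : ∀ m : C, (m : X) * t = t * m := fun m => mem_centralizer_singleton_iff.1 m.2
  have hcore : ∀ s : S, s ∈ pCore 2 S → Bt t Q₁ Q₂ ((s : C) : X) := by
    intro s hs
    have e := Cfsg.Agent.SignalizersComponents.CompBasic.map_subtype_pCore_of_subnormal 2 hSn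
    have h3 : (s : C) ∈ S ⊓ pCore 2 C := by rw [← e]; exact ⟨s, hs, rfl⟩
    have hN := Cfsg.Agent.Lib.Cores.pCore_normal (G := C) 2
    obtain ⟨x, hx, y, hy, b, hb, hxy⟩ := h.rad ((pCore 2 C).map C.subtype) (by
        rintro _ ⟨n, -, rfl⟩; exact hct n) ((Cfsg.Agent.Lib.Cores.pCore_isPGroup 2).map _) (by
        rintro g hg _ ⟨n, hn, rfl⟩
        exact ⟨⟨g, mem_centralizer_singleton_iff.2 hg⟩ * n * ⟨g, mem_centralizer_singleton_iff.2 hg⟩⁻¹,
          hN.conj_mem n hn _, rfl⟩) ((s : C) : X) ⟨s, h3.2, rfl⟩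
    have h4 : ((s : C) : X) ∈ M := mem_subgroupOf.1 s.2
    rw [hxy] at h4 ⊢
    exact h.bt_of hM h1 h2 h4 hx hy hb
  have hOS : pPrimeCore 2 S = ⊥ := by
    have e := Cfsg.Agent.SignalizersComponents.CompBasic.map_subtype_pPrimeCore_of_subnormal 2 hSn
    rw [h.core_centralizer, inf_bot_eq] at e
    exact (map_eq_bot_iff_of_injective _ S.subtype_injective).1 e
  have hSsol : Group.IsSolvable S := inferInstance
  have hcen : centralizer (pCore 2 S : Set S) ≤ pCore 2 S :=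
    Cfsg.Agent.OddOrderLocal.RankTwoSolvable.centralizer_pCore_le hOS
  have hNS := Cfsg.Agent.Lib.Cores.pCore_normal (G := S) 2
  refine ⟨((pCore 2 S).map S.subtype).map C.subtype, ?_, ?_, ?_, ?_⟩
  · rintro _ ⟨_, ⟨s, -, rfl⟩, rfl⟩
    exact mem_subgroupOf.1 s.2
  · rintro _ ⟨_, ⟨s, hs, rfl⟩, rfl⟩
    exact hcore s hs
  · rintro m hm hmt _ ⟨_, ⟨s, hs, rfl⟩, rfl⟩
    have hmC : m ∈ C := mem_centralizer_singleton_iff.2 hmt
    refine ⟨_, ⟨⟨⟨m, hmC⟩, mem_subgroupOf.2 hm⟩ * s * ⟨⟨m, hmC⟩, mem_subgroupOf.2 hm⟩⁻¹, hNS.conj_mem s hs _, rfl⟩,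
      rfl⟩
  · intro m hm hmt hmo
    have hmC : m ∈ C := mem_centralizer_singleton_iff.2 hmt
    refine ⟨_, ⟨⟨⟨m, hmC⟩, mem_subgroupOf.2 hm⟩, ?_, rfl⟩, rfl⟩
    apply hcen
    rw [mem_centralizer_iff]
    intro u hu
    apply Subtype.ext
    apply Subtype.ext
    exact hmo ((u : C) : X) ⟨_, ⟨u, hu, rfl⟩, rfl⟩

/-- a subgroup containing the commutators `[r, a₁]` (`r ∈ Q₁`) contains `Q₁` -/
theorem gen_le (h : BaseT z t a₁ a₂ Q₁ Q₂ Q S) {H : Subgroup X} (hH : ∀ r ∈ Q₁, r * (a₁ * r * a₁⁻¹)⁻¹ ∈ H) : Q₁ ≤ H := by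
  obtain ⟨q, hq, hq1, hqz⟩ := h.s₁.exists_ne
  set q' := a₁ * q * a₁⁻¹ with hq'
  have hq'Q : q' ∈ Q₁ := h.s₁.aQ q hq
  have hact := h.s₁.act q hq hq1 hqz
  rw [← hq'] at hact
  have h1 := hH q hq
  have h2 := hH q' hq'Q
  rw [← hq'] at h1
  refine h.s₁.gen h.zc h.zz h.z1 (Q₁.mul_mem hq (Q₁.inv_mem hq'Q)) ?_ ?_ h1 ?_
  · intro e
    apply hact
    rw [mul_inv_eq_one] at e
    rw [← e]
  · intro e
    apply hact
    rw [mul_inv_eq_iff_eq_mul, ← h.zc] at e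
    rw [e, mul_assoc, h.zc q', ← mul_assoc]
  · have e : a₁ * (q * q'⁻¹) * a₁⁻¹ = q' * (a₁ * q' * a₁⁻¹)⁻¹ := by rw [hq']; group
    rw [e]
    exact h2

/-- a subgroup containing the elements of odd order of `C_X(t)` contains `Q₁` -/
theorem le_of_odd (h : BaseT z t a₁ a₂ Q₁ Q₂ Q S) {H : Subgroup X}
    (hH : ∀ d, d * t = t * d → Odd (orderOf d) → d ∈ H) : Q₁ ≤ H := by
  apply h.gen_le
  intro r hr
  have e : r * (a₁ * r * a₁⁻¹)⁻¹ = (r * a₁ * r⁻¹) * a₁⁻¹ := by group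
  rw [e]
  refine H.mul_mem (hH _ ?_ ?_) (H.inv_mem (hH a₁ h.s₁.a_t h.oa₁))
  · have d1 : Commute r t := h.s₁.ct r hr
    have d2 : Commute a₁ t := h.s₁.a_t
    exact ((d1.mul_left d2).mul_left d1.inv_left).eq
  · rw [show r * a₁ * r⁻¹ = MulAut.conj r a₁ from rfl, MulEquiv.orderOf_eq]
    exact h.oa₁

/-- an element commuting with the elements of odd order of `C_X(t)` commutes with `Q₁` -/
theorem comm_Q₁ (h : BaseT z t a₁ a₂ Q₁ Q₂ Q S) {s : X} (hs : ∀ d, d * t = t * d → Odd (orderOf d) → d * s = s * d) :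
    ∀ q ∈ Q₁, s * q = q * s := by
  have hle : Q₁ ≤ centralizer ({s} : Set X) :=
    h.le_of_odd fun d hd ho => mem_centralizer_singleton_iff.2 (hs d hd ho)
  intro q hq
  exact (mem_centralizer_singleton_iff.1 (hle hq)).symm

/-- **(2)**: for a component containing neither `Q₁` nor `Q₂` -/
theorem alpha [Finite X] (h : BaseT z t a₁ a₂ Q₁ Q₂ Q S) {M : Subgroup X} (hM : IsComponent M) (h1 : ¬ Q₁ ≤ M)
    (h2 : ¬ Q₂ ≤ M) :
    (∀ m ∈ M, m * t = t * m → Bt t Q₁ Q₂ m) ∧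
      ((∀ m ∈ M, m * t = t * m → ∀ x ∈ M, m * x = x * m) ∨
        ∀ d, d * t = t * d → Odd (orderOf d) → ∀ m ∈ M, d * m * d⁻¹ ∈ M) := by
  obtain ⟨O, hOM, hOB, hOn, hOc⟩ := h.exists_core hM h1 h2
  by_cases hd : ∃ d, d * t = t * d ∧ Odd (orderOf d) ∧ cj d M ≠ M
  · obtain ⟨d, hdt, hdo, hdM⟩ := hd
    have hcen : ∀ o ∈ O, ∀ x ∈ M, o * x = x * o := by
      intro o ho x hx
      have h3 : d * o * d⁻¹ = o := by
        rw [← h.odd o (hOB o ho) d hdt hdo, mul_inv_cancel_right]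
      have h4 := conj_mem_cj (g := d) (hOM ho)
      rw [h3] at h4
      exact (Cfsg.Agent.Cit.Comp.comm_of_ne hM (Cfsg.Agent.Cit.Comp.isComponent_cj hM d) (fun e => hdM e.symm)
        hx h4).symm
    have hall : ∀ m ∈ M, m * t = t * m → m ∈ O := fun m hm hmt => hOc m hm hmt fun o ho => hcen o ho m hm
    exact ⟨fun m hm hmt => hOB m (hall m hm hmt), Or.inl fun m hm hmt x hx => hcen m (hall m hm hmt) x hx⟩
  · push Not at hd
    have hdM : ∀ d, d * t = t * d → Odd (orderOf d) → ∀ m ∈ M, d * m * d⁻¹ ∈ M := by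
      intro d hdt hdo m hm
      have h3 := conj_mem_cj (g := d) hm
      rwa [hd d hdt hdo] at h3
    refine ⟨fun m hm hmt => ?_, Or.inr hdM⟩
    have key : ∀ d, d * t = t * d → Odd (orderOf d) → d * m = m * d := by
      intro d hdt hdo
      set u := d * m * d⁻¹ * m⁻¹ with hu
      have huM : u ∈ M := M.mul_mem (hdM d hdt hdo m hm) (M.inv_mem hm)
      have cd : Commute d t := hdt
      have cm : Commute m t := hmt
      have hut : u * t = t * u := (((cd.mul_left cm).mul_left cd.inv_left).mul_left cm.inv_left).eq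
      have huO : u ∈ O := by
        refine hOc u huM hut fun o ho => ?_
        have c1 : Commute o d := h.odd o (hOB o ho) d hdt hdo
        have h4 : m⁻¹ * o * m ∈ O := by
          have := hOn m⁻¹ (M.inv_mem hm) cm.inv_left.eq o ho
          rwa [inv_inv] at this
        have c2 : Commute (m⁻¹ * o * m) d := h.odd _ (hOB _ h4) d hdt hdo
        have c3 : Commute o (m * d⁻¹ * m⁻¹) := by
          have e : o * (m * d⁻¹ * m⁻¹) = m * ((m⁻¹ * o * m) * d⁻¹) * m⁻¹ := by group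
          rw [Commute, SemiconjBy, e, c2.inv_right.eq]
          group
        have e : u = d * (m * d⁻¹ * m⁻¹) := by rw [hu]; group
        rw [e]
        exact (c1.mul_right c3).eq
      have h5 : u = 1 := eq_one_of_odd (s := m) hdo (h.b2 (hOB u huO)) (h.odd u (hOB u huO) d hdt hdo).symm hu.symm
      rw [hu, mul_inv_eq_one, mul_inv_eq_iff_eq_mul] at h5
      exact h5
    exact ⟨hmt, h.comm_Q₁ key, h.symm.comm_Q₁ key⟩


end BaseT

end Cfsg.Agent.OddHalf.D6.QThree.TS
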