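import Cfsg.Agent.OddHalf.D6.QThree.TS.Hyp
import Cfsg.Agent.OddHalf.D6.QThree.L43AutSp
import Cfsg.Agent.OddHalf.D6.QThree.L43Full
import Cfsg.Agent.OddHalf.D6.QThree.Transport

/-!
# ODD half, D6, `q = 3`, `T = S`: the facts `FrontT` on `K = L₄(3)` (helper890; helper76's `L43Aut*`)
-/

set_option autoImplicit false

namespace Cfsg.Agent.OddHalf.D6.QThree.TS.KL43

open Matrix
open Cfsg.Agent.KFacts.LFourThree
open Cfsg.Agent.ClassicalGeometry.AutPSL.Auto
open Cfsg.Agent.OddHalf.D6.QThree.FactsOut (OD)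
open Cfsg.Agent.OddHalf.D6.QThree.L43Aut
open FrontB (BA Z2)

/-! ### `J₁`, `J₂` -/

/-- `SL₂(3) → L₄(3)`, the first block -/
def e₁ : SL2 →* L := pr.comp b₁

theorem e₁_inj : Function.Injective e₁ := by
  rw [injective_iff_map_eq_one]
  intro M hM
  change pr (b₁ M) = 1 at hM
  rw [pr_eq_one_iff] at hM
  have hv : (b₁ M).1 = bd M.1 1 := rfl
  rcases hM with h | h
  · have h1 := congrArg Subtype.val h
    rw [hv] at h1
    have h2 : bd M.1 1 = bd 1 1 := by rw [h1, bd_one]; rfl
    exact Subtype.ext (bd_inj h2).1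
  · exfalso
    have h1 := congrFun (congrFun (congrArg Subtype.val h) 2) 2
    rw [hv] at h1
    revert h1
    simp [bd, m1]
    decide

theorem range_e₁ : e₁.range = Subgroup.closure ({i, j, x₁} : Set L) := by
  apply le_antisymm
  · rintro _ ⟨M, rfl⟩
    exact mem_of_word b₁ (by rw [b₁_I]; exact Subgroup.subset_closure (by simp [i]))
      (by rw [b₁_J]; exact Subgroup.subset_closure (by simp [j]))
      (by rw [b₁_X]; exact Subgroup.subset_closure (by simp [x₁])) M
  · rw [Subgroup.closure_le]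
    intro g hg
    simp only [Set.mem_insert_iff, Set.mem_singleton_iff] at hg
    rcases hg with rfl | rfl | rfl
    · exact ⟨I2, by change pr (b₁ I2) = _; rw [b₁_I]; rfl⟩
    · exact ⟨J2, by change pr (b₁ J2) = _; rw [b₁_J]; rfl⟩
    · exact ⟨X2, by change pr (b₁ X2) = _; rw [b₁_X]; rfl⟩

theorem j1 : Nonempty (↥(Subgroup.closure ({i, j, x₁} : Set L)) ≃* Matrix.SpecialLinearGroup (Fin 2) (ZMod 3)) := by
  rw [← range_e₁]
  exact ⟨(MonoidHom.ofInjective e₁_inj).symm⟩

theorem two_aux : ∀ a b c d : F3, a * d - b * c = 1 → (!![a, b; c, d] : M2) ^ 8 = 1 → ∃ r < 4, ∃ t < 2,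
    (!![a, b; c, d] : M2) = I2.1 ^ r * J2.1 ^ t := by
  decide +kernel

theorem j2 (q : L) (hq : q ∈ Subgroup.closure ({i, j, x₁} : Set L)) (h2 : ∃ n : ℕ, q ^ 2 ^ n = 1) :
    q ∈ Subgroup.closure ({i, j} : Set L) := by
  rw [← range_e₁] at hq
  obtain ⟨M, rfl⟩ := hq
  obtain ⟨n, hn⟩ := h2
  rw [← map_pow] at hn
  have h3 : M ^ 2 ^ n = 1 := e₁_inj (by rw [hn, map_one])
  have h4 : M ^ 8 = 1 := by
    have h5 : orderOf M ∣ 2 ^ n := orderOf_dvd_of_pow_eq_one h3
    have h6 : orderOf M ∣ 24 := by rw [← card_SL2F]; exact orderOf_dvd_natCard M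
    have h7 : orderOf M ∣ 8 := by
      have h8 : Nat.Coprime (orderOf M) 3 := by
        apply Nat.Coprime.coprime_dvd_left h5
        exact Nat.Coprime.pow_left n (by norm_num)
      exact h8.dvd_of_dvd_mul_right (by exact h6)
    exact orderOf_dvd_iff_pow_eq_one.1 h7
  have h5 : M.1 = !![M.1 0 0, M.1 0 1; M.1 1 0, M.1 1 1] := by
    ext a c
    fin_cases a <;> fin_cases c <;> rfl
  have h6 : M.1 0 0 * M.1 1 1 - M.1 0 1 * M.1 1 0 = 1 := by rw [← Matrix.det_fin_two, M.2]
  have h7 : (!![M.1 0 0, M.1 0 1; M.1 1 0, M.1 1 1] : M2) ^ 8 = 1 := by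
    rw [← h5]
    have h8 : (M ^ 8).1 = (1 : SL2).1 := congrArg Subtype.val h4
    rw [Matrix.SpecialLinearGroup.coe_pow] at h8
    exact h8
  obtain ⟨r, -, t, -, h8⟩ := two_aux _ _ _ _ h6 h7
  have h9 : M = I2 ^ r * J2 ^ t := Subtype.ext (h5.trans h8)
  rw [h9, map_mul, map_pow, map_pow]
  refine mul_mem (pow_mem ?_ _) (pow_mem ?_ _)
  · change pr (b₁ I2) ∈ _
    rw [b₁_I]; exact Subgroup.subset_closure (by simp [i])
  · change pr (b₁ J2) ∈ _
    rw [b₁_J]; exact Subgroup.subset_closure (by simp [j])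

/-! ### the automorphisms -/

theorem conj_z_sq : (MulAut.conj z : MulAut L) * MulAut.conj z = 1 := by rw [← map_mul, zz, map_one]

theorem ba_gen {α : MulAut L} (h : BA Q α) : α = 1 ∨ α = MulAut.conj z ∨ α = r ∨ α = MulAut.conj z * r :=
  main (h _ (gen_mem (by simp))) (h _ (gen_mem (by simp))) (h _ (gen_mem (by simp))) (h _ (gen_mem (by simp)))

theorem zr_sq : (MulAut.conj z * r : MulAut L) * (MulAut.conj z * r) = 1 := by
  calc (MulAut.conj z * r : MulAut L) * (MulAut.conj z * r) = MulAut.conj z * (r * MulAut.conj z) * r := by group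
    _ = MulAut.conj z * MulAut.conj z * (r * r) := by rw [r_comm_z]; group
    _ = 1 := by rw [conj_z_sq, rr, one_mul]

theorem sq (α : MulAut L) (h : BA Q α) : α * α = 1 := by
  rcases ba_gen h with rfl | rfl | rfl | rfl
  exacts [one_mul 1, conj_z_sq, rr, zr_sq]

theorem r_inv : (r : MulAut L)⁻¹ = r := inv_eq_of_mul_eq_one_right rr

theorem z_inv' : (MulAut.conj z : MulAut L)⁻¹ = MulAut.conj z := inv_eq_of_mul_eq_one_right conj_z_sq

theorem cc (α β : MulAut L) (hα : BA Q α) (hβ : BA Q β) : Z2 z α ∨ Z2 z β ∨ Z2 z (α⁻¹ * β) := by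
  rcases ba_gen hα with rfl | rfl | rfl | rfl
  · exact Or.inl (Or.inl rfl)
  · exact Or.inl (Or.inr rfl)
  · right
    rcases ba_gen hβ with rfl | rfl | rfl | rfl
    · exact Or.inl (Or.inl rfl)
    · exact Or.inl (Or.inr rfl)
    · right; left; rw [inv_mul_cancel]
    · right; right
      rw [r_inv, ← mul_assoc, r_comm_z, mul_assoc, rr, mul_one]
  · right
    rcases ba_gen hβ with rfl | rfl | rfl | rfl
    · exact Or.inl (Or.inl rfl)
    · exact Or.inl (Or.inr rfl)
    · right; right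
      rw [_root_.mul_inv_rev, r_inv, z_inv', r_comm_z, mul_assoc, rr, mul_one]
    · right; left; rw [inv_mul_cancel]

/-- squares are inner -/
theorem sq_inner (x : L) (w : MulAut L) (hw : w * w ∈ (MulAut.conj : L →* MulAut L).range) :
    (MulAut.conj x * w) * (MulAut.conj x * w) ∈ (MulAut.conj : L →* MulAut L).range := by
  have h : (MulAut.conj x * w) * (MulAut.conj x * w) = MulAut.conj (x * w x) * (w * w) := by
    apply MulEquiv.ext
    intro g
    change x * w (x * w g * x⁻¹) * x⁻¹ = x * w x * w (w g) * (x * w x)⁻¹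
    rw [map_mul, map_mul, map_inv]
    group
  rw [h]
  exact mul_mem ⟨_, rfl⟩ hw

theorem out (α : MulAut L) : ∃ n : ℕ, α ^ 2 ^ n ∈ (MulAut.conj : L →* MulAut L).range := by
  refine ⟨1, ?_⟩
  rw [pow_one, pow_two]
  obtain ⟨x, h | h | h | h⟩ := four_forms α
  · rw [h]
    exact mul_mem ⟨_, rfl⟩ ⟨_, rfl⟩
  · rw [h]
    apply sq_inner
    rw [dl_sq]; exact one_mem _
  · rw [h]
    apply sq_inner
    rw [rr]; exact one_mem _
  · have h1 : α = MulAut.conj x * (dl * r) := by rw [h, mul_assoc]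
    rw [h1]
    apply sq_inner
    have h2 : (dl * r : MulAut L) * (dl * r) = MulAut.conj z := by
      calc (dl * r : MulAut L) * (dl * r) = (MulAut.conj z * r * dl) * (dl * r) := by rw [← dl_r]
        _ = MulAut.conj z * (r * (dl * dl) * r) := by simp only [mul_assoc]
        _ = MulAut.conj z := by rw [dl_sq, mul_one, rr, mul_one]
    rw [h2]
    exact ⟨z, rfl⟩

theorem z_not_central : (MulAut.conj z : MulAut L) ≠ 1 := by
  intro h
  have h1 : (MulAut.conj z : MulAut L) Facts.g = Facts.g := by rw [h]; rfl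
  rw [MulAut.conj_apply, mul_inv_eq_iff_eq_mul, Facts.gy] at h1
  have h2 : y = z := mul_left_cancel h1
  exact Facts.y_not (h2 ▸ z_mem)

/-! ### (in₁) -/

theorem cj_eq_conj {A : GL4} {B : SL4} {c : F3} (h : A.1 = c • B.1) : cj A = MulAut.conj B := by
  apply MulEquiv.ext
  intro g
  apply Subtype.ext
  have h3 : B.1 * g.1 = (B * g * B⁻¹).1 * B.1 := by
    rw [← Matrix.SpecialLinearGroup.coe_mul, ← Matrix.SpecialLinearGroup.coe_mul, inv_mul_cancel_right]
  have h2 : A.1 * g.1 = (B * g * B⁻¹).1 * A.1 := by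
    rw [h, Matrix.smul_mul, Matrix.mul_smul, h3]
  rw [coe_cj, h2, mul_assoc, ← Units.val_mul, mul_inv_cancel, Units.val_one, mul_one, MulAut.conj_apply]

theorem block_two (A : M4) (hK : A * eK.1 = eK.1 * A) (hL : A * eL.1 = eL.1 * A) :
    ∃ (P : M2) (w : F3), A = bd P (w • 1) := by
  have key : ∀ (X : SL4), A * X.1 = X.1 * A → ∀ a b, (A * X.1) a b = (X.1 * A) a b := by
    intro X h a b; rw [h]
  have kK := key _ hK
  have kL := key _ hL
  simp [eK, eL, Matrix.mul_apply, Fin.sum_univ_four, Fin.forall_fin_succ] at kK kL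
  have e2 : ∀ x : F3, x * 2 = x → x = 0 := by decide
  obtain ⟨⟨-, k1⟩, ⟨-, k2⟩, ⟨k3, k4, k5, k6⟩, -⟩ := kK
  obtain ⟨⟨l1, -⟩, ⟨l2, -⟩, ⟨l3, l4, l5, -⟩, -⟩ := kL
  have a02 : A 0 2 = 0 := k1.trans l1
  have a12 : A 1 2 = 0 := k2.trans l2
  have a20 : A 2 0 = 0 := k3.trans l3
  have a21 : A 2 1 = 0 := k4.trans l4
  have a23 : A 2 3 = 0 := e2 _ (k5.trans l5.symm)
  have a32 : A 3 2 = 0 := l5.symm.trans a23
  refine ⟨!![A 0 0, A 0 1; A 1 0, A 1 1], A 2 2, ?_⟩
  ext a b
  fin_cases a <;> fin_cases b <;>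
    simp [bd, l1, l2, l3, l4, a02, a12, a20, a21, a23, a32, k6]

theorem bd_smul_one_det (P : M2) (w : F3) : (bd P (w • 1)).det = P.det * (w * w) := by
  rw [bd_det]
  congr 1
  rw [Matrix.det_smul, Matrix.det_one, Fintype.card_fin, mul_one, pow_two]

theorem bd_comm_eZ (P R : M2) : bd P R * eZ.1 = eZ.1 * bd P R := by
  rw [eZ_val]; exact bd_comm P R

theorem inner_of {A : GL4} (hk : lift (cj A) k = k) (hl : lift (cj A) l = l)
    (hr : lift (cj A) * r = r * lift (cj A)) : ∃ q ∈ Subgroup.closure ({i, j, x₁} : Set L),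
      lift (cj A) = MulAut.conj q := by
  have tK : eK.1.trace ≠ 0 := by decide +kernel
  have tL : eL.1.trace ≠ 0 := by decide +kernel
  obtain ⟨P, w, hA⟩ := block_two A.1 (comm_of_fix tK hk) (comm_of_fix tL hl)
  have hdet : A.1.det ≠ 0 := (A.isUnit.map (Matrix.detMonoidHom)).ne_zero
  have hdA : A.1.det = P.det * (w * w) := by rw [hA, bd_smul_one_det]
  have key : ∀ d w : F3, d * (w * w) ≠ 0 → w * w = 1 ∧ (d = 1 ∨ d = 2) := by decide
  obtain ⟨hw, hP⟩ := key P.det w (hdA ▸ hdet)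
  rcases hP with hP | hP
  · have hM : (w • P).det = 1 := by
      rw [Matrix.det_smul, Fintype.card_fin, pow_two, hw, hP, one_mul]
    refine ⟨e₁ ⟨w • P, hM⟩, by rw [← range_e₁]; exact ⟨_, rfl⟩, ?_⟩
    have h1 : A.1 = w • (b₁ ⟨w • P, hM⟩).1 := by
      change A.1 = w • bd (w • P) 1
      rw [smul_bd, smul_smul, hw, one_smul, hA]
    rw [cj_eq_conj h1, lift_conj]
    rfl
  · exfalso
    have h2 : (A * gD).1.det = 1 := by
      rw [Units.val_mul, det_mul, hdA, hP, hw]
      decide +kernel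
    set x : L := pr (mk (A * gD).1 h2) with hx
    have h3 : lift (cj A) = MulAut.conj x * dl := by
      rw [hx, ← lift_conj, ← cj_toGL, toGL_of_det, dl, ← map_mul, ← map_mul, mul_assoc, gD_sq, mul_one]
    have h4 : x * z = z * x := by
      rw [hx, z, ← map_mul, ← map_mul]
      congr 1
      apply Subtype.ext
      change (A * gD).1 * eZ.1 = eZ.1 * (A * gD).1
      have h5 : gD.1 = bd !![2, 0; 0, 1] 1 := by decide +kernel
      rw [Units.val_mul, hA, h5, bd_mul, bd_comm_eZ]
    have h5 : r * MulAut.conj x = MulAut.conj x * r := by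
      apply MulEquiv.ext
      intro y
      change r (x * y * x⁻¹) = x * r y * x⁻¹
      rw [map_mul, map_mul, map_inv, r_cent h4]
    rw [h3, ← mul_assoc, h5, mul_assoc, mul_assoc] at hr
    have h6 : dl * r = r * dl := mul_left_cancel hr
    rw [dl_r, mul_assoc] at h6
    exact z_not_central (mul_eq_right.1 h6)

theorem in₁ (α β : MulAut L) (hz : α z = z) (hk : α k = k) (hl : α l = l) (hβ : BA Q β) (hβz : ¬ Z2 z β)
    (hc : α * β = β * α) : ∃ q ∈ Subgroup.closure ({i, j, x₁} : Set L),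
      α = MulAut.conj q ∨ α = MulAut.conj q * β := by
  have hzα : α * MulAut.conj z = MulAut.conj z * α := by
    apply MulEquiv.ext
    intro g
    change α (z * g * z⁻¹) = z * α g * z⁻¹
    rw [map_mul, map_mul, map_inv, hz]
  -- `α` commutes with `r`
  have hβ' : β = r ∨ β = MulAut.conj z * r := by
    rcases ba_gen hβ with h | h | h | h
    · exact absurd (Or.inl h) hβz
    · exact absurd (Or.inr h) hβz
    · exact Or.inl h
    · exact Or.inr h
  have hr : α * r = r * α := by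
    rcases hβ' with h | h
    · rw [← h, hc]
    · have h1 : MulAut.conj z * (α * r) = MulAut.conj z * (r * α) := by
        rw [← mul_assoc, ← hzα, mul_assoc, ← h, hc, h, mul_assoc]
      exact mul_left_cancel h1
  have hzm : z ∈ Subgroup.closure ({i, j, x₁} : Set L) := by
    rw [← ii]
    exact mul_mem (Subgroup.subset_closure (by simp)) (Subgroup.subset_closure (by simp))
  -- `conj q * r`
  have hfin : ∀ q ∈ Subgroup.closure ({i, j, x₁} : Set L), α = MulAut.conj q * r →
      ∃ q ∈ Subgroup.closure ({i, j, x₁} : Set L), α = MulAut.conj q ∨ α = MulAut.conj q * β := by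
    intro q hq h
    rcases hβ' with h1 | h1
    · exact ⟨q, hq, Or.inr (by rw [h, h1])⟩
    · refine ⟨q * z, mul_mem hq hzm, Or.inr ?_⟩
      rw [h, h1, map_mul, mul_assoc, ← mul_assoc (MulAut.conj z) (MulAut.conj z) r, conj_z_sq, one_mul]
  rcases two_forms α with ⟨A, h⟩ | ⟨A, h⟩
  · rw [h] at hk hl hr
    obtain ⟨q, hq, h1⟩ := inner_of hk hl hr
    exact ⟨q, hq, Or.inl (h.trans h1)⟩
  · have h1 : α * r = lift (cj (A * Matrix.SpecialLinearGroup.toGL eC)) := by
      rw [h, mul_assoc, lift_itr_mul_r, ← lift_conj, ← map_mul, map_mul cj]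
      congr 2
    have h2 : α = lift (cj (A * Matrix.SpecialLinearGroup.toGL eC)) * r := by
      rw [← h1, mul_assoc, rr, mul_one]
    obtain ⟨q, hq, h3⟩ := inner_of (A := A * Matrix.SpecialLinearGroup.toGL eC)
      (by rw [← h1]; change α (r k) = k; rw [rk, hk]) (by rw [← h1]; change α (r l) = l; rw [rl, hl])
      (by rw [← h1, hr, mul_assoc, hr])
    exact hfin q hq (by rw [h2, h3])

/-! ### the frame -/

theorem frame : NIFacts.Frame z i j k l x₁ x₂ := NICase.frame_of_plus case9aa.toPlus x₁_act x₂_act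

theorem gR : Q = Subgroup.closure {i, j, k, l} := rfl

theorem od (x : L) (hx : x * z = z * x) (ho : Odd (orderOf x)) :
    x ∈ Subgroup.closure ({i, j, k, l, x₁, x₂} : Set L) := by
  have h1 : x ∈ OD z := Subgroup.subset_closure ⟨hx, ho⟩
  obtain ⟨M, N, rfl⟩ := mem_OD.1 h1
  rw [b_eq, map_mul]
  refine mul_mem (mem_of_word b₁ ?_ ?_ ?_ M) (mem_of_word b₂ ?_ ?_ ?_ N)
  · rw [b₁_I]; exact Subgroup.subset_closure (by simp [i])
  · rw [b₁_J]; exact Subgroup.subset_closure (by simp [j])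
  · rw [b₁_X]; exact Subgroup.subset_closure (by simp [x₁])
  · rw [b₂_I]; exact Subgroup.subset_closure (by simp [k])
  · rw [b₂_J]; exact Subgroup.subset_closure (by simp [l])
  · rw [b₂_X]; exact Subgroup.subset_closure (by simp [x₂])

theorem sw : ∃ p, p * z = z * p ∧ p * i * p⁻¹ = k := ⟨s, mul_inv_eq_iff_eq_mul.1 s_act.z, s_act.i⟩

/-- **`FrontT` for `PSL(4, 3)`** -/
theorem frontT : FrontT z Q i j k l x₁ x₂ where
  toBase := Facts.one_L.toBase
  fr := frame
  gR := gR
  od := od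
  oa := Facts.odd_of_cube x₁3
  ob := Facts.odd_of_cube x₂3
  sw := sw
  out := out
  sq := sq
  cc := cc
  in₁ := in₁
  j2 := j2
  j1 := j1

end Cfsg.Agent.OddHalf.D6.QThree.TS.KL43

namespace Cfsg.Agent.OddHalf.D6.QThree.TS

open Subgroup
open Facts (tr_comm tr_mem tr_conj tr_order)
open FrontB (BA Z2)

section

variable {K L : Type*} [Group K] [Group L] (e : K ≃* L)

theorem congr_apply (α : MulAut K) (x : K) : (MulAut.congr e α : MulAut L) (e x) = e (α x) := by
  change e (α (e.symm (e x))) = _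
  rw [MulEquiv.symm_apply_apply]

theorem congr_conj (q : K) : (MulAut.congr e (MulAut.conj q) : MulAut L) = MulAut.conj (e q) := by
  apply MulEquiv.ext
  intro y
  obtain ⟨x, rfl⟩ := e.surjective y
  rw [congr_apply, MulAut.conj_apply, MulAut.conj_apply, map_mul, map_mul, map_inv]

theorem ba_congr {R : Subgroup K} {α : MulAut K} : BA (R.map e.toMonoidHom) (MulAut.congr e α) ↔ BA R α := by
  constructor
  · intro h x hx
    have h1 := h (e x) ((tr_mem e).2 hx)
    rw [congr_apply] at h1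
    exact e.injective h1
  · rintro h _ ⟨x, hx, rfl⟩
    change (MulAut.congr e α : MulAut L) (e x) = e x
    rw [congr_apply, h x hx]

theorem z2_congr {z : K} {α : MulAut K} : Z2 (e z) (MulAut.congr e α) ↔ Z2 z α := by
  unfold Z2
  rw [← congr_conj, (MulAut.congr e).injective.eq_iff, ← (MulAut.congr e).injective.eq_iff (a := α) (b := 1), map_one]

theorem closure_map₃ (i j a : K) : closure ({e i, e j, e a} : Set L) = (closure {i, j, a}).map e.toMonoidHom := by
  rw [MonoidHom.map_closure]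
  congr 1
  simp [Set.image_insert_eq]

theorem closure_map₂ (i j : K) : closure ({e i, e j} : Set L) = (closure {i, j}).map e.toMonoidHom := by
  rw [MonoidHom.map_closure]
  congr 1
  simp [Set.image_insert_eq]

theorem closure_map₆ (i j k l a b : K) : closure ({e i, e j, e k, e l, e a, e b} : Set L) =
    (closure {i, j, k, l, a, b}).map e.toMonoidHom := by
  rw [MonoidHom.map_closure]
  congr 1
  simp [Set.image_insert_eq]

theorem closure_map₄ (i j k l : K) : closure ({e i, e j, e k, e l} : Set L) =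
    (closure {i, j, k, l}).map e.toMonoidHom := by
  rw [MonoidHom.map_closure]
  congr 1
  simp [Set.image_insert_eq]

/-- **transport** -/
theorem FrontT.map {z : K} {R : Subgroup K} {i j k l a b : K} (h : FrontT z R i j k l a b) :
    FrontT (e z) (R.map e.toMonoidHom) (e i) (e j) (e k) (e l) (e a) (e b) where
  toBase := h.toBase.map e
  fr := h.fr.map e.toMonoidHom e.injective
  gR := by rw [h.gR, closure_map₄]
  od := by
    intro x hx ho
    obtain ⟨x, rfl⟩ := e.surjective x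
    rw [closure_map₆, tr_mem]
    exact h.od x ((tr_comm e).1 hx) (by rwa [tr_order] at ho)
  oa := by rw [tr_order]; exact h.oa
  ob := by rw [tr_order]; exact h.ob
  sw := by
    obtain ⟨p, h1, h2⟩ := h.sw
    exact ⟨e p, (tr_comm e).2 h1, by rw [tr_conj, h2]⟩
  out := by
    intro β
    obtain ⟨α, rfl⟩ := (MulAut.congr e).surjective β
    obtain ⟨n, x, hx⟩ := h.out α
    refine ⟨n, e x, ?_⟩
    rw [← congr_conj, hx, map_pow]
  sq := by
    intro β hβ
    obtain ⟨α, rfl⟩ := (MulAut.congr e).surjective β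
    rw [← map_mul, h.sq α ((ba_congr e).1 hβ), map_one]
  cc := by
    intro β γ hβ hγ
    obtain ⟨α, rfl⟩ := (MulAut.congr e).surjective β
    obtain ⟨δ, rfl⟩ := (MulAut.congr e).surjective γ
    rw [← map_inv, ← map_mul, z2_congr, z2_congr, z2_congr]
    exact h.cc α δ ((ba_congr e).1 hβ) ((ba_congr e).1 hγ)
  in₁ := by
    intro β γ hz hk hl hγ hγz hc
    obtain ⟨α, rfl⟩ := (MulAut.congr e).surjective β
    obtain ⟨δ, rfl⟩ := (MulAut.congr e).surjective γ
    rw [congr_apply] at hz hk hl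
    rw [← map_mul, ← map_mul] at hc
    obtain ⟨q, hq, h1⟩ := h.in₁ α δ (e.injective hz) (e.injective hk) (e.injective hl) ((ba_congr e).1 hγ)
      (fun h2 => hγz ((z2_congr e).2 h2)) ((MulAut.congr e).injective hc)
    refine ⟨e q, by rw [closure_map₃, tr_mem]; exact hq, ?_⟩
    rw [← congr_conj, ← map_mul]
    rcases h1 with h1 | h1
    · left; rw [h1]
    · right; rw [h1]
  j2 := by
    intro q hq h2
    obtain ⟨q, rfl⟩ := e.surjective q
    rw [closure_map₃, tr_mem] at hq
    rw [closure_map₂, tr_mem]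
    obtain ⟨n, hn⟩ := h2
    exact h.j2 q hq ⟨n, e.injective (by rw [map_pow, hn, map_one])⟩
  j1 := by
    obtain ⟨f⟩ := h.j1
    rw [closure_map₃]
    exact ⟨(e.subgroupMap (closure {i, j, a})).symm.trans f⟩

end

/-- **`FrontT` for `L₄(3)`** -/
theorem exists_frontT {F : Type*} [Field F] [Fintype F] (hF : Fintype.card F = 3) :
    ∃ (z : Matrix.ProjectiveSpecialLinearGroup (Fin 4) F) (R : Subgroup _)
      (i j k l a b : Matrix.ProjectiveSpecialLinearGroup (Fin 4) F), FrontT z R i j k l a b := by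
  obtain ⟨e⟩ := LargeExtra.W2.LFour.PslFacts.psl_congr F hF
  exact ⟨_, _, _, _, _, _, _, _, KL43.frontT.map e⟩

end Cfsg.Agent.OddHalf.D6.QThree.TS
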