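import Cfsg.Agent.OddHalf.D6.QThree.TS.Hyp
import Cfsg.Agent.OddHalf.D6.QThree.NIB.Alpha
import Cfsg.Agent.TwoFusion.FStarControl

/-!
# ODD half, D6, `K = L₄(3)`, `T = S`: the elements of odd order of `C_X(t)` centralise `E(X)` (helper931)

`BaseT.bt_of_abelian`: an abelian normal 2-subgroup of `X` lies in `B`. `BaseT.oddC_normal`: if the elements of odd
order of `C_X(t)` centralise the components of `X`, then they generate a normal subgroup of `X` (text of helper296
bb #16577 (E = 1) and helper518 bb #16999 (3)).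
-/

set_option autoImplicit false

namespace Cfsg.Agent.OddHalf.D6.QThree.TS

open Subgroup Cfsg
open Cfsg.Agent.OddHalf.D6.QThree.NISide
open Cfsg.Agent.OddHalf.D6.QThree.NIB (Bt)

namespace BaseT

variable {X : Type*} [Group X] {z t a₁ a₂ : X} {Q₁ Q₂ Q : Subgroup X} {S : Sylow 2 X}

/-- an abelian normal 2-subgroup centralised by `t` lies in `B` -/
theorem bt_of_abelian (h : BaseT z t a₁ a₂ Q₁ Q₂ Q S) {W : Subgroup X} (hn : ∀ g, g * t = t * g → ∀ w ∈ W, g * w * g⁻¹ ∈ W)
    (hp : IsPGroup 2 W) (hc : ∀ x ∈ W, ∀ y ∈ W, x * y = y * x) (ht : ∀ w ∈ W, w * t = t * w) :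
    ∀ w ∈ W, Bt t Q₁ Q₂ w := by
  intro w hw
  obtain ⟨x, hx, y, hy, b, hb, e⟩ := h.rad W ht hp hn w hw
  have hbz : Bt t Q₁ Q₂ z := ⟨(h.zc t).symm, fun q _ => (h.zc q).symm, fun q _ => (h.zc q).symm⟩
  have hone : ∀ u, (u = 1 ∨ u = z) → Bt t Q₁ Q₂ u := by
    rintro u (rfl | rfl)
    · exact Bt.one
    · exact hbz
  have hx' : x = 1 ∨ x = z := by
    by_contra hx0
    push Not at hx0
    apply h.s₁.act x hx hx0.1 hx0.2
    have h1 := hn a₁ h.s₁.a_t w hw
    have h2 := hc w hw _ h1
    have hab : a₁ * b = b * a₁ := (h.odd b hb a₁ h.s₁.a_t h.oa₁).symm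
    have hay : a₁ * y = y * a₁ := h.s₁.aD y hy
    have e1 : a₁ * w * a₁⁻¹ = (a₁ * x * a₁⁻¹) * (y * b) := by
      rw [e]
      calc a₁ * (x * y * b) * a₁⁻¹ = a₁ * x * a₁⁻¹ * (a₁ * y) * b * a₁⁻¹ := by group
        _ = a₁ * x * a₁⁻¹ * y * (a₁ * b) * a₁⁻¹ := by rw [hay]; group
        _ = a₁ * x * a₁⁻¹ * (y * b) := by rw [hab]; group
    set x' := a₁ * x * a₁⁻¹ with hx'd
    have hx'Q : x' ∈ Q₁ := h.s₁.aQ x hx
    have hu : ∀ q ∈ Q₁, (y * b) * q = q * (y * b) := by
      intro q hq
      rw [mul_assoc, hb.2.1 q hq, ← mul_assoc, ← h.comm q hq y hy, mul_assoc]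
    rw [e1, e] at h2
    have h3 : x * y * b * (x' * (y * b)) = x * x' * ((y * b) * (y * b)) := by
      calc x * y * b * (x' * (y * b)) = x * ((y * b) * x') * (y * b) := by group
        _ = x * x' * ((y * b) * (y * b)) := by rw [hu x' hx'Q]; group
    have h4 : x' * (y * b) * (x * y * b) = x' * x * ((y * b) * (y * b)) := by
      calc x' * (y * b) * (x * y * b) = x' * ((y * b) * x) * (y * b) := by group
        _ = x' * x * ((y * b) * (y * b)) := by rw [hu x hx]; group
    rw [h3, h4] at h2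
    exact mul_right_cancel h2
  have hy' : y = 1 ∨ y = z := by
    by_contra hy0
    push Not at hy0
    apply h.s₂.act y hy hy0.1 hy0.2
    have h1 := hn a₂ h.s₂.a_t w hw
    have h2 := hc w hw _ h1
    have hab : a₂ * b = b * a₂ := (h.odd b hb a₂ h.s₂.a_t h.oa₂).symm
    have hax : a₂ * x = x * a₂ := h.s₂.aD x hx
    have ew : w = y * (x * b) := by rw [e, h.comm x hx y hy]; group
    have e1 : a₂ * w * a₂⁻¹ = (a₂ * y * a₂⁻¹) * (x * b) := by
      rw [ew]
      calc a₂ * (y * (x * b)) * a₂⁻¹ = a₂ * y * a₂⁻¹ * (a₂ * x) * b * a₂⁻¹ := by group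
        _ = a₂ * y * a₂⁻¹ * x * (a₂ * b) * a₂⁻¹ := by rw [hax]; group
        _ = a₂ * y * a₂⁻¹ * (x * b) := by rw [hab]; group
    set y' := a₂ * y * a₂⁻¹ with hy'd
    have hy'Q : y' ∈ Q₂ := h.s₂.aQ y hy
    have hu : ∀ q ∈ Q₂, (x * b) * q = q * (x * b) := by
      intro q hq
      rw [mul_assoc, hb.2.2 q hq, ← mul_assoc, h.comm x hx q hq, mul_assoc]
    rw [e1, ew] at h2
    have h3 : y * (x * b) * (y' * (x * b)) = y * y' * ((x * b) * (x * b)) := by
      calc y * (x * b) * (y' * (x * b)) = y * ((x * b) * y') * (x * b) := by group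
        _ = y * y' * ((x * b) * (x * b)) := by rw [hu y' hy'Q]; group
    have h4 : y' * (x * b) * (y * (x * b)) = y' * y * ((x * b) * (x * b)) := by
      calc y' * (x * b) * (y * (x * b)) = y' * ((x * b) * y) * (x * b) := by group
        _ = y' * y * ((x * b) * (x * b)) := by rw [hu y hy]; group
    rw [h3, h4] at h2
    exact mul_right_cancel h2
  rw [e]
  exact ((hone x hx').mul (hone y hy')).mul hb

/-- **if the elements of odd order of `C_X(t)` centralise `E(X)`, then they generate a normal subgroup** -/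
theorem oddC_normal [Finite X] (h : BaseT z t a₁ a₂ Q₁ Q₂ Q S)
    (hc : ∀ M : Subgroup X, IsComponent M → ∀ d, d * t = t * d → Odd (orderOf d) → ∀ m ∈ M, d * m = m * d) :
    (oddC t).Normal := by
  have : Fact (Nat.Prime 2) := ⟨Nat.prime_two⟩
  set F := fittingSubgroup X with hFd
  have hFe : F = pCore 2 X :=
    Cfsg.Agent.SignalizersComponents.PConstrained.fittingSubgroup_eq_pCore_of_pPrimeCore_eq_bot 2 h.O
  have hF2 : IsPGroup 2 F := by
    rw [hFe]; exact Cfsg.Agent.Lib.Cores.pCore_isPGroup 2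
  have hFn : F.Normal := by
    rw [hFe]; infer_instance
  have hFS : F ≤ S := hF2.le_sylow_of_normal S
  have hFt : ∀ f ∈ F, f * t = t * f := fun f hf => h.St f (hFS hf)
  set Z : Subgroup X := F ⊓ centralizer (F : Set X) with hZd
  have hZn : Z.Normal := inferInstance
  have hZB : ∀ w ∈ Z, Bt t Q₁ Q₂ w := by
    apply h.bt_of_abelian (fun g _ w hw => hZn.conj_mem w hw g) (hF2.to_le inf_le_left)
    · intro x hx y hy
      exact (mem_centralizer_iff.1 hy.2 x hx.1)
    · exact fun w hw => hFt w hw.1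
  set A : Subgroup X := centralizer (layer X : Set X) ⊓ centralizer (Z : Set X) with hAd
  have hLn : (layer X).Normal := Cfsg.Agent.SignalizersComponents.Components.layer_normal X
  have hAn : A.Normal := inferInstance
  -- the elements of odd order of `A`
  have hA : ∀ x ∈ A, Odd (orderOf x) → x * t = t * x := by
    intro x hx ho
    set c := t * x * t⁻¹ * x⁻¹ with hcd
    have hcE : c ∈ centralizer (layer X : Set X) := by
      rw [hcd]
      have hn : (centralizer (layer X : Set X)).Normal := inferInstance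
      exact mul_mem (hn.conj_mem x hx.1 t) (inv_mem hx.1)
    have hcF : c ∈ centralizer (F : Set X) := by
      rw [mem_centralizer_iff]
      intro f hf
      have h1 : x⁻¹ * f * x ∈ F := by
        have := hFn.conj_mem f hf x⁻¹
        rwa [inv_inv] at this
      have h2 : (x⁻¹ * f * x) * t⁻¹ = t⁻¹ * (x⁻¹ * f * x) := by
        have h2 := hFt _ h1
        calc (x⁻¹ * f * x) * t⁻¹ = t⁻¹ * (t * (x⁻¹ * f * x)) * t⁻¹ := by group
          _ = t⁻¹ * (x⁻¹ * f * x) := by rw [← h2]; group
      have h3 := hFt f hf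
      calc f * c = (f * t) * x * t⁻¹ * x⁻¹ := by rw [hcd]; group
        _ = t * x * ((x⁻¹ * f * x) * t⁻¹) * x⁻¹ := by rw [h3]; group
        _ = t * x * t⁻¹ * x⁻¹ * f := by rw [h2]; group
        _ = c * f := by rw [hcd]
    have hcFF : c ∈ F := by
      apply Cfsg.Agent.TwoFusion.FStarControl.centralizer_genFitting_le_fitting
      rw [generalizedFittingSubgroup, mem_centralizer_iff]
      intro y hy
      have h1 : layer X ⊔ fittingSubgroup X ≤ centralizer ({c} : Set X) := by
        rw [sup_le_iff]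
        constructor
        · intro y hy
          rw [mem_centralizer_singleton_iff]
          exact (mem_centralizer_iff.1 hcE y hy)
        · intro y hy
          rw [mem_centralizer_singleton_iff]
          exact (mem_centralizer_iff.1 hcF y hy)
      exact mem_centralizer_singleton_iff.1 (h1 hy)
    have hcZ : c ∈ Z := ⟨hcFF, hcF⟩
    have hxc : x * c = c * x := (mem_centralizer_iff.1 hx.2 c hcZ).symm
    have h1 : t * x * t⁻¹ = c * x := by rw [hcd]; group
    have h2 : (t * x * t⁻¹) ^ orderOf x = 1 := by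
      rw [conj_pow, pow_orderOf_eq_one]; group
    have h3 : c ^ orderOf x = 1 := by
      have hcm : Commute c x := hxc.symm
      rw [h1, hcm.mul_pow, pow_orderOf_eq_one, mul_one] at h2
      exact h2
    obtain ⟨k, hk⟩ := hF2 ⟨c, hcFF⟩
    have hk' : c ^ 2 ^ k = 1 := congrArg Subtype.val hk
    have h4 : c = 1 := by
      have h5 : orderOf c ∣ orderOf x := orderOf_dvd_of_pow_eq_one h3
      have h6 : orderOf c ∣ 2 ^ k := orderOf_dvd_of_pow_eq_one hk'
      have h7 : Nat.Coprime (orderOf x) (2 ^ k) := Nat.Coprime.pow_right k ho.coprime_two_right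
      have h8 : orderOf c = 1 := Nat.eq_one_of_dvd_coprimes h7 h5 h6
      exact orderOf_eq_one_iff.1 h8
    rw [h4, one_mul] at h1
    calc x * t = (t * x * t⁻¹) * t := by rw [h1]
      _ = t * x := by group
  have hset : ∀ d, d * t = t * d → Odd (orderOf d) → d ∈ A := by
    intro d hd ho
    refine mem_inf.2 ⟨?_, ?_⟩
    · have h1 : layer X ≤ centralizer ({d} : Set X) := by
        rw [Cfsg.Agent.SignalizersComponents.Components.layer_le_iff]
        intro K hK k hk
        rw [mem_centralizer_singleton_iff]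
        exact (hc K hK d hd ho k hk).symm
      rw [mem_centralizer_iff]
      intro y hy
      exact mem_centralizer_singleton_iff.1 (h1 hy)
    · rw [mem_centralizer_iff]
      intro w hw
      exact h.odd w (hZB w hw) d hd ho
  refine ⟨fun x hx g => ?_⟩
  unfold oddC at hx ⊢
  refine closure_induction (p := fun x _ => g * x * g⁻¹ ∈ closure {d : X | d * t = t * d ∧ Odd (orderOf d)})
    ?_ ?_ ?_ ?_ hx
  · rintro d ⟨hd, ho⟩
    have h1 : g * d * g⁻¹ ∈ A := hAn.conj_mem d (hset d hd ho) g
    have h2 : orderOf (g * d * g⁻¹) = orderOf d := by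
      have := orderOf_injective (MulAut.conj g).toMonoidHom (MulAut.conj g).injective d
      simpa using this
    have h3 : Odd (orderOf (g * d * g⁻¹)) := by rw [h2]; exact ho
    exact subset_closure ⟨hA _ h1 h3, h3⟩
  · rw [mul_one, mul_inv_cancel]; exact one_mem _
  · intro x y _ _ hx hy
    have : g * (x * y) * g⁻¹ = g * x * g⁻¹ * (g * y * g⁻¹) := by group
    rw [this]; exact mul_mem hx hy
  · intro x _ hx
    have : g * x⁻¹ * g⁻¹ = (g * x * g⁻¹)⁻¹ := by group
    rw [this]; exact inv_mem hx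

end BaseT

end Cfsg.Agent.OddHalf.D6.QThree.TS
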