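import Cfsg.Agent.OddHalf.D6.QThree.TS.AlphaEnd
import Cfsg.Agent.OddHalf.D6.QThree.TS.BetaOne
import Cfsg.Agent.OddHalf.D6.QThree.TS.BetaTwo
import Cfsg.Agent.OddHalf.D6.QThree.TS.OddNormal

/-!
# ODD half, D6, `K = L₄(3)`, `T = S` (text of helper296, bb #16577): the conclusion for `X = C_G(z)`
-/

set_option autoImplicit false

namespace Cfsg.Agent.OddHalf.D6.QThree.TS

open Subgroup Cfsg
open Cfsg.Agent.SignalizersComponents.Components
open Cfsg.Agent.Cit (cj mem_cj conj_mem_cj)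
open Cfsg.Agent.OddHalf.D6.QThree.NISide
open Cfsg.Agent.OddHalf.D6.QThree.NIB (Bt)

variable {X : Type*} [Group X] {z t a₁ a₂ : X} {Q₁ Q₂ Q : Subgroup X} {S : Sylow 2 X}

/-- the swap is onto -/
theorem onto_of_swap [Finite X] {A B : Subgroup X} {p : X} (h1 : ∀ x ∈ A, p * x * p⁻¹ ∈ B)
    (h2 : ∀ x ∈ B, p * x * p⁻¹ ∈ A) {y : X} (hy : y ∈ B) : ∃ x ∈ A, p * x * p⁻¹ = y := by
  have e1 : A.map (MulAut.conj p).toMonoidHom ≤ B := by
    rintro _ ⟨x, hx, rfl⟩; exact h1 x hx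
  have e2 : B.map (MulAut.conj p).toMonoidHom ≤ A := by
    rintro _ ⟨x, hx, rfl⟩; exact h2 x hx
  have c1 : Nat.card (A.map (MulAut.conj p).toMonoidHom) = Nat.card A :=
    card_map_of_injective (MulAut.conj p).injective
  have c2 : Nat.card (B.map (MulAut.conj p).toMonoidHom) = Nat.card B :=
    card_map_of_injective (MulAut.conj p).injective
  have d1 := Subgroup.card_le_of_le e1
  have d2 := Subgroup.card_le_of_le e2
  have e3 : A.map (MulAut.conj p).toMonoidHom = B := Subgroup.eq_of_le_of_card_ge e1 (by omega)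
  rw [← e3] at hy
  obtain ⟨x, hx, rfl⟩ := hy
  exact ⟨x, hx, rfl⟩

/-- `Q₁` lies in at most one component -/
theorem BaseT.uniq₁ [Finite X] (h : BaseT z t a₁ a₂ Q₁ Q₂ Q S) {M M' : Subgroup X} (hM : IsComponent M)
    (hM' : IsComponent M') (h1 : Q₁ ≤ M) (h2 : Q₁ ≤ M') : M' = M := by
  by_contra hne
  obtain ⟨q, hq, hq1, hqz⟩ := h.s₁.exists_ne
  exact h.s₁.act q hq hq1 hqz
    (Cfsg.Agent.Cit.Comp.comm_of_ne hM hM' (fun e => hne e.symm) (h1 hq) (h2 (h.s₁.aQ q hq)))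

/-- **the conclusion** -/
theorem HypT.main [Finite X] (h : HypT z t a₁ a₂ Q₁ Q₂ Q S) :
    NI.Hyp.CA z ∨ (oddC t).Normal ∨
      ∃ M : Subgroup X, IsComponent M ∧ M.Normal ∧ Q₁ ≤ M ∧ Q₂ ≤ M ∧
        ∀ y ∈ centralizer (M : Set X), y = 1 ∨ y = z := by
  by_cases hA : ∃ M : Subgroup X, IsComponent M ∧ (Q₁ ≤ M ∨ Q₂ ≤ M)
  · obtain ⟨M, hM, hMQ⟩ := hA
    obtain ⟨p, -, hp1, hp2⟩ := h.swap
    have hMp : IsComponent (cj p M) := Cfsg.Agent.Cit.Comp.isComponent_cj hM p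
    by_cases h1 : Q₁ ≤ M
    · by_cases h2 : Q₂ ≤ M
      · right; right
        have only : ∀ M' : Subgroup X, IsComponent M' → M' = M := by
          intro M' hM'
          by_cases h3 : Q₁ ≤ M'
          · exact h.uniq₁ hM hM' h1 h3
          · by_cases h4 : Q₂ ≤ M'
            · exact h.symm.uniq₁ hM hM' h2 h4
            · exact ((h.alpha_end hM' h3 h4).2 M hM).symm
        obtain ⟨e1, e2⟩ := h.beta_two hM h1 h2 only
        exact ⟨M, hM, e1, h1, h2, e2⟩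
      · left
        have h3 : Q₂ ≤ cj p M := by
          intro y hy
          obtain ⟨x, hx, rfl⟩ := onto_of_swap hp1 hp2 hy
          exact conj_mem_cj (h1 hx)
        exact h.beta_one' hM hMp (fun e => h2 (e ▸ h3)) h1 h3
    · left
      have h2 : Q₂ ≤ M := hMQ.resolve_left h1
      have h3 : Q₁ ≤ cj p M := by
        intro y hy
        obtain ⟨x, hx, rfl⟩ := onto_of_swap hp2 hp1 hy
        exact conj_mem_cj (h2 hx)
      exact h.beta_one' hMp hM (fun e => h1 (e ▸ h3)) h3 h2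
  · push Not at hA
    right; left
    apply h.oddC_normal
    intro M hM d hdt hdo m hm
    exact (h.alpha_end hM (hA M hM).1 (hA M hM).2).1 d (subset_closure ⟨hdt, hdo⟩) m hm

end Cfsg.Agent.OddHalf.D6.QThree.TS
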