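import Cfsg.Agent.StrongEmb.Strong

/-!
# ODD half, D6, `L₄(3)`, `T = S`: groups acting trivially on a strongly embedded subgroup

`trivial_of_fix`: a group `D` without nontrivial 2-quotients acting on a simple group `N` and trivially on a strongly
embedded subgroup `Γ` acts trivially: `D` acts on the cosets `g Γ ≠ Γ` and commutes with the regular action of the
2-group `Q` of Bender's theorem.
-/

set_option autoImplicit false

namespace Cfsg.Agent.OddHalf.D6.QThree.TS

open Subgroup Cfsg Cfsg.Agent.StrongEmb.Split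

theorem trivial_of_fix {N : Type*} [Group N] [Finite N] [IsSimpleGroup N] (hna : ∃ a b : N, a * b ≠ b * a)
    {Γ : Subgroup N} (hΓ : IsStronglyEmbedded Γ) {D : Type*} [Group D] (φ : D →* MulAut N)
    (hfix : ∀ d, ∀ x ∈ Γ, φ d x = x) (hD : ∀ P : Subgroup D, P.Normal → (∀ d : D, ∃ k : ℕ, d ^ 2 ^ k ∈ P) → P = ⊤) :
    ∀ d x, φ d x = x := by
  obtain ⟨Q, hs, hQ⟩ := Cfsg.Agent.StrongEmb.Strong.exists_isSplit hna Γ hΓ
  have hout : ∀ d, ∀ g, g ∉ Γ → φ d g ∉ Γ := by
    intro d g hg h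
    have h1 := hfix d _ h
    have h2 : φ d g = g := (φ d).injective h1
    rw [h2] at h
    exact hg h
  -- `D` fixes all the cosets
  have key : ∀ g, g ∉ Γ → ∀ d, g⁻¹ * φ d g ∈ Γ := by
    intro g hg
    have hex : ∀ d, ∃ u ∈ Q, (φ d g)⁻¹ * (u * g) ∈ Γ := fun d => hs.trans g (φ d g) hg (hout d g hg)
    choose θ hθQ hθ using hex
    have huniq : ∀ u ∈ Q, ∀ v ∈ Q, ∀ x, (x⁻¹ * (u * g)) ∈ Γ → (x⁻¹ * (v * g)) ∈ Γ → u = v := by
      intro u hu v hv x h1 h2
      have h3 : g⁻¹ * (v⁻¹ * u * g) ∈ Γ := by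
        have h4 := Γ.mul_mem (Γ.inv_mem h2) h1
        have h5 : (x⁻¹ * (v * g))⁻¹ * (x⁻¹ * (u * g)) = g⁻¹ * (v⁻¹ * u * g) := by group
        rwa [h5] at h4
      have h6 := hs.reg g hg _ (Q.mul_mem (Q.inv_mem hv) hu) h3
      exact (inv_mul_eq_one.mp h6).symm
    have hmul : ∀ c d, θ (c * d) = θ d * θ c := by
      intro c d
      refine huniq _ (hθQ _) _ (Q.mul_mem (hθQ _) (hθQ _)) (φ (c * d) g) (hθ _) ?_
      -- `φ_c (φ_d g) ∈ θ_d φ_c(g) Γ`
      have h1 := hθ d
      have h2 := hfix c _ h1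
      rw [map_mul, map_inv, map_mul, hfix c _ (hs.le (hθQ d))] at h2
      have h3 := hθ c
      have h4 : (φ (c * d) g)⁻¹ * (θ d * θ c * g) =
          ((φ c (φ d g))⁻¹ * (θ d * φ c g)) * ((φ c g)⁻¹ * (θ c * g)) := by
        rw [map_mul, MulAut.mul_apply]; group
      rw [h4]
      refine Γ.mul_mem ?_ h3
      rw [h2]
      exact h1
    have hone : θ 1 = 1 := by
      refine huniq _ (hθQ _) _ Q.one_mem (φ 1 g) (hθ _) ?_
      rw [map_one, MulAut.one_apply, one_mul, inv_mul_cancel]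
      exact Γ.one_mem
    let P : Subgroup D :=
      { carrier := {d | θ d = 1}
        mul_mem' := by
          intro c d hc hd
          show θ (c * d) = 1
          rw [hmul, show θ c = 1 from hc, show θ d = 1 from hd, one_mul]
        one_mem' := hone
        inv_mem' := by
          intro d hd
          have h1 := hmul d d⁻¹
          rw [mul_inv_cancel, hone, show θ d = 1 from hd, mul_one] at h1
          exact h1.symm }
    have hP : P = ⊤ := by
      refine hD P ⟨?_⟩ ?_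
      · intro d hd c
        show θ (c * d * c⁻¹) = 1
        rw [hmul, hmul, show θ d = 1 from hd, one_mul, ← hmul, mul_inv_cancel, hone]
      · intro d
        obtain ⟨k, hk⟩ := hQ ⟨θ d, hθQ d⟩
        refine ⟨k, ?_⟩
        have hpow : ∀ n : ℕ, θ (d ^ n) = θ d ^ n := by
          intro n
          induction n with
          | zero => rw [pow_zero, pow_zero, hone]
          | succ n ih => rw [pow_succ', hmul, ih, pow_succ]
        show θ (d ^ 2 ^ k) = 1
        rw [hpow]
        exact congrArg Subtype.val hk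
    intro d
    have h1 : θ d = 1 := by
      have : d ∈ P := by rw [hP]; trivial
      exact this
    have h2 := hθ d
    rw [h1, one_mul] at h2
    have h3 := Γ.inv_mem h2
    have h4 : ((φ d g)⁻¹ * g)⁻¹ = g⁻¹ * φ d g := by group
    rwa [h4] at h3
  -- `[N, D]` is normal and in `Γ`
  intro d
  let W : Subgroup N := closure (Set.range fun g : N => g⁻¹ * φ d g)
  have hWΓ : W ≤ Γ := by
    rw [closure_le]
    rintro _ ⟨g, rfl⟩
    by_cases hg : g ∈ Γ
    · have : g⁻¹ * φ d g = 1 := by rw [hfix d g hg, inv_mul_cancel]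
      show g⁻¹ * φ d g ∈ Γ
      rw [this]; exact Γ.one_mem
    · exact key g hg d
  have hgen : ∀ g, g⁻¹ * φ d g ∈ W := fun g => subset_closure ⟨g, rfl⟩
  have hn : W.Normal := by
    refine ⟨?_⟩
    intro w hw x
    refine closure_induction (p := fun w _ => x * w * x⁻¹ ∈ W) ?_ ?_ ?_ ?_ hw
    · rintro _ ⟨g, rfl⟩
      have h1 := W.mul_mem (hgen (g * x⁻¹)) (W.inv_mem (hgen x⁻¹))
      have h2 : (g * x⁻¹)⁻¹ * φ d (g * x⁻¹) * (x⁻¹⁻¹ * φ d x⁻¹)⁻¹ = x * (g⁻¹ * φ d g) * x⁻¹ := by
        rw [map_mul, map_inv]; group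
      rwa [h2] at h1
    · rw [mul_one, mul_inv_cancel]; exact W.one_mem
    · intro a b _ _ ha hb
      have h1 := W.mul_mem ha hb
      have h2 : x * a * x⁻¹ * (x * b * x⁻¹) = x * (a * b) * x⁻¹ := by group
      rwa [h2] at h1
    · intro a _ ha
      have h1 := W.inv_mem ha
      have h2 : (x * a * x⁻¹)⁻¹ = x * a⁻¹ * x⁻¹ := by group
      rwa [h2] at h1
  have hW : W = ⊥ := by
    rcases hn.eq_bot_or_eq_top with h1 | h1
    · exact h1
    · exfalso
      apply hΓ.1
      rw [eq_top_iff, ← h1]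
      exact hWΓ
  intro x
  have h1 := hgen x
  rw [hW, mem_bot] at h1
  exact (inv_mul_eq_one.mp h1).symm

end Cfsg.Agent.OddHalf.D6.QThree.TS
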